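import Mathlib
import Cfsg.Agent.Lib.Forms.Max.Linear
import Cfsg.Agent.Aschbacher.Un.Coordinates

/-!
# Tensor decompositions: rows, pure tensors and unitriangular groups
-/

set_option autoImplicit false
set_option linter.unusedSectionVars false

namespace Cfsg.Agent.Forms.Max.TensorMax

open Matrix Cfsg.Agent.Aschbacher
open scoped Kronecker

variable {F : Type*} [Field F] {k n : ℕ}

/-- the element `a ⊗ b` -/
noncomputable def kr (a : GL (Fin k) F) (b : GL (Fin n) F) : GL (Fin k × Fin n) F := kronUnit (a, b)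

theorem kr_coe (a : GL (Fin k) F) (b : GL (Fin n) F) :
    (kr a b : Matrix (Fin k × Fin n) (Fin k × Fin n) F) = (a : Matrix _ _ F) ⊗ₖ (b : Matrix _ _ F) := rfl

theorem kr_mul (a a' : GL (Fin k) F) (b b' : GL (Fin n) F) : kr a b * kr a' b' = kr (a * a') (b * b') := by
  rw [kr, kr, kr, ← map_mul, Prod.mk_mul_mk]

theorem kr_one : kr (1 : GL (Fin k) F) (1 : GL (Fin n) F) = 1 := by
  rw [kr, ← Prod.one_eq_mk, map_one]

theorem kr_inv (a : GL (Fin k) F) (b : GL (Fin n) F) : (kr a b)⁻¹ = kr a⁻¹ b⁻¹ := by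
  rw [kr, kr, ← map_inv, Prod.inv_mk]

theorem kr_pow (a : GL (Fin k) F) (b : GL (Fin n) F) (t : ℕ) : kr a b ^ t = kr (a ^ t) (b ^ t) := by
  rw [kr, kr, ← map_pow, Prod.pow_mk]

theorem kr_mem_SL {a : GL (Fin k) F} {b : GL (Fin n) F} (ha : (a : Matrix (Fin k) (Fin k) F).det = 1)
    (hb : (b : Matrix (Fin n) (Fin n) F).det = 1) : kr a b ∈ Cfsg.Geo.specialLinear (Fin k × Fin n) F := by
  rw [Aschbacher.mem_specialLinear, kr_coe, det_kronecker, ha, hb, one_pow, one_pow, one_mul]

/-- `x ⊗ y` -/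
def pure (u : Fin k → F) (w : Fin n → F) : Fin k × Fin n → F := fun a => u a.1 * w a.2

/-- the rows of a tensor -/
def row (x : Fin k × Fin n → F) (i : Fin k) : Fin n → F := fun r => x (i, r)

theorem row_pure (u : Fin k → F) (w : Fin n → F) (i : Fin k) : row (pure u w) i = u i • w := rfl

theorem ext_row {x y : Fin k × Fin n → F} (h : ∀ i, row x i = row y i) : x = y :=
  funext fun a => congrFun (h a.1) a.2

theorem kr_pure (a : GL (Fin k) F) (b : GL (Fin n) F) (u : Fin k → F) (w : Fin n → F) :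
    (kr a b : Matrix (Fin k × Fin n) (Fin k × Fin n) F) *ᵥ pure u w = pure ((a : Matrix (Fin k) (Fin k) F) *ᵥ u) ((b : Matrix (Fin n) (Fin n) F) *ᵥ w) := by
  funext ⟨i, r⟩
  simp only [kr_coe, pure, mulVec, dotProduct, kroneckerMap_apply, Fintype.sum_prod_type, Finset.sum_mul_sum]
  exact Finset.sum_congr rfl fun j _ => Finset.sum_congr rfl fun l _ => by ring

theorem row_one_kron (b : Matrix (Fin n) (Fin n) F) (x : Fin k × Fin n → F) (i : Fin k) :
    row (((1 : Matrix (Fin k) (Fin k) F) ⊗ₖ b) *ᵥ x) i = b *ᵥ row x i := by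
  funext r
  simp only [row, mulVec, dotProduct, kroneckerMap_apply, Fintype.sum_prod_type]
  rw [Finset.sum_eq_single i (fun j _ hj => by simp [Matrix.one_apply_ne' hj]) (by simp)]
  simp

theorem sum_rows (x : Fin k × Fin n → F) : x = ∑ i, pure (Pi.single i 1) (row x i) := by
  funext ⟨j, r⟩
  rw [Finset.sum_apply, Finset.sum_eq_single j (fun i _ hi => by simp [pure, Pi.single_eq_of_ne' hi]) (by simp)]
  simp [pure, row]

/-- pure tensors as a bilinear map -/
def pureL (u : Fin k → F) : (Fin n → F) →ₗ[F] (Fin k × Fin n → F) where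
  toFun w := pure u w
  map_add' w w' := funext fun a => mul_add _ _ _
  map_smul' c w := funext fun a => by simp [pure, mul_left_comm]

theorem pureL_apply (u : Fin k → F) (w : Fin n → F) : pureL u w = pure u w := rfl

/-- tensors with all rows in a subspace -/
def UT (k : ℕ) (T : Submodule F (Fin n → F)) : Submodule F (Fin k × Fin n → F) where
  carrier := {x | ∀ i, row x i ∈ T}
  add_mem' hx hy i := T.add_mem (hx i) (hy i)
  zero_mem' _ := T.zero_mem
  smul_mem' c _ hx i := T.smul_mem c (hx i)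

theorem mem_UT {T : Submodule F (Fin n → F)} {x : Fin k × Fin n → F} : x ∈ UT k T ↔ ∀ i, row x i ∈ T := Iff.rfl

theorem pure_mem_UT {T : Submodule F (Fin n → F)} (u : Fin k → F) {w : Fin n → F} (hw : w ∈ T) :
    pure u w ∈ UT k T := fun i => by rw [row_pure]; exact T.smul_mem _ hw

theorem finrank_UT (T : Submodule F (Fin n → F)) : Module.finrank F (UT k T) = k * Module.finrank F T := by
  let e : UT k T ≃ₗ[F] (Fin k → T) :=
    { toFun := fun x i => ⟨row x.1 i, x.2 i⟩
      invFun := fun y => ⟨fun a => (y a.1).1 a.2, fun i => (y i).2⟩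
      left_inv := fun x => rfl
      right_inv := fun y => rfl
      map_add' := fun x y => rfl
      map_smul' := fun c x => rfl }
  rw [e.finrank_eq, Module.finrank_pi_fintype]
  simp

/-- the displacement space -/
noncomputable def mov {ι : Type} [Fintype ι] [DecidableEq ι] (g : Matrix ι ι F) : Submodule F (ι → F) :=
  LinearMap.range (Matrix.toLin' (g - 1))

theorem mem_mov {ι : Type} [Fintype ι] [DecidableEq ι] {g : Matrix ι ι F} {x : ι → F} :
    x ∈ mov g ↔ ∃ y, g *ᵥ y - y = x := by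
  simp [mov, Matrix.toLin'_apply, Matrix.sub_mulVec]

theorem mov_conj {ι : Type} [Fintype ι] [DecidableEq ι] (g x : GL ι F) :
    mov ((g * x * g⁻¹ : GL ι F) : Matrix ι ι F) = img g (mov (x : Matrix ι ι F)) := by
  ext v
  rw [mem_mov, mem_img]
  constructor
  · rintro ⟨y, rfl⟩
    refine ⟨_, mem_mov.2 ⟨((g⁻¹ : GL ι F) : Matrix ι ι F) *ᵥ y, rfl⟩, ?_⟩
    rw [Matrix.mulVec_sub, mulVec_inv_cancel, mulVec_mul_GL, mulVec_mul_GL]
  · rintro ⟨w, hw, rfl⟩
    obtain ⟨y, rfl⟩ := mem_mov.1 hw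
    refine ⟨(g : Matrix ι ι F) *ᵥ y, ?_⟩
    rw [mulVec_mul_GL, mulVec_mul_GL, inv_mulVec_cancel, Matrix.mulVec_sub]

theorem mov_one_kron (b : Matrix (Fin n) (Fin n) F) :
    mov ((1 : Matrix (Fin k) (Fin k) F) ⊗ₖ b) = UT k (mov b) := by
  ext v
  rw [mem_mov, mem_UT]
  constructor
  · rintro ⟨y, rfl⟩ i
    refine mem_mov.2 ⟨row y i, ?_⟩
    rw [← row_one_kron]; rfl
  · intro h
    choose y hy using fun i => mem_mov.1 (h i)
    refine ⟨fun a => y a.1 a.2, ext_row fun i => ?_⟩
    show row (((1 : Matrix (Fin k) (Fin k) F) ⊗ₖ b) *ᵥ _) i - y i = _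
    rw [row_one_kron]
    exact hy i

/-- strictly upper triangular -/
def SU (E : Matrix (Fin n) (Fin n) F) : Prop := ∀ i j, j ≤ i → E i j = 0

theorem SU.pow {E : Matrix (Fin n) (Fin n) F} (h : SU E) :
    ∀ d : ℕ, ∀ i j : Fin n, (j : ℕ) < i + d → (E ^ d) i j = 0
  | 0, i, j, hij => by
    rw [pow_zero, Matrix.one_apply_ne (fun e => by rw [e, add_zero] at hij; exact lt_irrefl _ hij)]
  | d + 1, i, j, hij => by
    rw [pow_succ, Matrix.mul_apply]
    refine Finset.sum_eq_zero fun l _ => ?_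
    by_cases hl : (l : ℕ) < i + d
    · rw [SU.pow h d i l hl, zero_mul]
    · rw [h l j (by rw [Fin.le_iff_val_le_val]; omega), mul_zero]

theorem SU.nilpotent {E : Matrix (Fin n) (Fin n) F} (h : SU E) : E ^ n = 0 :=
  Matrix.ext fun i j => h.pow n i j (by omega)

/-- upper unitriangular invertible matrices -/
def Uni (F : Type*) [Field F] [Fintype F] (n : ℕ) : Subgroup (GL (Fin n) F) where
  carrier := {g | SU ((g : Matrix (Fin n) (Fin n) F) - 1)}
  one_mem' := fun i j _ => by simp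
  mul_mem' {g h} hg hh i j hij := by
    have e : ((g * h : GL (Fin n) F) : Matrix (Fin n) (Fin n) F) - 1 =
        ((g : Matrix (Fin n) (Fin n) F) - 1) * ((h : Matrix (Fin n) (Fin n) F) - 1) +
          ((g : Matrix (Fin n) (Fin n) F) - 1) + ((h : Matrix (Fin n) (Fin n) F) - 1) := by
      rw [Units.val_mul]; noncomm_ring
    rw [e, Matrix.add_apply, Matrix.add_apply, hg i j hij, hh i j hij, Matrix.mul_apply, add_zero, add_zero]
    refine Finset.sum_eq_zero fun l _ => ?_
    by_cases hl : l ≤ i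
    · rw [hg i l hl, zero_mul]
    · rw [hh l j (hij.trans (le_of_lt (not_le.1 hl))), mul_zero]
  inv_mem' {g} hg := by
    haveI : Finite (GL (Fin n) F) := inferInstance
    have hpow : ∀ t : ℕ, SU (((g ^ t : GL (Fin n) F) : Matrix (Fin n) (Fin n) F) - 1) := fun t => by
      induction t with
      | zero => intro i j _; simp
      | succ t ih =>
        intro i j hij
        have e : ((g ^ (t + 1) : GL (Fin n) F) : Matrix (Fin n) (Fin n) F) - 1 =
            (((g ^ t : GL (Fin n) F) : Matrix (Fin n) (Fin n) F) - 1) * ((g : Matrix (Fin n) (Fin n) F) - 1) +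
              (((g ^ t : GL (Fin n) F) : Matrix (Fin n) (Fin n) F) - 1) + ((g : Matrix (Fin n) (Fin n) F) - 1) := by
          rw [pow_succ, Units.val_mul]; noncomm_ring
        rw [e, Matrix.add_apply, Matrix.add_apply, ih i j hij, hg i j hij, Matrix.mul_apply, add_zero, add_zero]
        refine Finset.sum_eq_zero fun l _ => ?_
        by_cases hl : l ≤ i
        · rw [ih i l hl, zero_mul]
        · rw [hg l j (hij.trans (le_of_lt (not_le.1 hl))), mul_zero]
    obtain ⟨t, ht⟩ : ∃ t, g ^ t = g⁻¹ := by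
      refine ⟨orderOf g - 1, eq_inv_of_mul_eq_one_left ?_⟩
      rw [← pow_succ, Nat.sub_add_cancel (orderOf_pos g), pow_orderOf_eq_one]
    show SU _
    rw [← ht]
    exact hpow t

theorem mem_Uni [Fintype F] {g : GL (Fin n) F} :
    g ∈ Uni F n ↔ SU ((g : Matrix (Fin n) (Fin n) F) - 1) := Iff.rfl

theorem Uni.lower [Fintype F] {g : GL (Fin n) F} (hg : g ∈ Uni F n) {i j : Fin n} (h : j < i) :
    (g : Matrix (Fin n) (Fin n) F) i j = 0 := by
  simpa [Matrix.one_apply_ne h.ne'] using hg i j h.le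

theorem Uni.diag [Fintype F] {g : GL (Fin n) F} (hg : g ∈ Uni F n) (i : Fin n) :
    (g : Matrix (Fin n) (Fin n) F) i i = 1 := by
  simpa [sub_eq_zero] using hg i i le_rfl

theorem Uni.exists_pow [Fintype F] (p : ℕ) [Fact p.Prime] [CharP F p] {g : GL (Fin n) F} (hg : g ∈ Uni F n) :
    g ^ p ^ n = 1 := by
  rcases Nat.eq_zero_or_pos n with rfl | hn
  · exact Units.ext (Matrix.ext fun i => i.elim0)
  haveI : NeZero n := ⟨hn.ne'⟩
  refine Units.ext ?_
  rw [Units.val_pow_eq_pow_val, Units.val_one]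
  have h1 : ((g : Matrix (Fin n) (Fin n) F) - 1) ^ p ^ n = 0 :=
    pow_eq_zero_of_le (Nat.lt_pow_self (Fact.out : p.Prime).one_lt).le (SU.nilpotent hg)
  rwa [sub_pow_char_pow_of_commute _ _ (Commute.one_right _), one_pow, sub_eq_zero] at h1

theorem det_eq_one_of_pow {ι : Type} [Fintype ι] [DecidableEq ι] (p : ℕ) [Fact p.Prime] [CharP F p]
    {g : Matrix ι ι F} {t : ℕ} (h : g ^ p ^ t = 1) : g.det = 1 := by
  have h1 : g.det ^ p ^ t = 1 := by rw [← Matrix.det_pow, h, Matrix.det_one]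
  have h2 : (g.det - 1) ^ p ^ t = 0 := by rw [sub_pow_char_pow, h1, one_pow, sub_self]
  exact sub_eq_zero.1 (eq_zero_of_pow_eq_zero h2)

theorem eq_one_of_pow (p : ℕ) [Fact p.Prime] [CharP F p] {x : F} {t : ℕ} (h : x ^ p ^ t = 1) : x = 1 := by
  have h2 : (x - 1) ^ p ^ t = 0 := by rw [sub_pow_char_pow, h, one_pow, sub_self]
  exact sub_eq_zero.1 (eq_zero_of_pow_eq_zero h2)

theorem Uni.det [Fintype F] {g : GL (Fin n) F} (hg : g ∈ Uni F n) : (g : Matrix (Fin n) (Fin n) F).det = 1 := by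
  rw [Matrix.det_of_isUpperTriangular (M := (g : Matrix (Fin n) (Fin n) F)) fun i j h => Uni.lower hg h]
  exact Finset.prod_eq_one fun i _ => Uni.diag hg i

/-- the elements of small displacement in `U ⊗ U` lie in the second factor -/
theorem eq_of_small [Fintype F] (hkn : k < n) {a : GL (Fin k) F} (ha : a ∈ Uni F k) {b : GL (Fin n) F}
    (h : Module.finrank F (mov (kr a b : Matrix (Fin k × Fin n) (Fin k × Fin n) F)) ≤ k) : a = 1 := by
  classical
  by_contra hne
  obtain ⟨i, j, hij⟩ : ∃ i j, ((a : Matrix (Fin k) (Fin k) F) - 1) i j ≠ 0 := by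
    by_contra hc
    push Not at hc
    exact hne (Units.ext (sub_eq_zero.1 (Matrix.ext hc)))
  -- the first moved column
  set s := Finset.univ.filter fun j => ∃ i, ((a : Matrix (Fin k) (Fin k) F) - 1) i j ≠ 0
  obtain ⟨j₀, hj₀, hmin⟩ := s.exists_minimal ⟨j, Finset.mem_filter.2 ⟨Finset.mem_univ _, i, hij⟩⟩
  obtain ⟨i₀, hi₀⟩ := (Finset.mem_filter.1 hj₀).2
  have hi₀j : i₀ < j₀ := not_le.1 fun h => hi₀ (ha i₀ j₀ h)
  let f : (Fin n → F) →ₗ[F] (Fin k × Fin n → F) :=
    (Matrix.toLin' ((kr a b : Matrix (Fin k × Fin n) (Fin k × Fin n) F) - 1)).comp (pureL (Pi.single j₀ 1))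
  have hf : ∀ y, f y = pure ((a : Matrix (Fin k) (Fin k) F) *ᵥ Pi.single j₀ 1) ((b : Matrix (Fin n) (Fin n) F) *ᵥ y) -
      pure (Pi.single j₀ 1) y := fun y => by
    simp only [f, LinearMap.comp_apply, pureL_apply, Matrix.toLin'_apply, Matrix.sub_mulVec, Matrix.one_mulVec,
      kr_pure]
  have hinj : Function.Injective f := (injective_iff_map_eq_zero f).2 fun y hy => by
    have hy' : ∀ i, row (f y) i = 0 := fun i => by rw [hy]; rfl
    have e1 := hy' i₀
    have e2 := hy' j₀
    rw [hf] at e1 e2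
    have c1 : (a : Matrix (Fin k) (Fin k) F) i₀ j₀ ≠ 0 := by
      simpa [Matrix.one_apply_ne hi₀j.ne] using hi₀
    have c2 : (a : Matrix (Fin k) (Fin k) F) j₀ j₀ = 1 := Uni.diag ha j₀
    have e1' : (a : Matrix (Fin k) (Fin k) F) i₀ j₀ • ((b : Matrix (Fin n) (Fin n) F) *ᵥ y) = 0 := by
      funext r
      simpa [row, pure, Pi.single_eq_of_ne hi₀j.ne] using congrFun e1 r
    have e2' : (b : Matrix (Fin n) (Fin n) F) *ᵥ y - y = 0 := by
      funext r
      simpa [row, pure, c2] using congrFun e2 r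
    rw [(smul_eq_zero.1 e1').resolve_left c1, zero_sub, neg_eq_zero] at e2'
    exact e2'
  have h1 := LinearMap.finrank_range_of_inj hinj
  have h2 : LinearMap.range f ≤ mov (kr a b : Matrix (Fin k × Fin n) (Fin k × Fin n) F) := LinearMap.range_comp_le_range _ _
  have h3 := Submodule.finrank_mono h2
  rw [h1, Module.finrank_fintype_fun_eq_card, Fintype.card_fin] at h3
  omega

/-- special linear groups are transitive on non-zero vectors -/
theorem exists_sl_map {ι : Type} [Fintype ι] [DecidableEq ι] (hι : 2 ≤ Fintype.card ι) {u u' : ι → F}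
    (hu : u ≠ 0) (hu' : u' ≠ 0) :
    ∃ a : GL ι F, (a : Matrix ι ι F).det = 1 ∧ (a : Matrix ι ι F) *ᵥ u = u' := by
  have step : ∀ x y : ι → F, x ≠ 0 → y ∉ Submodule.span F {x} →
      ∃ a : GL ι F, (a : Matrix ι ι F).det = 1 ∧ (a : Matrix ι ι F) *ᵥ x = y := fun x y hx hy => by
    have hnot : x ∉ Submodule.span F {y - x} := fun hm => by
      obtain ⟨c, hc⟩ := Submodule.mem_span_singleton.1 hm
      rcases eq_or_ne c 0 with rfl | hc0
      · exact hx (by simpa using hc.symm)
      · refine hy (Submodule.mem_span_singleton.2 ⟨(1 + c) / c, smul_right_injective (ι → F) hc0 ?_⟩)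
        show c • ((1 + c) / c) • x = c • y
        rw [smul_smul, mul_div_cancel₀ _ hc0, add_smul, one_smul]
        conv_lhs => arg 1; rw [← hc]
        rw [smul_sub]; abel
    obtain ⟨φ, hφ, hφx⟩ := exists_row_of_not_mem hnot
    have h0 := hφ _ (Submodule.mem_span_singleton_self _)
    exact ⟨trv (y - x) φ h0, Aschbacher.mem_specialLinear.1 (trv_mem_SL _ _ h0),
      by rw [trv_mulVec, hφx, one_smul, add_sub_cancel]⟩
  by_cases h : u' ∈ Submodule.span F {u}
  swap
  · exact step u u' hu h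
  obtain ⟨z, hz⟩ : ∃ z : ι → F, z ∉ Submodule.span F {u} := by
    by_contra hc
    push Not at hc
    have h1 := Submodule.finrank_mono (show (⊤ : Submodule F (ι → F)) ≤ Submodule.span F {u} from fun x _ => hc x)
    rw [finrank_top, Module.finrank_fintype_fun_eq_card, finrank_span_singleton hu] at h1
    omega
  obtain ⟨a, ha, hau⟩ := step u z hu hz
  obtain ⟨a', ha', hau'⟩ := step z u' (fun e => hz (e ▸ zero_mem _)) fun hm => by
    obtain ⟨c, hc⟩ := Submodule.mem_span_singleton.1 hm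
    obtain ⟨d, hd⟩ := Submodule.mem_span_singleton.1 h
    refine hz (Submodule.mem_span_singleton.2 ⟨c⁻¹ * d, ?_⟩)
    rw [← smul_smul, hd, ← hc, inv_smul_smul₀]
    rintro rfl
    exact hu' (by simpa using hc.symm)
  exact ⟨a' * a, by rw [Units.val_mul, Matrix.det_mul, ha', ha, one_mul],
    by rw [mulVec_mul_GL, hau, hau']⟩

end Cfsg.Agent.Forms.Max.TensorMax
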