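import Cfsg.Agent.Lib.Forms.Max.OrthBase
import Cfsg.Prelude.Def_GeometricClasses

/-!
# The radical of the stabiliser of a totally singular subspace lies in `Ω`
-/

set_option autoImplicit false
set_option linter.unusedSectionVars false

namespace Cfsg.Agent.Forms.Max.Orth

open Matrix Cfsg.Agent.Forms.QuadStd Cfsg.Agent.Forms.Reflections Cfsg.Agent.Classical.Orth

variable {F : Type*} [Field F] [Fintype F] {ι : Type} [Fintype ι] [DecidableEq ι]
variable {Q : QuadraticForm F (ι → F)}

local notation "Vec" => (ι → F)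
local notation "B" => QuadraticMap.polar Q

theorem mem_omegaGL {g : GL ι F} : g ∈ Cfsg.Geo.omegaGL ⇑Q ↔
    ∃ g' ∈ Cfsg.Omega F ⇑Q, (g' : GL ι F) = g := Subgroup.mem_map

theorem omegaGL_map {g : GL ι F} (hg : g ∈ Cfsg.Geo.omegaGL ⇑Q) (x : Vec) :
    Q ((Units.val g) *ᵥ x) = Q x := by
  obtain ⟨g', -, rfl⟩ := mem_omegaGL.1 hg
  exact g'.2 x x

theorem omegaGL_polar {g : GL ι F} (hg : g ∈ Cfsg.Geo.omegaGL ⇑Q) (x y : Vec) :
    B ((Units.val g) *ᵥ x) ((Units.val g) *ᵥ y) = B x y := by
  simp only [QuadraticMap.polar, ← mulVec_add, omegaGL_map hg]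

variable (hQ : (QuadraticMap.polarBilin Q).Nondegenerate)
include hQ

theorem exists_eichGL (hn : 9 ≤ Fintype.card ι) {u w : Vec} (hu : Q u = 0) (huw : B u w = 0) :
    ∃ g ∈ Cfsg.Geo.omegaGL ⇑Q, ∀ x, (Units.val g) *ᵥ x = eichLin Q u w x := by
  refine ⟨_, mem_omegaGL.2 ⟨_, eich_omega hQ (by omega) hu huw, rfl⟩, fun x => ?_⟩
  have h1 := act_eich hu huw x
  rw [eichLin_apply]
  rw [act_apply] at h1
  exact h1

theorem omega_of_radical (hn : 9 ≤ Fintype.card ι) {X : Submodule F Vec} (hX : ∀ x ∈ X, Q x = 0) {g : GL ι F}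
    (hg : ∀ x, Q ((Units.val g) *ᵥ x) = Q x) (hfix : ∀ x ∈ X, (Units.val g) *ᵥ x = x)
    (hperp : ∀ z, (∀ x ∈ X, B z x = 0) → (Units.val g) *ᵥ z - z ∈ X) : g ∈ Cfsg.Geo.omegaGL ⇑Q := by
  classical
  let b := Module.finBasis F X
  set r := Module.finrank F X
  let e : Fin r → Vec := fun i => (b i : Vec)
  have hli : LinearIndependent F e :=
    b.linearIndependent.map' X.subtype (Submodule.ker_subtype X)
  have hspan : ∀ (φ : Vec →ₗ[F] F), (∀ i, φ (e i) = 0) → ∀ x ∈ X, φ x = 0 := fun φ hφ x hx => by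
    have h1 : φ.comp X.subtype = 0 := b.ext fun i => hφ i
    exact LinearMap.congr_fun h1 ⟨x, hx⟩
  -- dual vectors
  have hdual : ∀ j : Fin r, ∃ v, ∀ i, B (e i) v = if i = j then 1 else 0 := by
    intro j
    obtain ⟨φ, hφS, hφj⟩ := exists_row_of_not_mem (linearIndependent_iff_notMem_span.1 hli j)
    let φl : Module.Dual F Vec :=
      { toFun := fun x => φ ⬝ᵥ x
        map_add' := fun a c => dotProduct_add φ a c
        map_smul' := fun t a => dotProduct_smul t φ a }
    refine ⟨(LinearMap.BilinForm.toDual (polB Q) (nd hQ)).symm φl, fun i => ?_⟩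
    rw [QuadraticMap.polar_comm]
    have h1 : polB Q ((LinearMap.BilinForm.toDual (polB Q) (nd hQ)).symm φl) (e i) = φl (e i) :=
      LinearMap.BilinForm.apply_toDual_symm_apply φl (e i)
    rw [polB_apply] at h1
    rw [h1]
    show φ ⬝ᵥ e i = _
    split_ifs with hij
    · rw [hij]; exact hφj
    · exact hφS _ (Submodule.subset_span ⟨i, by simp [hij], rfl⟩)
  choose v hv using hdual
  have polg : ∀ {g : GL ι F}, (∀ x, Q ((Units.val g) *ᵥ x) = Q x) → ∀ x y,
      B ((Units.val g) *ᵥ x) ((Units.val g) *ᵥ y) = B x y := fun hg x y => by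
    simp only [QuadraticMap.polar, ← mulVec_add, hg]
  suffices key : ∀ j ≤ r, ∀ g : GL ι F, (∀ x, Q ((Units.val g) *ᵥ x) = Q x) →
      (∀ x ∈ X, (Units.val g) *ᵥ x = x) → (∀ z, (∀ x ∈ X, B z x = 0) → (Units.val g) *ᵥ z - z ∈ X) →
      (∀ i : Fin r, j ≤ i → (Units.val g) *ᵥ v i = v i) → g ∈ Cfsg.Geo.omegaGL ⇑Q from
    key r le_rfl g hg hfix hperp fun i hi => absurd i.2 (not_lt.2 hi)
  intro j
  induction j with
  | zero =>
    intro _ g hg hfix hperp hv'
    have hz : ∀ z, (∀ x ∈ X, B z x = 0) → (Units.val g) *ᵥ z = z := by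
      intro z hzX
      have hd := hperp z hzX
      refine sub_eq_zero.1 ?_
      obtain ⟨c, hc⟩ := (Submodule.mem_span_range_iff_exists_fun F).1
        (show (⟨_, hd⟩ : X) ∈ Submodule.span F (Set.range b) by rw [b.span_eq]; trivial)
      have hc' : ∑ i, c i • e i = (Units.val g) *ᵥ z - z := by
        have := congrArg Subtype.val hc
        simpa [e] using this
      rw [← hc']
      refine Finset.sum_eq_zero fun i _ => ?_
      have h1 : polB Q ((Units.val g) *ᵥ z - z) (v i) = 0 := by
        rw [map_sub, LinearMap.sub_apply, polB_apply, polB_apply]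
        conv_lhs => arg 1; rw [← hv' i (Nat.zero_le _)]
        rw [polg hg, sub_self]
      rw [← hc', map_sum, LinearMap.sum_apply, Finset.sum_eq_single i] at h1
      · rw [map_smul, LinearMap.smul_apply, polB_apply, hv, if_pos rfl, smul_eq_mul, mul_one] at h1
        rw [h1, zero_smul]
      · intro l _ hl; rw [map_smul, LinearMap.smul_apply, polB_apply, hv, if_neg hl, smul_zero]
      · simp
    have : g = 1 := gl_ext fun x => by
      rw [Units.val_one, one_mulVec]
      set y := ∑ i, B x (e i) • v i with hy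
      have hy' : ∀ x' ∈ X, B (x - y) x' = 0 := fun x' hx' => by
        have := hspan (polB Q (x - y)) (fun i => by
          rw [map_sub, LinearMap.sub_apply, polB_apply, hy, map_sum, LinearMap.sum_apply, Finset.sum_eq_single i]
          · rw [map_smul, LinearMap.smul_apply, polB_apply, QuadraticMap.polar_comm _ (v i), hv, if_pos rfl,
              smul_eq_mul, mul_one, sub_self]
          · intro l _ hl
            rw [map_smul, LinearMap.smul_apply, polB_apply, QuadraticMap.polar_comm _ (v l), hv,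
              if_neg (Ne.symm hl), smul_zero]
          · simp) x' hx'
        rwa [polB_apply] at this
      rw [show x = (x - y) + y by rw [sub_add_cancel], mulVec_add, hz _ hy', hy, mulVec_sum]
      congr 1
      exact Finset.sum_congr rfl fun i _ => by rw [mulVec_smul, hv' i (Nat.zero_le _)]
    exact this ▸ one_mem _
  | succ j ih =>
    intro hj g hg hfix hperp hv'
    let a : Fin r := ⟨j, by omega⟩
    set y := (Units.val g) *ᵥ v a - v a with hy
    have hyX : ∀ x ∈ X, B y x = 0 := fun x hx => by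
      rw [hy, QuadraticMap.polar_sub_left]
      conv_lhs => arg 1; rw [← hfix x hx]
      rw [polg hg, sub_self]
    have hey : B (e a) y = 0 := by rw [QuadraticMap.polar_comm]; exact hyX _ (b a).2
    have hyQ : Q y + B (v a) y = 0 := by
      have h1 := hg (v a)
      rw [show (Units.val g) *ᵥ v a = v a + y by rw [hy, add_sub_cancel], map_add'] at h1
      linear_combination h1
    obtain ⟨E, hE, hEx⟩ := exists_eichGL hQ hn (hX _ (b a).2) hey
    have hEX : ∀ x ∈ X, (Units.val E) *ᵥ x = x := fun x hx => by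
      rw [hEx, eichLin_apply, polar_of_sing hX hx (b a).2, QuadraticMap.polar_comm _ x y, hyX x hx]
      simp
    have hEz : ∀ z, (∀ x ∈ X, B z x = 0) → (Units.val E) *ᵥ z - z ∈ X := fun z hz => by
      rw [hEx, eichLin_apply, hz _ (b a).2, zero_smul, mul_zero, zero_smul, add_zero, sub_zero, sub_sub_cancel_left]
      exact X.neg_mem (X.smul_mem _ (b a).2)
    have hEv : (Units.val E) *ᵥ v a = (Units.val g) *ᵥ v a := by
      rw [hEx, eichLin_apply, QuadraticMap.polar_comm _ (v a) (e a), hv, if_pos rfl, one_smul, mul_one,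
        sub_sub, ← add_smul, show B (v a) y + Q y = 0 by rw [← hyQ]; ring, zero_smul, sub_zero, hy, add_sub_cancel]
    have hEi : ∀ x, (Units.val E) *ᵥ ((Units.val E⁻¹) *ᵥ x) = x := mulVec_inv_cancel E
    have hg' := ih (by omega) (E⁻¹ * g) (fun x => by
        rw [mulVec_mul_GL, ← omegaGL_map hE, hEi, hg])
      (fun x hx => by
        rw [mulVec_mul_GL, hfix x hx]
        exact mulVec_inj E (by rw [hEi, hEX x hx]))
      (fun z hz => by
        -- both elements move `z` inside `X`
        have h1 := hperp z hz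
        have h2 := hEz z hz
        have e1 : (Units.val (E⁻¹ * g)) *ᵥ z - z = ((Units.val g) *ᵥ z - z) - ((Units.val E) *ᵥ z - z) :=
          mulVec_inj E (by
            rw [hEX _ (X.sub_mem h1 h2), mulVec_mul_GL, mulVec_sub, hEi]
            abel)
        rw [e1]; exact X.sub_mem h1 h2)
      (fun i hi => by
        rw [mulVec_mul_GL]
        refine mulVec_inj E ?_
        rw [hEi]
        rcases Nat.eq_or_lt_of_le hi with h | h
        · rw [show i = a from Fin.ext h.symm, hEv]
        rw [hv' i h]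
        have hia : a ≠ i := fun e => by rw [← e] at h; exact lt_irrefl j h
        have hyi : B (v i) y = 0 := by
          rw [hy, QuadraticMap.polar_sub_right]
          conv_lhs => arg 1; rw [← hv' i h]
          rw [polg hg, sub_self]
        rw [hEx, eichLin_apply, QuadraticMap.polar_comm _ (v i) (e a), hv, if_neg hia, hyi]
        simp)
    exact (Subgroup.mul_mem_cancel_left _ (inv_mem hE)).1 hg'

end Cfsg.Agent.Forms.Max.Orth
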