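import Cfsg.Agent.Lib.Forms.Max.Tensor.Pure

/-!
# Overgroups of classical tensor stabilisers: images of pure vectors

`T` is a family of elements of the second factor with one dimensional displacement such that an
element of `M` conjugating `1 ⊗ t` into `1 ⊗ GL_n` is a Kronecker product.  By a Sylow argument
every image of a pure vector that is fixed by some `1 ⊗ t` is again pure.
-/

set_option autoImplicit false
set_option linter.unusedSectionVars false

namespace Cfsg.Agent.Forms.Max.TensorRes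

open Matrix Cfsg.Agent.Aschbacher Cfsg.Agent.Forms.Max.TensorMax
open scoped Kronecker

variable {F : Type*} [Field F] [Fintype F] {k n : ℕ} (p : ℕ) [Fact p.Prime] [CharP F p]

/-- a linear combination of rows -/
def comb (φ : Fin k → F) : (Fin k × Fin n → F) →ₗ[F] (Fin n → F) where
  toFun x := ∑ i, φ i • row x i
  map_add' x y := by
    rw [← Finset.sum_add_distrib]
    exact Finset.sum_congr rfl fun i _ => by rw [← smul_add]; rfl
  map_smul' c x := by
    rw [RingHom.id_apply, Finset.smul_sum]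
    exact Finset.sum_congr rfl fun i _ => by rw [smul_comm]; rfl

theorem comb_pure (φ u : Fin k → F) (w : Fin n → F) : comb φ (pure u w) = (φ ⬝ᵥ u) • w := by
  show ∑ i, φ i • row (pure u w) i = _
  simp only [row_pure, smul_smul, dotProduct, Finset.sum_smul]

/-- Kronecker products of small displacement lie in the second factor -/
theorem exists_of_small (hk : 0 < k) {a : GL (Fin k) F} {b : GL (Fin n) F}
    (h : Module.finrank F (mov (kr a b : Matrix (Fin k × Fin n) (Fin k × Fin n) F)) < n) :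
    ∃ b' : GL (Fin n) F, kr a b = kr 1 b' := by
  have hline : ∀ u, ∃ c : F, (a : Matrix (Fin k) (Fin k) F) *ᵥ u = c • u := fun u => by
    by_contra hc
    push Not at hc
    obtain ⟨φ, hφ, hφa⟩ := exists_row_of_not_mem (S := Submodule.span F {u})
      (v := (a : Matrix (Fin k) (Fin k) F) *ᵥ u) fun hm => by
        obtain ⟨c, hc'⟩ := Submodule.mem_span_singleton.1 hm
        exact hc c hc'.symm
    let f : (Fin n → F) →ₗ[F] (Fin k × Fin n → F) :=
      (Matrix.toLin' ((kr a b : Matrix (Fin k × Fin n) (Fin k × Fin n) F) - 1)).comp (pureL u)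
    have hinj : Function.Injective f := (injective_iff_map_eq_zero f).2 fun y hy => by
      have e : comb φ (f y) = 0 := by rw [hy, map_zero]
      have hfy : f y = pure ((a : Matrix (Fin k) (Fin k) F) *ᵥ u) ((b : Matrix (Fin n) (Fin n) F) *ᵥ y) - pure u y := by
        show Matrix.toLin' ((kr a b : Matrix (Fin k × Fin n) (Fin k × Fin n) F) - 1) (pure u y) = _
        rw [Matrix.toLin'_apply, Matrix.sub_mulVec, Matrix.one_mulVec, kr_pure]
      rw [hfy, map_sub, comb_pure, comb_pure, hφa, hφ u (Submodule.mem_span_singleton_self u), zero_smul,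
        one_smul, sub_zero] at e
      exact mulVec_inj b (e.trans (mulVec_zero _).symm)
    have h1 := LinearMap.finrank_range_of_inj hinj
    have h2 : LinearMap.range f ≤ mov (kr a b : Matrix (Fin k × Fin n) (Fin k × Fin n) F) :=
      LinearMap.range_comp_le_range _ _
    have h3 := Submodule.finrank_mono h2
    rw [h1, Module.finrank_fintype_fun_eq_card, Fintype.card_fin] at h3
    omega
  choose c hc using hline
  let i₀ : Fin k := ⟨0, hk⟩
  set c₀ := c (Pi.single i₀ 1) with hc₀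
  have ha : (a : Matrix (Fin k) (Fin k) F) = c₀ • 1 := by
    refine Matrix.ext_of_mulVec_single fun i => ?_
    rw [smul_mulVec, one_mulVec]
    rcases eq_or_ne i i₀ with rfl | hi
    · exact hc _
    have e := hc (Pi.single i 1 + Pi.single i₀ 1)
    rw [mulVec_add, hc, hc] at e
    have e1 := congrFun e i
    have e2 := congrFun e i₀
    simp [hi, hi.symm] at e1 e2
    rw [hc, e1, hc₀, e2]
  have hc0 : c₀ ≠ 0 := fun e => by
    have h1 := mulVec_inj a (x := Pi.single i₀ 1) (y := 0)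
      (by rw [ha, e, zero_smul, zero_mulVec, mulVec_zero])
    simpa using congrFun h1 i₀
  refine ⟨Matrix.GeneralLinearGroup.scalar (Fin n) (Units.mk0 c₀ hc0) * b, Units.ext ?_⟩
  rw [kr_coe, kr_coe, ha, Units.val_mul, Units.val_one, Matrix.GeneralLinearGroup.scalar]
  simp [smul_kronecker, ← kronecker_smul, ← Matrix.smul_eq_diagonal_mul]

/-- the hypotheses on a family of elements of the second factor -/
structure Roots (M : Subgroup (GL (Fin k × Fin n) F)) (T : Set (GL (Fin n) F)) : Prop where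
  mem : ∀ t ∈ T, kr 1 t ∈ M
  pow : ∀ t ∈ T, ∃ s : ℕ, t ^ p ^ s = 1
  mov_one : ∀ t ∈ T, Module.finrank F (mov (t : Matrix (Fin n) (Fin n) F)) = 1
  conj : ∀ g ∈ M, ∀ t ∈ T, ∀ b : GL (Fin n) F, g * kr 1 t * g⁻¹ = kr 1 b →
    g ∈ Cfsg.Geo.kroneckerSubgroup k n F

variable {p} {M : Subgroup (GL (Fin k × Fin n) F)} {T : Set (GL (Fin n) F)}

theorem kr_mem_kron (a : GL (Fin k) F) (b : GL (Fin n) F) :
    kr a b ∈ Cfsg.Geo.kroneckerSubgroup k n F := ⟨a, b, kr_coe a b⟩

theorem exists_kr {g : GL (Fin k × Fin n) F} (h : g ∈ Cfsg.Geo.kroneckerSubgroup k n F) :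
    ∃ a b, g = kr a b := by
  obtain ⟨a, b, h⟩ := h
  exact ⟨a, b, Units.ext (by rw [kr_coe]; exact h)⟩

theorem kron_pure {g : GL (Fin k × Fin n) F} (h : g ∈ Cfsg.Geo.kroneckerSubgroup k n F)
    (u : Fin k → F) (w : Fin n → F) : ∃ u' w', (Units.val g) *ᵥ pure u w = pure u' w' := by
  obtain ⟨a, b, rfl⟩ := exists_kr h
  exact ⟨_, _, kr_pure a b u w⟩

theorem kron_of_conj (hk : 0 < k) (hkn : k < n) (hT : Roots p M T) {g : GL (Fin k × Fin n) F}
    (hg : g ∈ M) {t : GL (Fin n) F} (ht : t ∈ T)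
    (h : g * kr 1 t * g⁻¹ ∈ Cfsg.Geo.kroneckerSubgroup k n F) :
    g ∈ Cfsg.Geo.kroneckerSubgroup k n F := by
  obtain ⟨a, b, hab⟩ := exists_kr h
  obtain ⟨b', hb'⟩ := exists_of_small hk (a := a) (b := b) (by
    rw [← hab, mov_conj, finrank_img, kr_coe, Units.val_one, mov_one_kron, finrank_UT,
      hT.mov_one t ht, mul_one]
    exact hkn)
  exact hT.conj g hg t ht b' (hab.trans hb')

/-- the stabiliser of a vector -/
def fixv (v : Fin k × Fin n → F) : Subgroup (GL (Fin k × Fin n) F) where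
  carrier := {x | (Units.val x) *ᵥ v = v}
  one_mem' := one_mulVec v
  mul_mem' {x y} (hx : _ = _) (hy : _ = _) := by
    show _ = _
    rw [mulVec_mul_GL, hy, hx]
  inv_mem' {x} (hx : _ = _) := mulVec_inj x (by rw [mulVec_inv_cancel, hx])

theorem mem_fixv {v : Fin k × Fin n → F} {x : GL (Fin k × Fin n) F} :
    x ∈ fixv v ↔ (Units.val x) *ᵥ v = v := Iff.rfl

theorem kr_one_fix {b : GL (Fin n) F} {x : Fin k × Fin n → F}
    (h : ∀ i, (Units.val b) *ᵥ row x i = row x i) : kr (1 : GL (Fin k) F) b ∈ fixv x :=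
  ext_row fun i => by rw [kr_coe, Units.val_one, row_one_kron, h i]

/-- a maximal `p`-subgroup above a given one -/
theorem exists_max_pgroup {G : Type*} [Group G] [Finite G] {H P : Subgroup G} (hP : IsPGroup p P)
    (hPH : P ≤ H) : ∃ R : Subgroup G, IsPGroup p R ∧ P ≤ R ∧ R ≤ H ∧
      ∀ R' : Subgroup G, IsPGroup p R' → R ≤ R' → R' ≤ H → R' = R := by
  obtain ⟨R, hle, hR⟩ := (Set.toFinite {R : Subgroup G | IsPGroup p R ∧ P ≤ R ∧ R ≤ H}).exists_le_maximal
    ⟨hP, le_rfl, hPH⟩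
  exact ⟨R, hR.1.1, hR.1.2.1, hR.1.2.2, fun R' h1 h2 h3 =>
    le_antisymm (hR.2 ⟨h1, hR.1.2.1.trans h2, h3⟩ h2) h2⟩

/-- a strictly larger `p`-group normalises more -/
theorem exists_normaliser {G : Type*} [Group G] [Finite G] {P R : Subgroup G} (hR : IsPGroup p R)
    (hPR : P ≤ R) (hne : R ≠ P) : ∃ x ∈ R, x ∉ P ∧ ∀ y ∈ P, x * y * x⁻¹ ∈ P := by
  haveI : Group.IsNilpotent R := hR.isNilpotent
  have hlt : P.subgroupOf R < ⊤ := lt_top_iff_ne_top.2 fun h =>
    hne (le_antisymm (Subgroup.subgroupOf_eq_top.1 h) hPR)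
  obtain ⟨x, hx, hxP⟩ := SetLike.exists_of_lt (Group.normalizerCondition_of_isNilpotent _ hlt)
  exact ⟨x, x.2, fun h => hxP h, fun y hy =>
    ((Subgroup.mem_normalizer_iff.1 hx) ⟨y, hPR hy⟩).1 hy⟩

/-- images of pure vectors fixed by some root element are pure -/
theorem pure_of_fixed (hk : 0 < k) (hkn : k < n) (hT : Roots p M T) {g : GL (Fin k × Fin n) F}
    (hg : g ∈ M) {u : Fin k → F} {w : Fin n → F} {t : GL (Fin n) F} (ht : t ∈ T)
    (htw : (Units.val t) *ᵥ w = w) {s : GL (Fin n) F} (hs : s ∈ T)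
    (hfix : ∀ i, (Units.val s) *ᵥ row ((Units.val g) *ᵥ pure u w) i = row ((Units.val g) *ᵥ pure u w) i) :
    ∃ u' w', (Units.val g) *ᵥ pure u w = pure u' w' := by
  set v := pure u w with hv
  set K := Cfsg.Geo.kroneckerSubgroup k n F with hK
  have hzp : ∀ t ∈ T, IsPGroup p (Subgroup.zpowers (kr (1 : GL (Fin k) F) t)) := fun t ht => by
    obtain ⟨d, hd⟩ := hT.pow t ht
    rintro ⟨x, hx⟩
    obtain ⟨z, rfl⟩ := Subgroup.mem_zpowers_iff.1 hx
    refine ⟨d, Subtype.ext ?_⟩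
    show (kr (1 : GL (Fin k) F) t ^ z) ^ p ^ d = 1
    rw [← zpow_natCast, ← _root_.zpow_mul, mul_comm, _root_.zpow_mul, zpow_natCast, kr_pow, one_pow, hd,
      kr_one, _root_.one_zpow]
  have htv : kr (1 : GL (Fin k) F) t ∈ fixv v := kr_one_fix fun i => by
    rw [hv, row_pure, mulVec_smul, htw]
  obtain ⟨P, hP, hzP, hPle, hPmax⟩ := exists_max_pgroup (H := M ⊓ fixv v ⊓ K) (hzp t ht)
    (Subgroup.zpowers_le.2 ⟨⟨hT.mem t ht, htv⟩, kr_mem_kron 1 t⟩)
  have htP : kr (1 : GL (Fin k) F) t ∈ P := hzP (Subgroup.mem_zpowers _)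
  have hmax : ∀ R : Subgroup (GL (Fin k × Fin n) F), IsPGroup p R → P ≤ R → R ≤ M ⊓ fixv v → R = P := by
    intro R hR hPR hRle
    by_contra hne
    obtain ⟨x, hxR, hxP, hxn⟩ := exists_normaliser hR hPR hne
    have hxK : x ∈ K := kron_of_conj hk hkn hT (hRle hxR).1 ht (hPle (hxn _ htP)).2
    have e := hPmax (R ⊓ K) (hR.to_le inf_le_left) (le_inf hPR (hPle.trans inf_le_right))
      (le_inf (inf_le_left.trans hRle) inf_le_right)
    exact hxP (e ▸ ⟨hxR, hxK⟩)
  obtain ⟨m, ⟨hmM, hmv⟩, hmP⟩ := exists_conj_le p hP (hPle.trans inf_le_left) hmax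
    ((hzp s hs).map (MulAut.conj g⁻¹).toMonoidHom) (by
      rw [MonoidHom.map_zpowers, Subgroup.zpowers_le]
      show g⁻¹ * kr 1 s * g⁻¹⁻¹ ∈ _
      rw [inv_inv]
      refine ⟨M.mul_mem (M.mul_mem (M.inv_mem hg) (hT.mem s hs)) hg, mem_fixv.2 ?_⟩
      rw [mulVec_mul_GL, mulVec_mul_GL, mem_fixv.1 (kr_one_fix hfix), inv_mulVec_cancel])
  have h1 := hmP (g⁻¹ * kr 1 s * g) ⟨kr 1 s, Subgroup.mem_zpowers _, by
    show g⁻¹ * kr 1 s * g⁻¹⁻¹ = _
    rw [inv_inv]⟩
  have h2 : m * g⁻¹ ∈ K := kron_of_conj hk hkn hT (mul_mem hmM (inv_mem hg)) hs (by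
    have e : m * g⁻¹ * kr 1 s * (m * g⁻¹)⁻¹ = m * (g⁻¹ * kr 1 s * g) * m⁻¹ := by group
    rw [e]
    exact (hPle h1).2)
  have e : (Units.val g) *ᵥ v = Units.val ((m * g⁻¹)⁻¹) *ᵥ v := by
    rw [_root_.mul_inv_rev, inv_inv, mulVec_mul_GL, mem_fixv.1 ((fixv v).inv_mem hmv)]
  rw [e]
  exact kron_pure (K.inv_mem h2) u w

/-- if every relevant image is fixed by some root element, then `M` consists of Kronecker products -/
theorem kron_of_fixed (hk : 2 ≤ k) (hkn : k < n) (hT : Roots p M T) {g : GL (Fin k × Fin n) F}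
    (hg : g ∈ M) (h1 : ∀ w : Fin n → F, ∃ t ∈ T, (Units.val t) *ᵥ w = w)
    (h2 : ∀ u w, ∃ s ∈ T, ∀ i,
      (Units.val s) *ᵥ row ((Units.val g) *ᵥ pure u w) i = row ((Units.val g) *ᵥ pure u w) i) :
    g ∈ Cfsg.Geo.kroneckerSubgroup k n F := by
  refine mem_kronecker hk hkn fun u w => ?_
  obtain ⟨t, ht, htw⟩ := h1 w
  obtain ⟨s, hs, hsf⟩ := h2 u w
  exact pure_of_fixed (by omega) hkn hT hg ht htw hs hsf

end Cfsg.Agent.Forms.Max.TensorRes
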