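import Cfsg.Agent.Lib.Forms.Max.Tensor.HermTools
import Cfsg.Agent.Lib.Forms.Max.Tensor.Residue

/-!
# A hermitian space that is the tensor product of two hermitian spaces
-/

set_option autoImplicit false
set_option linter.unusedSectionVars false

namespace Cfsg.Agent.Forms.Max.TensorRes.Unitary

open Matrix Cfsg.Agent.Aschbacher Cfsg.Agent.Forms.Max.TensorMax Cfsg.Agent.Forms.Max.UnitaryInLinear
  Cfsg.Agent.Forms.Max.HermTools

variable {F : Type*} [Field F] [Fintype F] {k n : ℕ}

/-- the forms of a tensor product of hermitian spaces -/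
structure Pair (σ : F →+* F) (β : (Fin k → F) → (Fin k → F) → F) (γ : (Fin n → F) → (Fin n → F) → F)
    (Φ : (Fin k × Fin n → F) → (Fin k × Fin n → F) → F) : Prop where
  left : Herm σ β
  right : Herm σ γ
  whole : Herm σ Φ
  mul : ∀ u w u' w', Φ (pure u w) (pure u' w') = β u u' * γ w w'

theorem pure_add_left (u u' : Fin k → F) (w : Fin n → F) : pure (u + u') w = pure u w + pure u' w :=
  funext fun a => add_mul (u a.1) (u' a.1) (w a.2)

theorem pure_smul_left (c : F) (u : Fin k → F) (w : Fin n → F) : pure (c • u) w = c • pure u w :=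
  funext fun a => mul_assoc c (u a.1) (w a.2)

theorem pure_add_right (u : Fin k → F) (w w' : Fin n → F) : pure u (w + w') = pure u w + pure u w' :=
  funext fun a => mul_add (u a.1) (w a.2) (w' a.2)

theorem pure_smul_right (c : F) (u : Fin k → F) (w : Fin n → F) : pure u (c • w) = c • pure u w :=
  funext fun a => mul_left_comm (u a.1) c (w a.2)

theorem pure_zero_left (w : Fin n → F) : pure (0 : Fin k → F) w = 0 := funext fun a => zero_mul _

theorem pure_zero_right (u : Fin k → F) : pure u (0 : Fin n → F) = 0 := funext fun a => mul_zero _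

theorem pure_ne_zero {u : Fin k → F} {w : Fin n → F} (hu : u ≠ 0) (hw : w ≠ 0) : pure u w ≠ 0 := by
  obtain ⟨i, hi⟩ := Function.ne_iff.1 hu
  obtain ⟨j, hj⟩ := Function.ne_iff.1 hw
  exact fun e => mul_ne_zero hi hj (congrFun e (i, j))

/-- tensoring with a fixed vector of the second factor -/
def pureR (w : Fin n → F) : (Fin k → F) →ₗ[F] (Fin k × Fin n → F) where
  toFun u := pure u w
  map_add' u u' := pure_add_left u u' w
  map_smul' c u := pure_smul_left c u w

theorem pureR_apply (w : Fin n → F) (u : Fin k → F) : pureR w u = pure u w := rfl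

variable {σ : F →+* F} {β : (Fin k → F) → (Fin k → F) → F} {γ : (Fin n → F) → (Fin n → F) → F}
  {Φ : (Fin k × Fin n → F) → (Fin k × Fin n → F) → F} (hP : Pair σ β γ Φ)
include hP

theorem sum_form {ι : Type*} (s : Finset ι) (z : ι → Fin k × Fin n → F) (x : Fin k × Fin n → F) :
    Φ (∑ i ∈ s, z i) x = ∑ i ∈ s, Φ (z i) x :=
  map_sum (form hP.whole x) z s

/-- contraction of the rows with a vector of the second factor -/
def eta (w : Fin n → F) : (Fin k × Fin n → F) →ₗ[F] (Fin k → F) where
  toFun x i := γ (row x i) w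
  map_add' x y := funext fun i => hP.right.add (row x i) (row y i) w
  map_smul' c x := funext fun i => hP.right.smul c (row x i) w

theorem eta_apply (w : Fin n → F) (x : Fin k × Fin n → F) (i : Fin k) : eta hP w x i = γ (row x i) w := rfl

theorem eta_pure (w : Fin n → F) (u : Fin k → F) (w' : Fin n → F) :
    eta hP w (pure u w') = γ w' w • u := by
  funext i
  rw [eta_apply, row_pure, hP.right.smul, Pi.smul_apply, smul_eq_mul, mul_comm]

theorem form_pure (x : Fin k × Fin n → F) (u : Fin k → F) (w : Fin n → F) :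
    Φ x (pure u w) = β (eta hP w x) u := by
  have e : eta hP w x = ∑ i, γ (row x i) w • Pi.single i (1 : F) := pi_eq_sum_univ' (eta hP w x)
  rw [e, show β (∑ i, γ (row x i) w • Pi.single i (1 : F)) u = ∑ i, β (γ (row x i) w • Pi.single i (1 : F)) u
    from map_sum (UnitaryInLinear.form hP.left u) _ _]
  conv_lhs => rw [sum_rows x, sum_form hP]
  exact Finset.sum_congr rfl fun i _ => by rw [hP.mul, hP.left.smul, mul_comm]

theorem eta_eq_zero {w : Fin n → F} {x : Fin k × Fin n → F} (h : ∀ u, Φ x (pure u w) = 0) :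
    eta hP w x = 0 :=
  hP.left.nd _ fun u => by rw [← form_pure hP]; exact h u

theorem isometry_of_pure {g : GL (Fin k × Fin n) F}
    (h : ∀ u w u' w', Φ ((Units.val g) *ᵥ pure u w) ((Units.val g) *ᵥ pure u' w') = β u u' * γ w w')
    (x y : Fin k × Fin n → F) : Φ ((Units.val g) *ᵥ x) ((Units.val g) *ᵥ y) = Φ x y := by
  have h1 : ∀ x u w, Φ ((Units.val g) *ᵥ x) ((Units.val g) *ᵥ pure u w) = Φ x (pure u w) := fun x u w => by
    conv_lhs => rw [sum_rows x, mulVec_sum, sum_form hP]
    conv_rhs => rw [sum_rows x, sum_form hP]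
    exact Finset.sum_congr rfl fun i _ => by rw [h, hP.mul]
  rw [sum_rows y, mulVec_sum]
  induction (Finset.univ : Finset (Fin k)) using Finset.induction with
  | empty => simp [zero_right hP.whole]
  | insert a s ha ih => rw [Finset.sum_insert ha, Finset.sum_insert ha, add_right hP.whole, add_right hP.whole, h1, ih]

theorem kr_iso {a : GL (Fin k) F} {b : GL (Fin n) F} {μ ν : F} (hμν : μ * ν = 1)
    (ha : ∀ u u', β ((Units.val a) *ᵥ u) ((Units.val a) *ᵥ u') = μ * β u u')
    (hb : ∀ w w', γ ((Units.val b) *ᵥ w) ((Units.val b) *ᵥ w') = ν * γ w w') (x y : Fin k × Fin n → F) :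
    Φ ((Units.val (kr a b)) *ᵥ x) ((Units.val (kr a b)) *ᵥ y) = Φ x y :=
  isometry_of_pure hP (fun u w u' w' => by
    rw [kr_pure, kr_pure, hP.mul, ha, hb]
    linear_combination (β u u' * γ w w') * hμν) x y

theorem kr_mem {a : GL (Fin k) F} {b : GL (Fin n) F} (ha : a ∈ isoSL β) (hb : b ∈ isoSL γ) :
    kr a b ∈ isoSL Φ :=
  ⟨kr_iso hP (one_mul (1 : F)) (fun u u' => by rw [ha.1, one_mul]) (fun w w' => by rw [hb.1, one_mul]),
    Aschbacher.mem_specialLinear.1 (kr_mem_SL ha.2 hb.2)⟩

/-- a vector all of whose rows are killed by the functional `γ · f` -/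
theorem eta_zero_iff {f : Fin n → F} {x : Fin k × Fin n → F} :
    eta hP f x = 0 ↔ ∀ i, γ (row x i) f = 0 :=
  ⟨fun h i => congrFun h i, fun h => funext h⟩

/-- vectors orthogonal to `U ⊗ f^⊥` lie in `U ⊗ f` -/
theorem exists_of_perp {f : Fin n → F} {x : Fin k × Fin n → F}
    (h : ∀ w, γ w f = 0 → eta hP w x = 0) : ∃ u, x = pure u f := by
  refine exists_pure_of_row fun i => ?_
  by_contra hc
  obtain ⟨w, hwf, hw⟩ := exists_perp_value hP.right hc
  have := congrFun (h w hwf) i
  rw [eta_apply, hP.right.herm, hw, map_one, Pi.zero_apply] at this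
  exact one_ne_zero this

/-- linear maps agreeing on the two slices agree -/
theorem ext_slices {f f' : Fin n → F} (hf'f : γ f' f = 1) {M N : Matrix (Fin k × Fin n) (Fin k × Fin n) F}
    (h1 : ∀ u w, γ w f = 0 → M *ᵥ pure u w = N *ᵥ pure u w) (h2 : ∀ u, M *ᵥ pure u f' = N *ᵥ pure u f') :
    ∀ x, M *ᵥ x = N *ᵥ x := fun x => by
  rw [sum_rows x, mulVec_sum, mulVec_sum]
  refine Finset.sum_congr rfl fun i _ => ?_
  have e : row x i = (row x i - γ (row x i) f • f') + γ (row x i) f • f' := by rw [sub_add_cancel]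
  rw [e, pure_add_right, pure_smul_right, mulVec_add, mulVec_add, mulVec_smul, mulVec_smul, h2, h1 _ _ (by
    rw [sub_left hP.right, hP.right.smul, hf'f, mul_one, sub_self])]

end Cfsg.Agent.Forms.Max.TensorRes.Unitary
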