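import Cfsg.Agent.Lib.Forms.Max.UnitaryInLinear
import Cfsg.Agent.Lib.Forms.Max.Tensor.Basic

/-!
# Elementary geometry of a hermitian space: isotropic vectors, transvections, Siegel elements
-/

set_option autoImplicit false
set_option linter.unusedSectionVars false

namespace Cfsg.Agent.Forms.Max.HermTools

open Matrix Cfsg.Agent.Aschbacher Cfsg.Agent.Forms.Max.UnitaryInLinear

variable {ι : Type} [Fintype ι] [DecidableEq ι] {F : Type*} [Field F] [Finite F]
variable {σ : F →+* F} {h : (ι → F) → (ι → F) → F}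

/-- the isometries of determinant one -/
def isoSL (h : (ι → F) → (ι → F) → F) : Subgroup (GL ι F) where
  carrier := {g | (∀ x y, h ((Units.val g) *ᵥ x) ((Units.val g) *ᵥ y) = h x y) ∧ (Units.val g).det = 1}
  one_mem' := ⟨fun x y => by rw [Units.val_one, one_mulVec, one_mulVec], by rw [Units.val_one, det_one]⟩
  mul_mem' {a b} ha hb := ⟨fun x y => by rw [mulVec_mul_GL, mulVec_mul_GL, ha.1, hb.1],
    by rw [Units.val_mul, det_mul, ha.2, hb.2, one_mul]⟩
  inv_mem' {a} ha := ⟨fun x y => by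
      rw [← ha.1, mulVec_inv_cancel, mulVec_inv_cancel],
    by
      have e : (Units.val a).det * (Units.val a⁻¹).det = 1 := by
        rw [← det_mul, ← Units.val_mul, mul_inv_cancel, Units.val_one, det_one]
      rwa [ha.2, one_mul] at e⟩

theorem mem_isoSL {g : GL ι F} : g ∈ isoSL h ↔
    (∀ x y, h ((Units.val g) *ᵥ x) ((Units.val g) *ᵥ y) = h x y) ∧ (Units.val g).det = 1 := Iff.rfl

variable (hh : Herm σ h)
include hh

theorem zero_left (x : ι → F) : h 0 x = 0 := by simpa using hh.smul 0 0 x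

theorem sub_right (x v w : ι → F) : h x (v - w) = h x v - h x w := by
  rw [sub_eq_add_neg, add_right hh, neg_right hh, sub_eq_add_neg]

theorem trace_zero_of {c : F} (hc : σ c = -c) : c + σ c = 0 := by rw [hc, add_neg_cancel]

/-- the transvection with centre `v` -/
theorem exists_tv {v : ι → F} (hv : h v v = 0) {c : F} (hc : c + σ c = 0) :
    ∃ g ∈ isoSL h, ∀ x, (Units.val g) *ᵥ x = x + (c * h x v) • v := by
  obtain ⟨φ, hφ⟩ := exists_row (c • form hh v)
  have hφ' : ∀ x, φ ⬝ᵥ x = c * h x v := fun x => hφ x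
  have h0 : φ ⬝ᵥ v = 0 := by rw [hφ', hv, mul_zero]
  have key : ∀ x, (Units.val (trv v φ h0)) *ᵥ x = x + (c * h x v) • v := fun x => by
    rw [trv_mulVec, hφ']
  refine ⟨trv v φ h0, ⟨fun x y => ?_, Aschbacher.mem_specialLinear.1 (trv_mem_SL _ _ _)⟩, key⟩
  rw [key, key]
  simp only [hh.add, add_right hh, hh.smul, smul_right hh, hv, map_mul, mul_zero, add_zero]
  rw [← hh.herm v y]
  linear_combination (h x v * h v y) * hc

/-- the Siegel element of `a` and `b` -/
def IsSiegel (h : (ι → F) → (ι → F) → F) (g : GL ι F) (a b : ι → F) (β : F) : Prop :=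
  ∀ x, (Units.val g) *ᵥ x = x + h x a • b + (-h x b + β * h x a) • a

theorem exists_siegel {a b : ι → F} (ha : h a a = 0) (hab : h a b = 0) {β : F}
    (hβ : β + σ β + h b b = 0) : ∃ g ∈ isoSL h, IsSiegel h g a b β := by
  have hba : h b a = 0 := comm_zero hh hab
  obtain ⟨φ₁, hφ₁⟩ := exists_row (form hh a)
  obtain ⟨φ₂, hφ₂⟩ := exists_row (-form hh b + (β + h b b) • form hh a)
  have h1' : ∀ x, φ₁ ⬝ᵥ x = h x a := fun x => hφ₁ x
  have h2' : ∀ x, φ₂ ⬝ᵥ x = -h x b + (β + h b b) * h x a := fun x => hφ₂ x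
  have h1 : φ₁ ⬝ᵥ b = 0 := by rw [h1', hba]
  have h2 : φ₂ ⬝ᵥ a = 0 := by rw [h2', hab, ha]; ring
  have key : ∀ x, (Units.val (trv a φ₂ h2 * trv b φ₁ h1)) *ᵥ x =
      x + h x a • b + (-h x b + β * h x a) • a := fun x => by
    rw [mulVec_mul_GL, trv_mulVec, trv_mulVec, h1', h2']
    congr 2
    simp only [hh.add, hh.smul, hba]
    ring
  refine ⟨_, ⟨fun x y => ?_, Aschbacher.mem_specialLinear.1 (mul_mem (trv_mem_SL _ _ _) (trv_mem_SL _ _ _))⟩, key⟩
  rw [key, key]
  simp only [hh.add, add_right hh, hh.smul, smul_right hh, ha, hab, hba, map_add, map_neg, map_mul,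
    mul_zero, add_zero, zero_add]
  rw [← hh.herm a y, ← hh.herm b y]
  linear_combination (h x a * h a y) * hβ

theorem exists_ne_of_iso {u : ι → F} (hu : u ≠ 0) : ∃ x, h x u = 1 :=
  exists_value_one hh hu

theorem exists_partner {e : ι → F} (he : e ≠ 0) (hee : h e e = 0) :
    ∃ f, h f f = 0 ∧ h e f = 1 ∧ h f e = 1 := by
  obtain ⟨x, hx⟩ := exists_value_one hh he
  obtain ⟨a, ha⟩ := exists_trace_eq hh (self_fixed hh x)
  have hx' : h e x = 1 := by rw [hh.herm, hx, map_one]
  refine ⟨x + a • e, ?_, ?_, ?_⟩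
  · simp only [hh.add, add_right hh, hh.smul, smul_right hh, hx, hx', hee]
    linear_combination ha
  · simp only [add_right hh, smul_right hh, hx', hee, mul_zero, add_zero]
  · simp only [hh.add, hh.smul, hx, hee, mul_zero, add_zero]

/-- an isotropic vector with prescribed values -/
theorem exists_iso_pair {u v : ι → F} (hu : h u u = 0) (huv : h u v = 0)
    (hv : v ∉ Submodule.span F {u}) (hu0 : u ≠ 0) :
    ∃ x, h x x = 0 ∧ h x u = 1 ∧ h x v = 1 := by
  obtain ⟨x₁, h1u, h1v⟩ := exists_perp_value hh hv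
  obtain ⟨y, hy⟩ := exists_value_one hh hu0
  set x := y + (1 - h y v) • x₁ with hx
  have hxu : h x u = 1 := by rw [hx, hh.add, hh.smul, h1u, hy, mul_zero, add_zero]
  have hxv : h x v = 1 := by rw [hx, hh.add, hh.smul, h1v, mul_one, add_sub_cancel]
  obtain ⟨a, ha⟩ := exists_trace_eq hh (self_fixed hh x)
  have hux : h u x = 1 := by rw [hh.herm, hxu, map_one]
  refine ⟨x + a • u, ?_, ?_, ?_⟩
  · simp only [hh.add, add_right hh, hh.smul, smul_right hh, hxu, hux, hu]
    linear_combination ha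
  · simp only [hh.add, hh.smul, hxu, hu, mul_zero, add_zero]
  · simp only [hh.add, hh.smul, hxv, huv, mul_zero, add_zero]

/-- a space of isotropic vectors is totally isotropic -/
theorem polar_zero {S : Submodule F (ι → F)} (hS : ∀ x ∈ S, h x x = 0) {x y : ι → F}
    (hx : x ∈ S) (hy : y ∈ S) : h x y = 0 := by
  obtain ⟨e, he⟩ := exists_trace hh
  by_contra hne
  apply he
  have := hS _ (S.add_mem (S.smul_mem (e / h x y) hx) hy)
  simp only [hh.add, add_right hh, hh.smul, smul_right hh, hS x hx, hS y hy, map_div₀, mul_zero,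
    zero_add, add_zero] at this
  rw [hh.herm y x] at this
  have hne' : σ (h x y) ≠ 0 := by simpa using hne
  field_simp at this
  linear_combination this

/-- a space of dimension two contains a non-zero isotropic vector -/
theorem exists_iso {S : Submodule F (ι → F)} (hS : 2 ≤ Module.finrank F S) :
    ∃ e ∈ S, e ≠ 0 ∧ h e e = 0 := by
  by_contra hc
  push Not at hc
  obtain ⟨x, hx, hx0⟩ := Submodule.exists_mem_ne_zero_of_ne_bot (p := S) fun e => by
    rw [e, finrank_bot] at hS; omega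
  have hxx := hc x hx hx0
  obtain ⟨y, hy, hyx⟩ : ∃ y ∈ S, y ∉ Submodule.span F {x} := SetLike.not_le_iff_exists.1 fun hle => by
    have := Submodule.finrank_mono hle
    rw [finrank_span_singleton hx0] at this
    omega
  set z := y - (h y x / h x x) • x with hz
  have hzS : z ∈ S := S.sub_mem hy (S.smul_mem _ hx)
  have hz0 : z ≠ 0 := fun e => hyx (by
    rw [hz, sub_eq_zero] at e; rw [e]; exact Submodule.smul_mem _ _ (Submodule.mem_span_singleton_self x))
  have hzx : h z x = 0 := by rw [hz, sub_left hh, hh.smul, div_mul_cancel₀ _ hxx, sub_self]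
  have hzz := hc z hzS hz0
  obtain ⟨t, ht⟩ := Bases.exists_norm_eq σ hh.ne_id hh.inv (-(h x x / h z z))
    (by rw [map_neg, map_div₀, self_fixed hh, self_fixed hh])
  refine hc (x + t • z) (S.add_mem hx (S.smul_mem _ hzS)) (fun e => hxx ?_) ?_
  · have e1 : h (x + t • z) x = 0 := by rw [e, zero_left hh]
    simpa [hh.add, hh.smul, hzx] using e1
  · simp only [hh.add, add_right hh, hh.smul, smul_right hh, hzx, comm_zero hh hzx]
    field_simp at ht
    linear_combination ht

theorem exists_iso_top (hι : 2 ≤ Fintype.card ι) : ∃ e, e ≠ 0 ∧ h e e = 0 := by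
  obtain ⟨e, -, he⟩ := exists_iso hh (S := ⊤) (by rwa [finrank_top, Module.finrank_fintype_fun_eq_card])
  exact ⟨e, he⟩

/-- isotropic vectors not orthogonal to `d`, with `d`, span the space -/
theorem span_nonorth {d : ι → F} (hd0 : d ≠ 0) (hdd : h d d = 0) {T : Submodule F (ι → F)}
    (hdT : d ∈ T) (hT : ∀ u, h u u = 0 → h u d ≠ 0 → u ∈ T) : T = ⊤ := by
  obtain ⟨f, hff, hdf, hfd⟩ := exists_partner hh hd0 hdd
  have hfT : f ∈ T := hT f hff (by rw [hfd]; exact one_ne_zero)
  refine eq_top_iff.2 fun x _ => ?_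
  set z := x - h x f • d - h x d • f with hz
  have hzd : h z d = 0 := by simp [hz, sub_left hh, hh.smul, hdd, hfd]
  have hzf : h z f = 0 := by simp [hz, sub_left hh, hh.smul, hff, hdf]
  obtain ⟨a, ha⟩ := exists_trace_eq hh (self_fixed hh z)
  have h1 : z + a • d + f ∈ T := hT _ (by
    simp only [hh.add, add_right hh, hh.smul, smul_right hh, hdd, hdf, hfd, hff, hzd, hzf,
      comm_zero hh hzd, comm_zero hh hzf]
    linear_combination ha) (by
    simp only [hh.add, hh.smul, hdd, hzd, hfd, mul_zero, zero_add]; exact one_ne_zero)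
  have e : x = (z + a • d + f) + (h x f - a) • d + (h x d - 1) • f := by rw [hz]; module
  rw [e]
  exact T.add_mem (T.add_mem h1 (T.smul_mem _ hdT)) (T.smul_mem _ hfT)

theorem span_iso (hι : 2 ≤ Fintype.card ι) {T : Submodule F (ι → F)}
    (hT : ∀ u, h u u = 0 → u ∈ T) : T = ⊤ := by
  obtain ⟨d, hd0, hdd⟩ := exists_iso_top hh hι
  exact span_nonorth hh hd0 hdd (hT d hdd) fun u hu _ => hT u hu

/-- the orthogonal of an isotropic vector is spanned by the isotropic vectors off its line -/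
theorem span_perp (hι : 4 ≤ Fintype.card ι) {f : ι → F} (hf0 : f ≠ 0) (hff : h f f = 0)
    {T : Submodule F (ι → F)}
    (hT : ∀ w, h w w = 0 → h w f = 0 → w ∉ Submodule.span F {f} → w ∈ T) :
    LinearMap.ker (form hh f) ≤ T := by
  obtain ⟨f', hf', hff', hf'f⟩ := exists_partner hh hf0 hff
  set S := LinearMap.ker (form hh f) ⊓ LinearMap.ker (form hh f') with hS
  have hmemS : ∀ {z}, z ∈ S ↔ h z f = 0 ∧ h z f' = 0 := fun {z} => Iff.rfl
  have hdim : 2 ≤ Module.finrank F S := by
    have e : S = LinearMap.ker ((form hh f).prod (form hh f')) := by rw [hS, LinearMap.ker_prod]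
    have h1 := LinearMap.finrank_range_add_finrank_ker ((form hh f).prod (form hh f'))
    have h2 := Submodule.finrank_le (LinearMap.range ((form hh f).prod (form hh f')))
    rw [Module.finrank_prod, Module.finrank_self] at h2
    rw [Module.finrank_fintype_fun_eq_card] at h1
    rw [e]; omega
  obtain ⟨e, heS, he0, hee⟩ := exists_iso hh hdim
  obtain ⟨hef, hef'⟩ := hmemS.1 heS
  have hspan : ∀ z, h z f' = 0 → z ∈ Submodule.span F {f} → z = 0 := fun z hz hzs => by
    obtain ⟨c, rfl⟩ := Submodule.mem_span_singleton.1 hzs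
    rw [hh.smul, hff', mul_one] at hz
    rw [hz, zero_smul]
  have heT : e ∈ T := hT e hee hef fun hs => he0 (hspan e hef' hs)
  have hfT : f ∈ T := by
    have h1 : e + f ∈ T := hT _ (by
      simp only [hh.add, add_right hh, hee, hff, hef, comm_zero hh hef, add_zero])
      (by rw [hh.add, hef, hff, add_zero]) fun hs => he0 (hspan e hef' (by
        simpa using Submodule.sub_mem _ hs (Submodule.mem_span_singleton_self f)))
    simpa using T.sub_mem h1 heT
  obtain ⟨y, hy⟩ := exists_value_one hh he0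
  set g := y - h y f' • f - h y f • f' with hg
  have hgf : h g f = 0 := by simp [hg, sub_left hh, hh.smul, hff, hf'f]
  have hgf' : h g f' = 0 := by simp [hg, sub_left hh, hh.smul, hf', hff']
  have hge : h g e = 1 := by
    simp [hg, sub_left hh, hh.smul, hy, comm_zero hh hef, comm_zero hh hef']
  have heg : h e g = 1 := by rw [hh.herm, hge, map_one]
  obtain ⟨a, ha⟩ := exists_trace_eq hh (self_fixed hh g)
  set g' := g + a • e with hg'
  have hg'f : h g' f = 0 := by rw [hg', hh.add, hh.smul, hgf, hef, mul_zero, add_zero]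
  have hg'f' : h g' f' = 0 := by rw [hg', hh.add, hh.smul, hgf', hef', mul_zero, add_zero]
  have hg'e : h g' e = 1 := by rw [hg', hh.add, hh.smul, hge, hee, mul_zero, add_zero]
  have heg' : h e g' = 1 := by rw [hh.herm, hg'e, map_one]
  have hg'g' : h g' g' = 0 := by
    simp only [hg', hh.add, add_right hh, hh.smul, smul_right hh, hge, heg, hee]
    linear_combination ha
  have hg'0 : g' ≠ 0 := fun e0 => by rw [e0, zero_left hh] at hg'e; exact zero_ne_one hg'e
  have hg'T : g' ∈ T := hT g' hg'g' hg'f fun hs => hg'0 (hspan g' hg'f' hs)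
  intro x hx
  have hxf : h x f = 0 := hx
  set x' := x - h x f' • f with hx'
  have hx'f : h x' f = 0 := by rw [hx', sub_left hh, hh.smul, hxf, hff, mul_zero, sub_zero]
  have hx'f' : h x' f' = 0 := by rw [hx', sub_left hh, hh.smul, hff', mul_one, sub_self]
  set z := x' - h x' g' • e - h x' e • g' with hz
  have hzf : h z f = 0 := by simp [hz, sub_left hh, hh.smul, hx'f, hef, hg'f]
  have hzf' : h z f' = 0 := by simp [hz, sub_left hh, hh.smul, hx'f', hef', hg'f']
  have hze : h z e = 0 := by simp [hz, sub_left hh, hh.smul, hee, hg'e]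
  have hzg : h z g' = 0 := by simp [hz, sub_left hh, hh.smul, hg'g', heg']
  obtain ⟨b, hb⟩ := exists_trace_eq hh (self_fixed hh z)
  set w := z + b • e + g' with hw
  have hwf' : h w f' = 0 := by simp [hw, hh.add, hh.smul, hzf', hef', hg'f']
  have hwe : h w e = 1 := by simp [hw, hh.add, hh.smul, hze, hee, hg'e]
  have hwT : w ∈ T := hT w (by
    simp only [hw, hh.add, add_right hh, hh.smul, smul_right hh, hze, hzg, comm_zero hh hze,
      comm_zero hh hzg, hee, heg', hg'e, hg'g']
    linear_combination hb) (by simp [hw, hh.add, hh.smul, hzf, hef, hg'f]) fun hs => by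
      rw [hspan w hwf' hs, zero_left hh] at hwe; exact zero_ne_one hwe
  have e' : x = (w + (h x' g' - b) • e + (h x' e - 1) • g') + h x f' • f := by
    rw [hw, hz, hx']; module
  rw [e']
  exact T.add_mem (T.add_mem (T.add_mem hwT (T.smul_mem _ heT)) (T.smul_mem _ hg'T)) (T.smul_mem _ hfT)

/-- isometries of determinant one are transitive on isotropic lines, one step -/
theorem exists_move₁ {u v : ι → F} (hu : h u u = 0) (hv : h v v = 0) (huv : h u v ≠ 0) :
    ∃ g ∈ isoSL h, ∃ c : F, (Units.val g) *ᵥ u = c • v ∧ c ≠ 0 := by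
  obtain ⟨τ, hτ0, hτ⟩ := exists_skew hh
  obtain ⟨c, hc⟩ : ∃ c : F, σ c * h u v = τ := ⟨σ (τ / h u v), by rw [hh.inv, div_mul_cancel₀ _ huv]⟩
  set z := c • v - u with hz
  have huz : h u z = τ := by rw [hz, sub_right hh, smul_right hh, hu, hc, sub_zero]
  have hzu : h z u = -τ := by
    rw [hz, sub_left hh, hh.smul, hu, sub_zero, ← hτ, ← hc, map_mul, hh.inv, ← hh.herm]
  have hzz : h z z = 0 := by
    have e : h z z = h (c • v) z - h u z := by rw [← sub_left hh, ← hz]
    rw [e, huz, hh.smul, hz, sub_right hh, smul_right hh, hv, mul_zero, zero_sub, mul_neg]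
    have e2 : c * h v u = h z u := by rw [hz, sub_left hh, hh.smul, hu, sub_zero]
    rw [e2, hzu, neg_neg, sub_self]
  obtain ⟨g, hg, hgx⟩ := exists_tv hh hzz (c := τ⁻¹) (trace_zero_of hh (by rw [map_inv₀, hτ, inv_neg]))
  refine ⟨g, hg, c, ?_, fun e => hτ0 (by rw [← hc, e, map_zero, zero_mul])⟩
  rw [hgx, huz, inv_mul_cancel₀ hτ0, one_smul, hz, add_sub_cancel]

theorem exists_move {u v : ι → F} (hu : h u u = 0) (hv : h v v = 0) (hu0 : u ≠ 0) (hv0 : v ≠ 0) :
    ∃ g ∈ isoSL h, ∃ c : F, (Units.val g) *ᵥ u = c • v ∧ c ≠ 0 := by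
  by_cases huv : h u v = 0
  swap
  · exact exists_move₁ hh hu hv huv
  by_cases hs : v ∈ Submodule.span F {u}
  · obtain ⟨c, rfl⟩ := Submodule.mem_span_singleton.1 hs
    have hc : c ≠ 0 := fun e => hv0 (by rw [e, zero_smul])
    exact ⟨1, one_mem _, c⁻¹, by rw [Units.val_one, one_mulVec, inv_smul_smul₀ hc], inv_ne_zero hc⟩
  obtain ⟨x, hx, hxu, hxv⟩ := exists_iso_pair hh hu huv hs hu0
  obtain ⟨g₁, hg₁, c₁, e₁, hc₁⟩ := exists_move₁ hh hu hx (by rw [hh.herm, hxu, map_one]; exact one_ne_zero)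
  obtain ⟨g₂, hg₂, c₂, e₂, hc₂⟩ := exists_move₁ hh hx hv (by rw [hxv]; exact one_ne_zero)
  exact ⟨g₂ * g₁, mul_mem hg₂ hg₁, c₁ * c₂, by
    rw [mulVec_mul_GL, e₁, mulVec_smul, e₂, smul_smul], mul_ne_zero hc₁ hc₂⟩

end Cfsg.Agent.Forms.Max.HermTools
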