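import Cfsg.Agent.Lib.Forms.Max.Tensor.Spread
import Cfsg.Agent.Lib.Forms.Max.SubfieldLinear

/-!
# Stabilisers of tensor decompositions are maximal in the special linear group
-/

set_option autoImplicit false
set_option linter.unusedSectionVars false

namespace Cfsg.Agent.Forms.Max.TensorMax

open Matrix Cfsg.Agent.Aschbacher
open scoped Kronecker

variable {F : Type*} [Field F] [Fintype F] {k n : ℕ}

theorem exists_scalar_of_card (h : Fintype.card F ≠ 2) : ∃ c : F, c ≠ 0 ∧ c ≠ 1 := by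
  by_contra hc
  push Not at hc
  classical
  refine h (le_antisymm ?_ Fintype.one_lt_card)
  refine (Finset.card_le_card (fun c _ => ?_ : (Finset.univ : Finset F) ⊆ {0, 1})).trans Finset.card_le_two
  simp only [Finset.mem_insert, Finset.mem_singleton]
  exact or_iff_not_imp_left.2 (hc c)

/-- `GL_k ⊗ GL_n` is maximal in `SL_{kn}` -/
theorem kronecker_maximal (hk : 2 ≤ k) (hkn : k < n) (hex : ¬ (k = 2 ∧ Fintype.card F = 2)) :
    Cfsg.Geo.IsMaximalIn (Cfsg.Geo.specialLinear (Fin k × Fin n) F)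
      (Cfsg.Geo.kroneckerSubgroup k n F ⊓ Cfsg.Geo.specialLinear (Fin k × Fin n) F) := by
  obtain ⟨p, hp⟩ := CharP.exists F
  haveI : Fact p.Prime := ⟨(CharP.char_is_prime_or_zero F p).resolve_right (CharP.char_ne_zero_of_finite F p)⟩
  have hex' : 3 ≤ k ∨ ∃ c : F, c ≠ 0 ∧ c ≠ 1 := by
    rcases Nat.lt_or_ge 2 k with h | h
    · exact Or.inl h
    · exact Or.inr (exists_scalar_of_card fun e => hex ⟨le_antisymm h hk, e⟩)
  refine isMaximalIn_of inf_le_right (fun h => ?_) fun M hM hMK g hgM hg => ?_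
  · set x₀ : Fin k := ⟨0, by omega⟩
    set x₁ : Fin k := ⟨1, by omega⟩
    set r₀ : Fin n := ⟨0, by omega⟩
    set r₁ : Fin n := ⟨1, by omega⟩
    have hx : x₀ ≠ x₁ := by simp [x₀, x₁]
    have hr : r₀ ≠ r₁ := by simp [r₀, r₁]
    have hne : (x₀, r₀) ≠ (x₁, r₁) := fun e => hx (congrArg Prod.fst e)
    obtain ⟨a, b, hab⟩ := (h (Aschbacher.mem_specialLinear.2 (tvU_det _ _ hne (1 : F)))).1
    rw [tvU_coe] at hab
    have e : ∀ (i j : Fin k) (r s : Fin n),
        ((1 : Matrix (Fin k × Fin n) (Fin k × Fin n) F) (i, r) (j, s)) +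
          (Matrix.single (x₀, r₀) (x₁, r₁) (1 : F) : Matrix (Fin k × Fin n) (Fin k × Fin n) F) (i, r) (j, s) =
        (a : Matrix (Fin k) (Fin k) F) i j * (b : Matrix (Fin n) (Fin n) F) r s := fun i j r s => by
      rw [← Matrix.add_apply, hab, kroneckerMap_apply]
    have e1 := e x₀ x₁ r₀ r₁
    have e2 := e x₀ x₁ r₀ r₀
    have e3 := e x₀ x₀ r₀ r₀
    simp [Matrix.one_apply, Matrix.single_apply, hx, hx.symm, hr, hr.symm] at e1 e2 e3
    rcases e2 with h0 | h0
    · rw [h0, zero_mul] at e1; exact one_ne_zero e1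
    · rw [h0, mul_zero] at e3; exact one_ne_zero e3
  · have hH : ∀ (a : GL (Fin k) F) (b : GL (Fin n) F), (a : Matrix (Fin k) (Fin k) F).det = 1 →
        (b : Matrix (Fin n) (Fin n) F).det = 1 → kr a b ∈ M :=
      fun a b ha hb => hM ⟨⟨a, b, kr_coe a b⟩, kr_mem_SL ha hb⟩
    by_cases hmax : ∀ R : Subgroup (GL (Fin k × Fin n) F), IsPGroup p R → P0 F k n ≤ R → R ≤ M → R = P0 F k n
    · exact absurd ⟨mem_kronecker hk hkn (preserves_pure p hk hkn hH hmax hgM), hMK hgM⟩ hg
    · push Not at hmax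
      obtain ⟨R, hR, hPR, hRM, hne⟩ := hmax
      obtain ⟨i, j, hij, X, hns, hX⟩ := exists_el p hk hkn hH hR hPR hRM hne
      exact sl_le_of_el p (by omega) hex' hH hij hns hX

theorem tensor_maximal {ι : Type} [Fintype ι] [DecidableEq ι] (hk : 2 ≤ k) (hkn : k < n)
    (hex : ¬ (k = 2 ∧ Fintype.card F = 2)) (e : ι ≃ Fin k × Fin n) (P : GL ι F) :
    Cfsg.Geo.IsMaximalIn (Cfsg.Geo.specialLinear ι F)
      (Cfsg.Geo.tensorProductSubgroup k n e P ⊓ Cfsg.Geo.specialLinear ι F) := by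
  let φ : GL (Fin k × Fin n) F ≃* GL ι F := (Cfsg.Geo.glReindex e.symm).trans (MulAut.conj P)
  have h := SubfieldLinear.isMaximalIn_map φ (kronecker_maximal (F := F) hk hkn hex)
  have hSL : (Cfsg.Geo.specialLinear (Fin k × Fin n) F).map φ.toMonoidHom = Cfsg.Geo.specialLinear ι F := by
    ext g
    constructor
    · rintro ⟨x, hx, rfl⟩
      rw [Aschbacher.mem_specialLinear]
      show ((P * Cfsg.Geo.glReindex e.symm x * P⁻¹ : GL ι F) : Matrix ι ι F).det = 1
      rw [Units.val_mul, Units.val_mul, Matrix.det_units_conj]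
      show (Matrix.reindexAlgEquiv F F e.symm (x : Matrix _ _ F)).det = 1
      rw [Matrix.det_reindexAlgEquiv]
      exact Aschbacher.mem_specialLinear.1 hx
    · intro hg
      refine ⟨φ.symm g, ?_, φ.apply_symm_apply g⟩
      rw [SetLike.mem_coe, Aschbacher.mem_specialLinear]
      have h1 := φ.apply_symm_apply g
      rw [← Aschbacher.mem_specialLinear.1 hg]
      conv_rhs => rw [← h1]
      show _ = ((P * Cfsg.Geo.glReindex e.symm (φ.symm g) * P⁻¹ : GL ι F) : Matrix ι ι F).det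
      rw [Units.val_mul, Units.val_mul, Matrix.det_units_conj]
      exact (Matrix.det_reindexAlgEquiv F F e.symm _).symm
  rw [hSL, Subgroup.map_inf _ _ _ φ.injective, hSL] at h
  convert h using 2
  rw [Cfsg.Geo.tensorProductSubgroup, Subgroup.map_map]
  rfl

end Cfsg.Agent.Forms.Max.TensorMax
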