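import Cfsg.Agent.Lib.Forms.Max.Tensor.Pure

/-!
# A normaliser of `U ⊗ U` yields a block transvection
-/

set_option autoImplicit false
set_option linter.unusedSectionVars false

namespace Cfsg.Agent.Forms.Max.TensorMax

open Matrix Cfsg.Agent.Aschbacher
open scoped Kronecker

variable {F : Type*} [Field F] [Fintype F] {k n : ℕ} (p : ℕ) [Fact p.Prime] [CharP F p]

/-- the elementary transvection -/
noncomputable def tvU {ι : Type} [Fintype ι] [DecidableEq ι] (i j : ι) (h : i ≠ j) (c : F) : GL ι F :=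
  trv (Pi.single i 1) (Pi.single j c) (by rw [single_dotProduct, Pi.single_eq_of_ne h.symm, mul_zero])

theorem tvU_coe {ι : Type} [Fintype ι] [DecidableEq ι] (i j : ι) (h : i ≠ j) (c : F) :
    (tvU i j h c : Matrix ι ι F) = 1 + Matrix.single i j c := by
  rw [tvU, trv_coe]
  congr 1
  ext a b
  rcases eq_or_ne i a with rfl | h1
  · rcases eq_or_ne j b with rfl | h2
    · simp [vecMulVec_apply]
    · simp [vecMulVec_apply, h2, h2.symm]
  · simp [vecMulVec_apply, h1, h1.symm]

theorem tvU_det {ι : Type} [Fintype ι] [DecidableEq ι] (i j : ι) (h : i ≠ j) (c : F) :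
    (tvU i j h c : Matrix ι ι F).det = 1 :=
  Aschbacher.mem_specialLinear.1 (trv_mem_SL _ _ _)

theorem tvU_inv {ι : Type} [Fintype ι] [DecidableEq ι] (i j : ι) (h : i ≠ j) (c : F) :
    (tvU i j h c)⁻¹ = tvU i j h (-c) := by
  refine inv_eq_of_mul_eq_one_right (Units.ext ?_)
  rw [Units.val_mul, tvU_coe, tvU_coe, add_mul, one_mul, mul_add, mul_one,
    Matrix.single_mul_single_of_ne _ _ _ _ h.symm, add_zero, add_assoc, ← Matrix.single_add]
  simp

theorem tvU_mem_Uni {i j : Fin n} (h : i < j) (c : F) : tvU i j h.ne c ∈ Uni F n := fun a b hab => by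
  rw [tvU_coe, add_sub_cancel_left, Matrix.single_apply, if_neg]
  rintro ⟨rfl, rfl⟩
  exact absurd hab (not_le.2 h)

/-- `1 + X ⊗ e_{ij}` -/
noncomputable def el (X : Matrix (Fin k) (Fin k) F) (i j : Fin n) (h : i ≠ j) : GL (Fin k × Fin n) F :=
  ⟨1 + X ⊗ₖ Matrix.single i j 1, 1 - X ⊗ₖ Matrix.single i j 1,
    by rw [add_mul, one_mul, mul_sub, mul_one, ← mul_kronecker_mul,
      Matrix.single_mul_single_of_ne _ _ _ _ h.symm, kronecker_zero]; abel,
    by rw [sub_mul, one_mul, mul_add, mul_one, ← mul_kronecker_mul,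
      Matrix.single_mul_single_of_ne _ _ _ _ h.symm, kronecker_zero]; abel⟩

theorem el_coe (X : Matrix (Fin k) (Fin k) F) (i j : Fin n) (h : i ≠ j) :
    (el X i j h : Matrix (Fin k × Fin n) (Fin k × Fin n) F) = 1 + X ⊗ₖ Matrix.single i j 1 := rfl

/-- a tensor matrix as a matrix of blocks -/
def blk : Matrix (Fin k × Fin n) (Fin k × Fin n) F →+* Matrix (Fin n) (Fin n) (Matrix (Fin k) (Fin k) F) where
  toFun g := Matrix.of fun a b => Matrix.of fun i j => g (i, a) (j, b)
  map_one' := by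
    refine Matrix.ext fun a b => Matrix.ext fun i j => ?_
    rcases eq_or_ne a b with rfl | h
    · simp [Matrix.one_apply]
    · simp [Matrix.one_apply, h]
  map_zero' := rfl
  map_add' _ _ := rfl
  map_mul' g h := by
    refine Matrix.ext fun a b => Matrix.ext fun i j => ?_
    simp only [of_apply, Matrix.mul_apply, Fintype.sum_prod_type, Matrix.sum_apply]
    exact Finset.sum_comm

theorem blk_apply (g : Matrix (Fin k × Fin n) (Fin k × Fin n) F) (a b : Fin n) (i j : Fin k) :
    blk g a b i j = g (i, a) (j, b) := rfl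

theorem blk_inj {g h : Matrix (Fin k × Fin n) (Fin k × Fin n) F} (e : blk g = blk h) : g = h :=
  Matrix.ext fun ⟨i, a⟩ ⟨j, b⟩ => congrFun (congrFun (congrFun (congrFun e a) b) i) j

theorem blk_one_kron (E : Matrix (Fin n) (Fin n) F) :
    blk ((1 : Matrix (Fin k) (Fin k) F) ⊗ₖ E) = E.map (algebraMap F (Matrix (Fin k) (Fin k) F)) := by
  refine Matrix.ext fun a b => Matrix.ext fun i j => ?_
  rw [blk_apply, kroneckerMap_apply, Matrix.map_apply, Matrix.algebraMap_matrix_apply, Matrix.one_apply]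
  split_ifs <;> simp

theorem blk_kron_one (A : Matrix (Fin k) (Fin k) F) :
    blk (A ⊗ₖ (1 : Matrix (Fin n) (Fin n) F)) = Matrix.diagonal fun _ => A := by
  refine Matrix.ext fun a b => Matrix.ext fun i j => ?_
  rw [blk_apply, kroneckerMap_apply, Matrix.one_apply, Matrix.diagonal_apply]
  split_ifs <;> simp

theorem blk_single (X : Matrix (Fin k) (Fin k) F) (a b : Fin n) :
    blk (X ⊗ₖ Matrix.single a b 1) = Matrix.single a b X := by
  refine Matrix.ext fun c d => Matrix.ext fun i j => ?_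
  rw [blk_apply, kroneckerMap_apply, Matrix.single_apply, Matrix.single_apply]
  split_ifs <;> simp

section Triangular

variable {R : Type*} [Ring R]

/-- block upper triangular -/
def Upper (G : Matrix (Fin n) (Fin n) R) : Prop := ∀ a c : Fin n, c < a → G a c = 0

theorem Upper.mul {G H : Matrix (Fin n) (Fin n) R} (hG : Upper G) (hH : Upper H) :
    Upper (G * H) ∧ ∀ c, (G * H) c c = G c c * H c c := by
  refine ⟨fun a c hac => ?_, fun c => ?_⟩
  · rw [Matrix.mul_apply]
    refine Finset.sum_eq_zero fun b _ => ?_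
    rcases lt_or_ge b a with h | h
    · rw [hG a b h, zero_mul]
    · rw [hH b c (hac.trans_le h), mul_zero]
  · rw [Matrix.mul_apply]
    refine Finset.sum_eq_single c (fun b _ hb => ?_) (by simp)
    rcases lt_or_gt_of_ne hb with h | h
    · rw [hG c b h, zero_mul]
    · rw [hH b c h, mul_zero]

theorem Upper.pow {G : Matrix (Fin n) (Fin n) R} (hG : Upper G) :
    ∀ t : ℕ, Upper (G ^ t) ∧ ∀ c, (G ^ t) c c = G c c ^ t
  | 0 => ⟨fun a c h => by rw [pow_zero, Matrix.one_apply_ne h.ne'], fun c => by simp⟩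
  | t + 1 => by
    obtain ⟨h1, h2⟩ := Upper.pow hG t
    obtain ⟨h3, h4⟩ := h1.mul hG
    rw [pow_succ]
    exact ⟨h3, fun c => by rw [h4, h2, pow_succ]⟩

variable [Algebra F R]

/-- the blocks of a normaliser -/
def RelR (F : Type*) [Field F] [Fintype F] [Algebra F R] (G : Matrix (Fin n) (Fin n) R) : Prop :=
  ∀ l l' : Fin n, (l' : ℕ) = l + 1 → ∃ E : Matrix (Fin n) (Fin n) F, SU E ∧ ∀ a c,
    (if c = l' then G a l else 0) = ∑ b, algebraMap F R (E a b) * G b c

theorem relR_of_eq {G : Matrix (Fin n) (Fin n) R}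
    (h : ∀ l l' : Fin n, (l' : ℕ) = l + 1 → ∃ E : Matrix (Fin n) (Fin n) F, SU E ∧
      G * Matrix.single l l' 1 = E.map (algebraMap F R) * G) : RelR F G := by
  intro l l' hl
  obtain ⟨E, hE, e⟩ := h l l' hl
  refine ⟨E, hE, fun a c => ?_⟩
  have := congrFun (congrFun e a) c
  rw [Matrix.mul_apply (M := E.map _)] at this
  simp only [Matrix.map_apply] at this
  rw [← this]
  rcases eq_or_ne c l' with rfl | hc
  · simp
  · rw [if_neg hc, Matrix.mul_single_apply_of_ne _ _ _ _ _ hc]

theorem RelR.upper {G : Matrix (Fin n) (Fin n) R} (hG : RelR F G) : Upper G := by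
  suffices h : ∀ (j : ℕ) (c : Fin n), n - 1 - c = j → ∀ a, c < a → G a c = 0 from fun a c hac => h _ c rfl a hac
  intro j
  induction j with
  | zero => intro c hc a ha; exact absurd a.2 (by rw [Fin.lt_def] at ha; omega)
  | succ j ih =>
    intro c hc a ha
    obtain ⟨E, hE, hEq⟩ := hG c ⟨c + 1, by omega⟩ rfl
    have e := hEq a ⟨c + 1, by omega⟩
    rw [if_pos rfl] at e
    rw [e]
    refine Finset.sum_eq_zero fun b _ => ?_
    rcases le_or_gt b a with hb | hb
    · rw [hE a b hb, map_zero, zero_mul]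
    · rw [ih ⟨c + 1, by omega⟩ (by simp; omega) b (by simp only [Fin.lt_def] at *; omega), mul_zero]

theorem RelR.diag [Nontrivial R] {G : Matrix (Fin n) (Fin n) R} (hG : RelR F G) (hn : 0 < n) {s : ℕ}
    (hpow : G ^ p ^ s = 1) : ∃ D : R, D ^ p ^ s = 1 ∧ ∀ c, G c c = D := by
  have hU := hG.upper
  set last : Fin n := ⟨n - 1, by omega⟩
  have hd : ∀ c, G c c ^ p ^ s = 1 := fun c => by rw [← (hU.pow (p ^ s)).2 c, hpow, Matrix.one_apply_eq]
  refine ⟨G last last, hd last, fun c => ?_⟩
  suffices h : ∀ (j : ℕ) (c : Fin n), n - 1 - c = j → ∃ μ : F, G c c = algebraMap F R μ * G last last by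
    obtain ⟨μ, hμ⟩ := h _ c rfl
    have h1 := hd c
    rw [hμ, (Algebra.commute_algebraMap_left μ _).mul_pow, hd last, mul_one, ← map_pow,
      ← map_one (algebraMap F R)] at h1
    rw [hμ, eq_one_of_pow p ((algebraMap F R).injective h1), map_one, one_mul]
  intro j
  induction j with
  | zero => intro c hc; exact ⟨1, by rw [map_one, one_mul, show c = last from Fin.ext (by simp [last]; omega)]⟩
  | succ j ih =>
    intro c hc
    obtain ⟨μ, hμ⟩ := ih ⟨c + 1, by omega⟩ (by simp; omega)
    obtain ⟨E, hE, hEq⟩ := hG c ⟨c + 1, by omega⟩ rfl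
    have e := hEq c ⟨c + 1, by omega⟩
    rw [if_pos rfl, Fintype.sum_eq_single (⟨c + 1, by omega⟩ : Fin n) (fun b hb => ?_)] at e
    · exact ⟨E c ⟨c + 1, by omega⟩ * μ, by rw [e, hμ, map_mul, mul_assoc]⟩
    · rcases le_or_gt b c with h | h
      · rw [hE c b h, map_zero, zero_mul]
      · rw [hU b _ (by simp only [Fin.lt_def, ne_eq, Fin.ext_iff] at *; omega), mul_zero]

/-- unitriangular with the bands `0 < c - a < d` zero -/
def Band (d : ℕ) (G : Matrix (Fin n) (Fin n) R) : Prop :=
  Upper G ∧ (∀ c, G c c = 1) ∧ ∀ a c : Fin n, a < c → (c : ℕ) < a + d → G a c = 0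

theorem band_scalar [Nontrivial R] {d : ℕ} (hd : 1 ≤ d) (hdn : d + 2 ≤ n) {G : Matrix (Fin n) (Fin n) R}
    (hG : RelR F G) (hB : Band d G) {a c : Fin n} (hac : (c : ℕ) = a + d) :
    ∃ x : F, G a c = algebraMap F R x := by
  obtain ⟨hU, h1, hband⟩ := hB
  by_cases hlast : (c : ℕ) + 1 < n
  · obtain ⟨E, hE, hEq⟩ := hG c ⟨c + 1, hlast⟩ rfl
    have hE1 : E a ⟨a + 1, by omega⟩ = 0 := by
      have e := hEq a ⟨a + 1, by omega⟩
      rw [if_neg (by simp [Fin.ext_iff]; omega), Fintype.sum_eq_single (⟨a + 1, by omega⟩ : Fin n) (fun b hb => ?_),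
        h1, mul_one] at e
      · exact (algebraMap F R).injective (by rw [← e, map_zero])
      · rcases le_or_gt b a with h | h
        · rw [hE a b h, map_zero, zero_mul]
        · rw [hU b _ (by simp only [Fin.lt_def, ne_eq, Fin.ext_iff] at *; omega), mul_zero]
    have e := hEq a ⟨c + 1, hlast⟩
    rw [if_pos rfl, Fintype.sum_eq_single (⟨c + 1, hlast⟩ : Fin n) (fun b hb => ?_), h1, mul_one] at e
    · exact ⟨_, e⟩
    · rcases le_or_gt b a with h | h
      · rw [hE a b h, map_zero, zero_mul]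
      rcases eq_or_ne b ⟨a + 1, by omega⟩ with h' | h'
      · rw [h', hE1, map_zero, zero_mul]
      rcases lt_or_gt_of_ne hb with h'' | h''
      · rw [hband b _ h'' (by simp only [Fin.lt_def, ne_eq, Fin.ext_iff] at *; omega), mul_zero]
      · rw [hU b _ h'', mul_zero]
  · have ha : 1 ≤ (a : ℕ) := by omega
    obtain ⟨E, hE, hEq⟩ := hG ⟨a - 1, by omega⟩ a (by simp; omega)
    set l : Fin n := ⟨a - 1, by omega⟩ with hl
    have hla : l < a := by simp [hl, Fin.lt_def]; omega
    have hE1 : algebraMap F R (E l a) = 1 := by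
      have e := hEq l a
      rw [if_pos rfl, h1, Fintype.sum_eq_single a (fun b hb => ?_), h1, mul_one] at e
      · exact e.symm
      · rcases le_or_gt b l with h | h
        · rw [hE l b h, map_zero, zero_mul]
        · rw [hU b a (by simp only [hl, Fin.lt_def, ne_eq, Fin.ext_iff] at *; omega), mul_zero]
    have e := hEq l c
    rw [if_neg (by simp [Fin.ext_iff]; omega), Fintype.sum_eq_add a c (by simp [Fin.ext_iff]; omega)
      (fun b ⟨hb, hb'⟩ => ?_), hE1, one_mul, h1, mul_one] at e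
    · exact ⟨-E l c, by rw [map_neg]; exact eq_neg_of_add_eq_zero_left e.symm⟩
    · rcases le_or_gt b l with h | h
      · rw [hE l b h, map_zero, zero_mul]
      rcases lt_or_gt_of_ne hb' with h'' | h''
      · rw [hband b c h'' (by simp only [hl, Fin.lt_def, ne_eq, Fin.ext_iff] at *; omega), mul_zero]
      · rw [hU b c h'', mul_zero]

end Triangular

/-- the normaliser relation -/
def Rel (g : GL (Fin k × Fin n) F) : Prop :=
  ∀ l l' : Fin n, (h : (l' : ℕ) = l + 1) → ∃ c ∈ Uni F n,
    g * kr 1 (tvU l l' (fun e => by rw [e] at h; omega) 1) = kr 1 c * g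

theorem Rel.mul_one_kr {g : GL (Fin k × Fin n) F} (hg : Rel g) {b : GL (Fin n) F} (hb : b ∈ Uni F n) :
    Rel (kr 1 b * g) := by
  intro l l' h
  obtain ⟨c, hc, e⟩ := hg l l' h
  refine ⟨b * c * b⁻¹, mul_mem (mul_mem hb hc) (inv_mem hb), ?_⟩
  have h2 : kr (1 : GL (Fin k) F) (b * c * b⁻¹) * kr 1 b = kr 1 b * kr 1 c := by
    rw [kr_mul, kr_mul, inv_mul_cancel_right]
  rw [mul_assoc, e, ← mul_assoc, ← mul_assoc, h2]

theorem Rel.mul_kr_one {g : GL (Fin k × Fin n) F} (hg : Rel g) (a : GL (Fin k) F) :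
    Rel (kr a (1 : GL (Fin n) F) * g) := by
  intro l l' h
  obtain ⟨c, hc, e⟩ := hg l l' h
  refine ⟨c, hc, ?_⟩
  rw [mul_assoc, e, ← mul_assoc, ← mul_assoc, kr_mul, kr_mul, mul_one, one_mul, one_mul, mul_one]

theorem Rel.blk {g : GL (Fin k × Fin n) F} (hg : Rel g) :
    RelR F (TensorMax.blk (g : Matrix (Fin k × Fin n) (Fin k × Fin n) F)) := by
  refine relR_of_eq fun l l' h => ?_
  obtain ⟨c, hc, e⟩ := hg l l' h
  refine ⟨(c : Matrix (Fin n) (Fin n) F) - 1, hc, ?_⟩
  have e' := congrArg (fun x : GL (Fin k × Fin n) F => TensorMax.blk (Units.val x)) e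
  simp only [Units.val_mul, map_mul, kr_coe, Units.val_one, blk_one_kron, tvU_coe] at e'
  rw [Matrix.map_add _ (map_add _), Matrix.map_one _ (map_zero _) (map_one _), mul_add, mul_one] at e'
  rw [Matrix.map_sub _ (map_sub _), Matrix.map_one _ (map_zero _) (map_one _), sub_mul, one_mul, ← e',
    add_sub_cancel_left]
  congr 1
  ext a b
  rw [Matrix.map_apply, Matrix.single_apply, Matrix.single_apply]
  split_ifs <;> simp

/-- a unitriangular element from a strictly upper triangular matrix -/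
noncomputable def uniOf (E : Matrix (Fin n) (Fin n) F) (hE : SU E) : GL (Fin n) F :=
  Matrix.GeneralLinearGroup.mkOfDetNeZero (1 + E) (by
    rw [Matrix.det_of_isUpperTriangular (M := 1 + E) fun i j (h : j < i) => by
      rw [Matrix.add_apply, hE i j h.le, Matrix.one_apply_ne h.ne', add_zero],
      Finset.prod_eq_one fun i _ => by rw [Matrix.add_apply, hE i i le_rfl, Matrix.one_apply_eq, add_zero]]
    exact one_ne_zero)

theorem uniOf_coe (E : Matrix (Fin n) (Fin n) F) (hE : SU E) :
    (uniOf E hE : Matrix (Fin n) (Fin n) F) = 1 + E := rfl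

theorem uniOf_mem (E : Matrix (Fin n) (Fin n) F) (hE : SU E) : uniOf E hE ∈ Uni F n := by
  rw [mem_Uni, uniOf_coe, add_sub_cancel_left]; exact hE

theorem Upper.det {G : Matrix (Fin n) (Fin n) F} (hG : Upper G) (hd : ∀ c, G c c = 1) : SU (G - 1) := by
  intro i j h
  rcases h.eq_or_lt with rfl | h
  · simp [hd]
  · simp [hG i j h, Matrix.one_apply_ne h.ne']

/-- eliminate the bands one after the other -/
theorem exists_band [NeZero k] {g : GL (Fin k × Fin n) F} (hg : Rel g)
    (hB : Band 1 (blk (g : Matrix (Fin k × Fin n) (Fin k × Fin n) F))) :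
    ∀ d, 1 ≤ d → d + 1 ≤ n → ∃ b ∈ Uni F n,
      Band d (blk ((kr 1 b * g : GL (Fin k × Fin n) F) : Matrix (Fin k × Fin n) (Fin k × Fin n) F)) := by
  classical
  intro d hd
  induction d, hd using Nat.le_induction with
  | base => exact fun _ => ⟨1, one_mem _, by rwa [kr_one, one_mul]⟩
  | succ d hd ih =>
    intro hdn
    obtain ⟨b, hb, hb'⟩ := ih (by omega)
    have hR := (hg.mul_one_kr hb).blk
    have hscal : ∀ a c : Fin n, ∃ x : F, (c : ℕ) = a + d →
        blk ((kr 1 b * g : GL (Fin k × Fin n) F) : Matrix (Fin k × Fin n) (Fin k × Fin n) F) a c =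
          algebraMap F _ x := fun a c => by
      by_cases h : (c : ℕ) = a + d
      · obtain ⟨x, hx⟩ := band_scalar hd (by omega) hR hb' h
        exact ⟨x, fun _ => hx⟩
      · exact ⟨0, fun h' => absurd h' h⟩
    choose x hx using hscal
    let X : Matrix (Fin n) (Fin n) F := Matrix.of fun a c => if (c : ℕ) = a + d then -x a c else 0
    have hX : SU X := fun i j hij => if_neg fun h => by rw [Fin.le_def] at hij; omega
    refine ⟨uniOf X hX * b, mul_mem (uniOf_mem X hX) hb, ?_⟩
    obtain ⟨hU, h1, hband⟩ := hb'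
    rw [show kr (1 : GL (Fin k) F) (uniOf X hX * b) = kr 1 (uniOf X hX) * kr 1 b by rw [kr_mul, one_mul],
      mul_assoc, Units.val_mul, map_mul, kr_coe, Units.val_one, uniOf_coe, blk_one_kron,
      Matrix.map_add _ (map_add _), Matrix.map_one _ (map_zero _) (map_one _), add_mul, one_mul]
    set G := blk ((kr 1 b * g : GL (Fin k × Fin n) F) : Matrix (Fin k × Fin n) (Fin k × Fin n) F) with hGdef
    have hz : ∀ a c : Fin n, (c : ℕ) < a + d → (X.map (algebraMap F (Matrix (Fin k) (Fin k) F)) * G) a c = 0 := by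
      intro a c hc
      rw [Matrix.mul_apply]
      refine Finset.sum_eq_zero fun i _ => ?_
      simp only [Matrix.map_apply, X, of_apply]
      split_ifs with h
      · rw [hU i c (by simp only [Fin.lt_def] at *; omega), mul_zero]
      · rw [map_zero, zero_mul]
    refine ⟨fun a c hac => ?_, fun c => ?_, fun a c hac hc => ?_⟩
    · rw [Matrix.add_apply, hU a c hac, hz a c (by simp only [Fin.lt_def] at *; omega), add_zero]
    · rw [Matrix.add_apply, h1, hz c c (by omega), add_zero]
    · rcases (show (c : ℕ) < a + d ∨ (c : ℕ) = a + d by omega) with h | h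
      · rw [Matrix.add_apply, hband a c hac h, hz a c h, add_zero]
      · rw [Matrix.add_apply, Matrix.mul_apply, Fintype.sum_eq_single c (fun i hi => ?_), h1, mul_one]
        · simp only [Matrix.map_apply, X, of_apply, if_pos h, hx a c h, map_neg, add_neg_cancel]
        · simp only [Matrix.map_apply, X, of_apply]
          rw [if_neg (fun h' => hi (Fin.ext (by omega))), map_zero, zero_mul]

/-- a normaliser of `U ⊗ U` outside of it gives a block transvection with non-scalar block -/
theorem exists_el (hk : 2 ≤ k) (hkn : k < n) {M : Subgroup (GL (Fin k × Fin n) F)}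
    (hH : ∀ (a : GL (Fin k) F) (b : GL (Fin n) F), (a : Matrix (Fin k) (Fin k) F).det = 1 →
      (b : Matrix (Fin n) (Fin n) F).det = 1 → kr a b ∈ M)
    {R : Subgroup (GL (Fin k × Fin n) F)} (hR : IsPGroup p R) (hPR : P0 F k n ≤ R) (hRM : R ≤ M)
    (hne : R ≠ P0 F k n) :
    ∃ (i j : Fin n) (h : i ≠ j) (X : Matrix (Fin k) (Fin k) F), (¬ ∃ x : F, X = algebraMap F _ x) ∧
      el X i j h ∈ M := by
  classical
  haveI : NeZero k := ⟨by omega⟩
  haveI : Finite R := inferInstance
  haveI := IsPGroup.isNilpotent hR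
  have hlt : (P0 F k n).subgroupOf R < ⊤ := lt_top_iff_ne_top.2 fun h =>
    hne (le_antisymm (Subgroup.subgroupOf_eq_top.1 h) hPR)
  obtain ⟨⟨g, hgR⟩, hgN, hgP⟩ := SetLike.exists_of_lt (normalizerCondition_of_isNilpotent (G := R) _ hlt)
  replace hgP : g ∉ P0 F k n := hgP
  have hN : ∀ x ∈ P0 F k n, g * x * g⁻¹ ∈ P0 F k n := fun x hx =>
    ((Subgroup.mem_normalizer_iff.1 hgN) ⟨x, hPR hx⟩).1 hx
  obtain ⟨s, hs⟩ : ∃ s, g ^ p ^ s = 1 := by
    obtain ⟨s, hs⟩ := hR ⟨g, hgR⟩
    exact ⟨s, congrArg Subtype.val hs⟩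
  have hRel : Rel g := by
    intro l l' hl
    have hlt : l < l' := Fin.lt_def.2 (by omega)
    have h1 := hN _ (mem_P0.2 ⟨1, one_mem _, _, tvU_mem_Uni hlt 1, rfl⟩)
    obtain ⟨a, ha, c, hc, hac⟩ := mem_P0.1 h1
    have h3 : Module.finrank F (mov (kr a c : Matrix (Fin k × Fin n) (Fin k × Fin n) F)) = k := by
      rw [hac, mov_conj, finrank_img, kr_coe, Units.val_one, mov_one_kron, finrank_UT, tvU,
        mov_trv _ (Pi.single_ne_zero_iff.2 one_ne_zero),
        finrank_span_singleton (Pi.single_ne_zero_iff.2 one_ne_zero), mul_one]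
    have ha1 := eq_of_small hkn ha h3.le
    subst ha1
    exact ⟨c, hc, by rw [hac]; group⟩
  set G := blk (g : Matrix (Fin k × Fin n) (Fin k × Fin n) F) with hG
  have hGpow : G ^ p ^ s = 1 := by
    rw [hG, ← map_pow, ← Units.val_pow_eq_pow_val, hs, Units.val_one, map_one]
  obtain ⟨D, hD, hdiag⟩ := hRel.blk.diag p (by omega) hGpow
  have hDdet : D.det = 1 := det_eq_one_of_pow p hD
  set a : GL (Fin k) F := Matrix.GeneralLinearGroup.mkOfDetNeZero D (by rw [hDdet]; exact one_ne_zero) with ha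
  have haD : (a : Matrix (Fin k) (Fin k) F) = D := rfl
  set g' := kr a⁻¹ (1 : GL (Fin n) F) * g with hg'
  have hg'B : Band 1 (blk (g' : Matrix (Fin k × Fin n) (Fin k × Fin n) F)) := by
    rw [hg', Units.val_mul, map_mul, kr_coe, Units.val_one, blk_kron_one]
    refine ⟨fun i j h => ?_, fun c => ?_, fun i j h h' => absurd h' (by rw [Fin.lt_def] at h; omega)⟩
    · rw [Matrix.diagonal_mul, hRel.blk.upper i j h, mul_zero]
    · rw [Matrix.diagonal_mul, hdiag, ← haD, ← Units.val_mul, inv_mul_cancel, Units.val_one]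
  obtain ⟨b, hb, hU, h1, hband⟩ := exists_band (hRel.mul_kr_one a⁻¹) hg'B (n - 1) (by omega) (by omega)
  set z : Fin n := ⟨0, by omega⟩
  set last : Fin n := ⟨n - 1, by omega⟩
  have hzl : z ≠ last := by simp [z, last, Fin.ext_iff]; omega
  set hh := kr 1 b * g' with hhdef
  set X := blk (hh : Matrix (Fin k × Fin n) (Fin k × Fin n) F) z last with hX
  have hheq : hh = el X z last hzl := by
    refine Units.ext (blk_inj ?_)
    rw [el_coe, map_add, map_one, blk_single]
    refine Matrix.ext fun i j => ?_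
    rw [Matrix.add_apply, Matrix.single_apply, Matrix.one_apply]
    rcases lt_trichotomy i j with h | rfl | h
    · rw [if_neg h.ne, zero_add]
      by_cases he : z = i ∧ last = j
      · obtain ⟨rfl, rfl⟩ := he
        rw [if_pos ⟨rfl, rfl⟩]
      · rw [if_neg he, hband i j h]
        simp only [z, last, Fin.ext_iff] at he
        rw [Fin.lt_def] at h
        omega
    · rw [h1, if_pos rfl, if_neg (fun he => hzl (he.1.trans he.2.symm)), add_zero]
    · rw [hU i j h, if_neg h.ne', if_neg, add_zero]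
      rintro ⟨rfl, rfl⟩
      simp [z, last, Fin.lt_def] at h
  have hhM : hh ∈ M :=
    mul_mem (hH 1 b (by simp) (Uni.det hb))
      (mul_mem (hH a⁻¹ 1 (by rw [Matrix.coe_units_inv, Matrix.det_nonsing_inv, haD, hDdet, Ring.inverse_one])
        (by simp)) (hRM hgR))
  refine ⟨z, last, hzl, X, ?_, hheq ▸ hhM⟩
  rintro ⟨x, hx⟩
  -- otherwise the element lies in `U ⊗ U`
  have hlt' : z < last := lt_of_le_of_ne (Nat.zero_le _) hzl
  have h2 : hh = kr 1 (tvU z last hzl x) := by
    rw [hheq]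
    refine Units.ext (blk_inj ?_)
    rw [el_coe, kr_coe, map_add, map_one, blk_single, Units.val_one, blk_one_kron, tvU_coe,
      Matrix.map_add _ (map_add _), Matrix.map_one _ (map_zero _) (map_one _), hx]
    congr 1
    refine Matrix.ext fun i j => ?_
    rw [Matrix.map_apply, Matrix.single_apply, Matrix.single_apply]
    split_ifs <;> simp
  set b' := b⁻¹ * tvU z last hzl x
  have hb' : b' ∈ Uni F n := mul_mem (inv_mem hb) (tvU_mem_Uni hlt' x)
  have hgab : g = kr a b' := by
    have : g' = kr 1 b' := by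
      rw [show b' = b⁻¹ * tvU z last hzl x from rfl, ← one_mul (1 : GL (Fin k) F), ← kr_mul, ← h2, hhdef,
        ← mul_assoc, kr_mul, one_mul, inv_mul_cancel, kr_one, one_mul]
    calc g = kr a (1 : GL (Fin n) F) * g' := by rw [hg', ← mul_assoc, kr_mul, mul_inv_cancel, one_mul, kr_one, one_mul]
      _ = kr a b' := by rw [this, kr_mul, mul_one, one_mul]
  refine hgP (mem_P0.2 ⟨a, ?_, b', hb', hgab.symm⟩)
  have hRa : RelR F (a : Matrix (Fin k) (Fin k) F) := by
    refine relR_of_eq fun l l' hl => ?_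
    have hlt : l < l' := Fin.lt_def.2 (by omega)
    obtain ⟨a', ha', c, hc, hac⟩ := mem_P0.1 (hN _ (mem_P0.2 ⟨_, tvU_mem_Uni hlt 1, 1, one_mem _, rfl⟩))
    rw [hgab, kr_inv, kr_mul, kr_mul, mul_one, mul_inv_cancel] at hac
    have he : a * tvU l l' hlt.ne 1 * a⁻¹ = a' := by
      refine Units.ext (Matrix.ext fun i j => ?_)
      have h' : (kr a' c : Matrix (Fin k × Fin n) (Fin k × Fin n) F) =
          (kr (a * tvU l l' hlt.ne 1 * a⁻¹) (1 : GL (Fin n) F) : Matrix (Fin k × Fin n) (Fin k × Fin n) F) := by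
        rw [hac]
      have := congrFun (congrFun h' (i, z)) (j, z)
      rw [kr_coe, kr_coe, kroneckerMap_apply, kroneckerMap_apply, Uni.diag hc, mul_one, Units.val_one,
        Matrix.one_apply_eq, mul_one] at this
      exact this.symm
    refine ⟨(a' : Matrix (Fin k) (Fin k) F) - 1, ha', ?_⟩
    have h5 : Units.val (a * tvU l l' hlt.ne 1) = Units.val (a' * a) := by rw [← he]; group
    rw [Units.val_mul, Units.val_mul, tvU_coe, mul_add, mul_one] at h5
    rw [Algebra.algebraMap_self]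
    simp only [Matrix.map_id', RingHom.coe_id, id_eq, sub_mul, one_mul, ← h5, add_sub_cancel_left, Matrix.map_id]
  obtain ⟨d, hd, hda⟩ := hRa.diag p (by omega) (s := s) (by rw [haD]; exact hD)
  exact mem_Uni.2 (Upper.det hRa.upper fun c => (hda c).trans (eq_one_of_pow p hd))

end Cfsg.Agent.Forms.Max.TensorMax
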