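import Cfsg.Agent.Lib.Forms.Max.Tensor.Basic

/-!
# Overgroups in which the unitriangular group is a Sylow subgroup preserve pure tensors
-/

set_option autoImplicit false
set_option linter.unusedSectionVars false

namespace Cfsg.Agent.Forms.Max.TensorMax

open Matrix Cfsg.Agent.Aschbacher
open scoped Kronecker

variable {F : Type*} [Field F] [Fintype F] {k n : ℕ} (p : ℕ) [Fact p.Prime] [CharP F p]

/-- the product of the unitriangular groups -/
noncomputable def P0 (F : Type*) [Field F] [Fintype F] (k n : ℕ) : Subgroup (GL (Fin k × Fin n) F) :=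
  ((Uni F k).prod (Uni F n)).map kronUnit

theorem mem_P0 {g : GL (Fin k × Fin n) F} :
    g ∈ P0 F k n ↔ ∃ a ∈ Uni F k, ∃ b ∈ Uni F n, kr a b = g := by
  constructor
  · rintro ⟨⟨a, b⟩, ⟨ha, hb⟩, rfl⟩
    exact ⟨a, ha, b, hb, rfl⟩
  · rintro ⟨a, ha, b, hb, rfl⟩
    exact ⟨(a, b), ⟨ha, hb⟩, rfl⟩

theorem P0_pGroup : IsPGroup p (P0 F k n) := by
  rintro ⟨g, hg⟩
  obtain ⟨a, ha, b, hb, rfl⟩ := mem_P0.1 hg
  refine ⟨k + n, Subtype.ext ?_⟩
  show kr a b ^ p ^ (k + n) = 1
  rw [kr_pow, pow_add]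
  conv_lhs => arg 1; rw [pow_mul, Uni.exists_pow p ha, one_pow]
  conv_lhs => arg 2; rw [mul_comm, pow_mul, Uni.exists_pow p hb, one_pow]
  exact kr_one

theorem P0_det {g : GL (Fin k × Fin n) F} (hg : g ∈ P0 F k n) :
    g ∈ Cfsg.Geo.specialLinear (Fin k × Fin n) F := by
  obtain ⟨a, ha, b, hb, rfl⟩ := mem_P0.1 hg
  exact kr_mem_SL (Uni.det ha) (Uni.det hb)

theorem exists_conj_le {G : Type*} [Group G] [Finite G] {M P Q : Subgroup G} (hP : IsPGroup p P) (hPM : P ≤ M)
    (hmax : ∀ R : Subgroup G, IsPGroup p R → P ≤ R → R ≤ M → R = P) (hQ : IsPGroup p Q) (hQM : Q ≤ M) :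
    ∃ m ∈ M, ∀ x ∈ Q, m * x * m⁻¹ ∈ P := by
  let S : Sylow p M :=
    { toSubgroup := P.subgroupOf M
      isPGroup' := hP.of_equiv (Subgroup.subgroupOfEquivOfLe hPM).symm
      is_maximal' := fun {R} hR hPR => by
        have h1 : R.map M.subtype = P := hmax _ (hR.map M.subtype)
          (fun x hx => ⟨⟨x, hPM hx⟩, hPR (show (⟨x, hPM hx⟩ : M) ∈ P.subgroupOf M from hx), rfl⟩)
          (Subgroup.map_subtype_le R)
        rw [← h1, Subgroup.subgroupOf, Subgroup.comap_map_eq_self_of_injective M.subtype_injective] }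
  obtain ⟨T, hT⟩ := (hQ.of_equiv (Subgroup.subgroupOfEquivOfLe hQM).symm).exists_le_sylow
  obtain ⟨m, hm⟩ := MulAction.exists_smul_eq M T S
  refine ⟨m, m.2, fun x hx => ?_⟩
  have h2 : MulAut.conj m • (⟨x, hQM hx⟩ : M) ∈ ((m • T : Sylow p M) : Subgroup M) := by
    rw [Sylow.coe_subgroup_smul]
    exact Subgroup.smul_mem_pointwise_smul _ _ _ (hT hx)
  rw [hm] at h2
  exact h2

theorem row_sum {ι : Type*} (s : Finset ι) (x : ι → Fin k × Fin n → F) (i : Fin k) :
    row (∑ j ∈ s, x j) i = ∑ j ∈ s, row (x j) i :=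
  funext fun r => by simp [row, Finset.sum_apply]

theorem pure_sum_left {ι : Type*} (s : Finset ι) (u : Fin k → F) (w : ι → Fin n → F) :
    pure u (∑ j ∈ s, w j) = ∑ j ∈ s, pure u (w j) :=
  map_sum (pureL u) w s

/-- the elements fixing `S` and moving everything into `S` -/
def fixer (S : Submodule F (Fin n → F)) : Subgroup (GL (Fin n) F) where
  carrier := {b | (∀ x ∈ S, (Units.val (b)) *ᵥ x = x) ∧ ∀ x, (Units.val (b)) *ᵥ x - x ∈ S}
  one_mem' := ⟨fun x _ => by simp, fun x => by simp⟩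
  mul_mem' {b c} hb hc := ⟨fun x hx => by rw [mulVec_mul_GL, hc.1 x hx, hb.1 x hx], fun x => by
    rw [mulVec_mul_GL, ← sub_add_sub_cancel _ ((Units.val (c)) *ᵥ x)]
    exact S.add_mem (hb.2 _) (hc.2 x)⟩
  inv_mem' {b} hb := ⟨fun x hx => mulVec_inj b (by rw [mulVec_inv_cancel, hb.1 x hx]), fun x => by
    have h := hb.2 ((Units.val ((b⁻¹ : GL (Fin n) F))) *ᵥ x)
    rw [mulVec_inv_cancel] at h
    rw [← neg_sub]; exact S.neg_mem h⟩

theorem fixer_pow {S : Submodule F (Fin n → F)} {b : GL (Fin n) F} (hb : b ∈ fixer S) : b ^ p = 1 := by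
  have h : ∀ (t : ℕ) x, (Units.val ((b ^ t : GL (Fin n) F))) *ᵥ x = x + (t : F) • ((Units.val (b)) *ᵥ x - x) := by
    intro t
    induction t with
    | zero => intro x; simp
    | succ t ih =>
      intro x
      rw [pow_succ', mulVec_mul_GL, ih, mulVec_add, mulVec_smul, hb.1 _ (hb.2 x), Nat.cast_succ, add_smul, one_smul]
      abel
  refine gl_ext fun x => ?_
  rw [h, CharP.cast_eq_zero, zero_smul, add_zero]
  simp

theorem mov_trv {u φ : Fin n → F} (h : φ ⬝ᵥ u = 0) (hφ : φ ≠ 0) :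
    mov ((trv u φ h : GL (Fin n) F) : Matrix (Fin n) (Fin n) F) = Submodule.span F {u} := by
  ext x
  rw [mem_mov, Submodule.mem_span_singleton]
  simp only [trv_mulVec, add_sub_cancel_left]
  refine ⟨fun ⟨y, hy⟩ => ⟨_, hy⟩, fun ⟨c, hc⟩ => ?_⟩
  obtain ⟨i, hi⟩ := Function.ne_iff.1 hφ
  refine ⟨Pi.single i (c / φ i), ?_⟩
  rw [dotProduct_single, mul_div_cancel₀ _ (by simpa using hi), hc]

theorem exists_pure_of_row {x : Fin k × Fin n → F} {t : Fin n → F}
    (h : ∀ i, row x i ∈ Submodule.span F {t}) : ∃ u, x = pure u t := by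
  choose u hu using fun i => Submodule.mem_span_singleton.1 (h i)
  exact ⟨u, ext_row fun i => by rw [row_pure, hu]⟩

/-- the key step: an element of an overgroup sends a pure tensor to a pure tensor -/
theorem pure_step (hk : 2 ≤ k) (hkn : k < n) {M : Subgroup (GL (Fin k × Fin n) F)}
    (hH : ∀ (a : GL (Fin k) F) (b : GL (Fin n) F), (a : Matrix (Fin k) (Fin k) F).det = 1 →
      (b : Matrix (Fin n) (Fin n) F).det = 1 → kr a b ∈ M)
    (hmax : ∀ R : Subgroup (GL (Fin k × Fin n) F), IsPGroup p R → P0 F k n ≤ R → R ≤ M → R = P0 F k n)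
    {g : GL (Fin k × Fin n) F} (hg : g ∈ M) :
    ∃ u w, (Units.val (g)) *ᵥ pure (Pi.single (⟨0, by omega⟩ : Fin k) 1) (Pi.single (⟨0, by omega⟩ : Fin n) 1) =
      pure u w := by
  classical
  set e₀ : Fin k → F := Pi.single ⟨0, by omega⟩ 1 with he₀
  set f₀ : Fin n → F := Pi.single ⟨0, by omega⟩ 1 with hf₀
  set v := pure e₀ f₀ with hv
  set v' := (Units.val (g)) *ᵥ v with hv'
  set S := Submodule.span F (Set.range (row v')) with hS
  by_contra hcon
  have hrow : ∀ i, row v' i ∈ S := fun i => Submodule.subset_span ⟨i, rfl⟩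
  have hnot : ∀ s, ¬ S ≤ Submodule.span F {s} := fun s hle => hcon (by
    obtain ⟨u, hu⟩ := exists_pure_of_row fun i => hle (hrow i)
    exact ⟨u, s, hu⟩)
  -- the stabiliser of the pure vector
  let St : Subgroup (GL (Fin k × Fin n) F) :=
    { carrier := {x | (Units.val (x)) *ᵥ v = v}
      one_mem' := one_mulVec v
      mul_mem' := fun {x y} (hx : _ = _) (hy : _ = _) => by
        show _ = _
        rw [mulVec_mul_GL, hy, hx]
      inv_mem' := fun {x} (hx : _ = _) => mulVec_inj x (by rw [mulVec_inv_cancel, hx]) }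
  have hcol : ∀ {m : ℕ} (hm : 0 < m) (a : GL (Fin m) F), a ∈ Uni F m →
      (Units.val (a)) *ᵥ Pi.single ⟨0, hm⟩ 1 = Pi.single ⟨0, hm⟩ 1 := fun hm a ha => by
    funext i
    rw [Matrix.mulVec_single_one]
    rcases eq_or_ne i ⟨0, hm⟩ with rfl | hne
    · simp [Uni.diag ha]
    · rw [Pi.single_eq_of_ne hne]
      exact Uni.lower ha (Fin.lt_def.2 (Nat.pos_of_ne_zero fun h => hne (Fin.ext h)))
  have hPM : P0 F k n ≤ M ⊓ St := fun x hx => by
    obtain ⟨a, ha, b, hb, rfl⟩ := mem_P0.1 hx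
    refine ⟨hH a b (Uni.det ha) (Uni.det hb), ?_⟩
    show (kr a b : Matrix (Fin k × Fin n) (Fin k × Fin n) F) *ᵥ v = v
    rw [hv, kr_pure, he₀, hf₀, hcol _ a ha, hcol _ b hb]
  let ψ : GL (Fin n) F →* GL (Fin k × Fin n) F :=
    (MulAut.conj g⁻¹).toMonoidHom.comp (kronUnit.comp (MonoidHom.inr _ _))
  have hψ : ∀ b, ψ b = g⁻¹ * kr 1 b * g := fun b => by simp [ψ, kr, MulAut.conj_apply]
  have hQp : IsPGroup p ((fixer S).map ψ) := by
    rintro ⟨x, b, hb, rfl⟩
    refine ⟨1, Subtype.ext ?_⟩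
    show ψ b ^ p ^ 1 = 1
    rw [pow_one, ← map_pow, fixer_pow p hb, map_one]
  have hQM : (fixer S).map ψ ≤ M ⊓ St := by
    rintro x ⟨b, hb, rfl⟩
    have hdet : (b : Matrix (Fin n) (Fin n) F).det = 1 := det_eq_one_of_pow p (t := 1) (by
      rw [pow_one, ← Units.val_pow_eq_pow_val, fixer_pow p hb, Units.val_one])
    rw [hψ]
    refine ⟨M.mul_mem (M.mul_mem (M.inv_mem hg) (hH 1 b (by simp) hdet)) hg, ?_⟩
    show (Units.val ((g⁻¹ * kr 1 b * g : GL _ F))) *ᵥ v = v
    rw [mulVec_mul_GL, mulVec_mul_GL, ← hv', show (kr (1 : GL (Fin k) F) b : Matrix (Fin k × Fin n) (Fin k × Fin n) F) *ᵥ v' = v' from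
      ext_row fun i => by rw [kr_coe, Units.val_one, row_one_kron, hb.1 _ (hrow i)], hv', inv_mulVec_cancel]
  obtain ⟨m, ⟨hmM, hmv⟩, hmQ⟩ := exists_conj_le p (P0_pGroup p) hPM
    (fun R hR hPR hRM => hmax R hR hPR (hRM.trans inf_le_left)) hQp hQM
  set h := m * g⁻¹ with hh
  have hhv : (Units.val (h)) *ᵥ v' = v := by
    rw [hh, mulVec_mul_GL, hv', inv_mulVec_cancel]; exact hmv
  have hstop : S ≠ ⊤ := fun e => by
    have h1 := finrank_range_le_card (R := F) (row v')
    rw [Set.finrank, ← hS, e, finrank_top, Module.finrank_fintype_fun_eq_card, Fintype.card_fin,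
      Fintype.card_fin] at h1
    omega
  obtain ⟨z, -, hz⟩ := SetLike.exists_of_lt (lt_top_iff_ne_top.2 hstop)
  obtain ⟨φ, hφ, hφz⟩ := exists_row_of_not_mem hz
  have hφ0 : φ ≠ 0 := fun e => by simp [e] at hφz
  -- lines go to lines
  have key : ∀ s ∈ S, s ≠ 0 → ∃ t, img h (UT k (Submodule.span F {s})) = UT k (Submodule.span F {t}) := by
    intro s hs hs0
    have hb : trv s φ (hφ s hs) ∈ fixer S :=
      ⟨fun x hx => by rw [trv_mulVec, hφ x hx, zero_smul, add_zero],
        fun x => by rw [trv_mulVec, add_sub_cancel_left]; exact S.smul_mem _ hs⟩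
    have h1 : h * kr 1 (trv s φ (hφ s hs)) * h⁻¹ ∈ P0 F k n := by
      have := hmQ _ ⟨_, hb, rfl⟩
      rw [hψ] at this
      simpa [hh, mul_assoc] using this
    obtain ⟨a, ha, b, -, hab⟩ := mem_P0.1 h1
    have h2 : mov (kr a b : Matrix (Fin k × Fin n) (Fin k × Fin n) F) = img h (UT k (Submodule.span F {s})) := by
      rw [hab, mov_conj, kr_coe, Units.val_one, mov_one_kron, mov_trv _ hφ0]
    have h3 : Module.finrank F (mov (kr a b : Matrix (Fin k × Fin n) (Fin k × Fin n) F)) = k := by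
      rw [h2, finrank_img, finrank_UT, finrank_span_singleton hs0, mul_one]
    have ha1 := eq_of_small hkn ha h3.le
    subst ha1
    have h4 : UT k (mov (b : Matrix (Fin n) (Fin n) F)) = img h (UT k (Submodule.span F {s})) := by
      rw [← h2, kr_coe, Units.val_one, mov_one_kron]
    rw [← h4] at *
    have h5 : Module.finrank F (mov (b : Matrix (Fin n) (Fin n) F)) = 1 := by
      rw [kr_coe, Units.val_one, mov_one_kron, finrank_UT] at h3
      exact Nat.eq_of_mul_eq_mul_left (by omega) (h3.trans (mul_one k).symm)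
    obtain ⟨t, -, ht⟩ := finrank_eq_one_iff'.1 h5
    refine ⟨t.1, congrArg (UT k) (le_antisymm (fun x hx => ?_) ((Submodule.span_singleton_le_iff_mem _ _).2 t.2))⟩
    obtain ⟨c, hc⟩ := ht ⟨x, hx⟩
    exact Submodule.mem_span_singleton.2 ⟨c, congrArg Subtype.val hc⟩
  -- a coordinate of the image
  obtain ⟨s₁, hs₁, hs₁0⟩ : ∃ s ∈ S, s ≠ 0 := by
    by_contra hc
    push Not at hc
    exact hnot 0 fun x hx => by rw [hc x hx]; exact zero_mem _
  obtain ⟨i₀, hi₀⟩ : ∃ i, row ((Units.val (h)) *ᵥ pure e₀ s₁) i ≠ 0 := by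
    by_contra hc
    push Not at hc
    have h1 : pure e₀ s₁ = 0 := mulVec_inj h ((ext_row fun i => (hc i).trans rfl).trans (mulVec_zero _).symm)
    refine hs₁0 (funext fun r => ?_)
    simpa [pure, he₀] using congrFun h1 (⟨0, by omega⟩, r)
  let τ : (Fin n → F) →ₗ[F] (Fin n → F) :=
    (LinearMap.funLeft F F (fun r => (i₀, r))).comp ((Matrix.toLin' (Units.val (h))).comp (pureL e₀))
  have hτ : ∀ s, τ s = row ((Units.val (h)) *ᵥ pure e₀ s) i₀ := fun s => rfl
  have hmem : ∀ {s t}, img h (UT k (Submodule.span F {s})) = UT k (Submodule.span F {t}) →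
      τ s ∈ Submodule.span F {t} := fun {s t} e =>
    (e ▸ mulVec_mem_img (g := h) (pure_mem_UT e₀ (Submodule.mem_span_singleton_self s)) :) i₀
  have hinj : ∀ s ∈ S, τ s = 0 → s = 0 := by
    intro s hs hτs
    by_contra hs0
    have hnp : s₁ + s ∉ Submodule.span F {s₁} := fun hm => by
      obtain ⟨c, hc⟩ := Submodule.mem_span_singleton.1 (sub_mem hm (Submodule.mem_span_singleton_self s₁))
      rw [add_sub_cancel_left] at hc
      rw [← hc, map_smul] at hτs
      rcases smul_eq_zero.1 hτs with h0 | h0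
      · exact hs0 (by rw [← hc, h0, zero_smul])
      · exact hi₀ h0
    have h30 : s₁ + s ≠ 0 := fun e => hnp (e ▸ zero_mem _)
    obtain ⟨t₁, ht₁⟩ := key s₁ hs₁ hs₁0
    obtain ⟨t₃, ht₃⟩ := key (s₁ + s) (S.add_mem hs₁ hs) h30
    have e3 := hmem ht₃
    rw [map_add, hτs, add_zero] at e3
    have e1 := hmem ht₁
    have hsp : Submodule.span F {t₁} = Submodule.span F {t₃} := by
      obtain ⟨c, hc⟩ := Submodule.mem_span_singleton.1 e1
      obtain ⟨d, hd⟩ := Submodule.mem_span_singleton.1 e3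
      have hc0 : c ≠ 0 := fun e => hi₀ (by rw [← hτ, ← hc, e, zero_smul])
      have hd0 : d ≠ 0 := fun e => hi₀ (by rw [← hτ, ← hd, e, zero_smul])
      rw [← Submodule.span_singleton_smul_eq (IsUnit.mk0 c hc0) t₁, hc, ← hd,
        Submodule.span_singleton_smul_eq (IsUnit.mk0 d hd0) t₃]
    obtain ⟨w, hw, hwx⟩ := mem_img.1 (show (Units.val (h)) *ᵥ pure e₀ (s₁ + s) ∈
        img h (UT k (Submodule.span F {s₁})) by
      rw [ht₁, hsp, ← ht₃]
      exact mulVec_mem_img (pure_mem_UT e₀ (Submodule.mem_span_singleton_self _)))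
    obtain rfl := mulVec_inj h hwx
    refine hnp ?_
    have := hw ⟨0, by omega⟩
    rwa [row_pure, he₀, Pi.single_eq_same, one_smul] at this
  -- every line in `S` goes to the line of its image
  have hline : ∀ s ∈ S, ∀ u, ∀ i, row ((Units.val (h)) *ᵥ pure u s) i ∈ Submodule.span F {τ s} := by
    intro s hs u i
    rcases eq_or_ne s 0 with rfl | hs0
    · rw [← pureL_apply, LinearMap.map_zero (pureL u), mulVec_zero]; exact zero_mem _
    obtain ⟨t, ht⟩ := key s hs hs0
    have h1 := (ht ▸ mulVec_mem_img (g := h) (pure_mem_UT u (Submodule.mem_span_singleton_self s)) :) i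
    obtain ⟨c, hc⟩ := Submodule.mem_span_singleton.1 (hmem ht)
    rw [← hc, Submodule.span_singleton_smul_eq (IsUnit.mk0 c fun e => hs0 (hinj s hs (by rw [← hc, e, zero_smul])))]
    exact h1
  have hf : f₀ ∈ S.map τ := by
    have h1 : row ((Units.val (h)) *ᵥ v') ⟨0, by omega⟩ ∈ S.map τ := by
      rw [sum_rows v', mulVec_sum, row_sum]
      refine sum_mem fun i _ => ?_
      obtain ⟨c, hc⟩ := Submodule.mem_span_singleton.1 (hline _ (hrow i) (Pi.single i 1) ⟨0, by omega⟩)
      rw [← hc]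
      exact Submodule.smul_mem _ _ ⟨_, hrow i, rfl⟩
    rwa [hhv, hv, row_pure, he₀, Pi.single_eq_same, one_smul] at h1
  obtain ⟨s, hs, hsf⟩ := hf
  have hs0 : s ≠ 0 := fun e => by
    rw [e, map_zero, hf₀] at hsf
    simpa using congrFun hsf ⟨0, by omega⟩
  obtain ⟨t, ht⟩ := key s hs hs0
  have h1 : v ∈ UT k (Submodule.span F {t}) := pure_mem_UT e₀ (hsf ▸ hmem ht)
  rw [← ht, ← hhv] at h1
  obtain ⟨w, hw, hwx⟩ := mem_img.1 h1
  obtain rfl := mulVec_inj h hwx
  exact hnot s (Submodule.span_le.2 (Set.range_subset_iff.2 hw))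

/-- overgroups with Sylow subgroup `U ⊗ U` preserve pure tensors -/
theorem preserves_pure (hk : 2 ≤ k) (hkn : k < n) {M : Subgroup (GL (Fin k × Fin n) F)}
    (hH : ∀ (a : GL (Fin k) F) (b : GL (Fin n) F), (a : Matrix (Fin k) (Fin k) F).det = 1 →
      (b : Matrix (Fin n) (Fin n) F).det = 1 → kr a b ∈ M)
    (hmax : ∀ R : Subgroup (GL (Fin k × Fin n) F), IsPGroup p R → P0 F k n ≤ R → R ≤ M → R = P0 F k n)
    {g : GL (Fin k × Fin n) F} (hg : g ∈ M) (u : Fin k → F) (w : Fin n → F) :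
    ∃ u' w', (Units.val (g)) *ᵥ pure u w = pure u' w' := by
  rcases eq_or_ne u 0 with rfl | hu
  · exact ⟨0, 0, by rw [show pure (0 : Fin k → F) w = 0 from funext fun a => zero_mul _, mulVec_zero]; funext a; simp [pure]⟩
  rcases eq_or_ne w 0 with rfl | hw
  · exact ⟨0, 0, by rw [← pureL_apply, map_zero, mulVec_zero]; funext a; simp [pure]⟩
  obtain ⟨a, ha, hau⟩ := exists_sl_map (by simpa using hk)
    (show (Pi.single (⟨0, by omega⟩ : Fin k) 1 : Fin k → F) ≠ 0 from Pi.single_ne_zero_iff.2 one_ne_zero) hu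
  obtain ⟨b, hb, hbw⟩ := exists_sl_map (by simp; omega)
    (show (Pi.single (⟨0, by omega⟩ : Fin n) 1 : Fin n → F) ≠ 0 from Pi.single_ne_zero_iff.2 one_ne_zero) hw
  obtain ⟨u', w', h⟩ := pure_step p hk hkn hH hmax (mul_mem hg (hH a b ha hb))
  exact ⟨u', w', by rw [← h, mulVec_mul_GL, kr_pure, hau, hbw]⟩

/-- a sum of two pure tensors is pure only if one pair of factors is dependent -/
theorem sum_pure_pure {a a' c : Fin k → F} {b b' d : Fin n → F} (ha : a ≠ 0) (hb : b ≠ 0)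
    (h : pure a b + pure a' b' = pure c d) : a' ∈ Submodule.span F {a} ∨ b' ∈ Submodule.span F {b} := by
  by_contra hc
  push Not at hc
  obtain ⟨ha', hb'⟩ := hc
  have hrow : ∀ j, a j • b + a' j • b' = c j • d := fun j => by
    funext r; exact congrFun h (j, r)
  have hind : ∀ x y : F, x • b + y • b' = 0 → x = 0 ∧ y = 0 := fun x y e => by
    have hy : y = 0 := by
      by_contra hy
      refine hb' (Submodule.mem_span_singleton.2 ⟨-x / y, ?_⟩)
      rw [div_eq_inv_mul, ← smul_smul, neg_smul, eq_neg_of_add_eq_zero_left e, neg_neg, inv_smul_smul₀ hy]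
    refine ⟨?_, hy⟩
    rw [hy, zero_smul, add_zero] at e
    exact (smul_eq_zero.1 e).resolve_right hb
  obtain ⟨i, hi⟩ := Function.ne_iff.1 ha
  replace hi : a i ≠ 0 := hi
  refine ha' (Submodule.mem_span_singleton.2 ⟨a' i / a i, funext fun j => ?_⟩)
  have e : (c i * a j - c j * a i) • b + (c i * a' j - c j * a' i) • b' = 0 := by
    have := congrArg (fun x => c i • x) (hrow j)
    have h2 := congrArg (fun x => c j • x) (hrow i)
    simp only [smul_add, smul_smul] at this h2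
    rw [sub_smul, sub_smul, sub_add_sub_comm, this, h2, mul_comm (c j), sub_self]
  obtain ⟨e1, e2⟩ := hind _ _ e
  have hci : c i ≠ 0 := fun h0 => by
    have := hrow i
    rw [h0, zero_smul] at this
    exact hi (hind _ _ this).1
  show a' i / a i * a j = a' j
  rw [div_mul_eq_mul_div, div_eq_iff hi]
  refine mul_left_cancel₀ hci ?_
  linear_combination a' i * e1 - a i * e2

/-- pure-preserving maps are Kronecker products -/
theorem mem_kronecker (hk : 2 ≤ k) (hkn : k < n) {g : GL (Fin k × Fin n) F}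
    (hg : ∀ u w, ∃ u' w', (Units.val (g)) *ᵥ pure u w = pure u' w') :
    g ∈ Cfsg.Geo.kroneckerSubgroup k n F := by
  classical
  have slice : ∀ u : Fin k → F, ∃ u', ∀ w, ∃ x, (Units.val (g)) *ᵥ pure u w = pure u' x := by
    intro u
    rcases eq_or_ne u 0 with rfl | hu
    · exact ⟨0, fun w => ⟨0, by rw [show pure (0 : Fin k → F) w = 0 from funext fun a => zero_mul _, mulVec_zero]; funext a; simp [pure]⟩⟩
    let f : (Fin n → F) →ₗ[F] (Fin k × Fin n → F) := (Matrix.toLin' (Units.val (g))).comp (pureL u)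
    have hf : Function.Injective f := fun w w' e => by
      obtain ⟨i, hi⟩ := Function.ne_iff.1 hu
      replace hi : u i ≠ 0 := hi
      funext r
      have := congrFun (mulVec_inj g (show (Units.val (g)) *ᵥ pure u w = (Units.val (g)) *ᵥ pure u w' from e)) (i, r)
      exact mul_left_cancel₀ hi this
    let w₀ : Fin n → F := Pi.single ⟨0, by omega⟩ 1
    obtain ⟨a₀, b₀, h₀⟩ := hg u w₀
    have hne : pure a₀ b₀ ≠ 0 := fun e => by
      have h1 : f w₀ = f 0 := by rw [map_zero]; exact h₀.trans e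
      simpa [w₀] using congrFun (hf h1) ⟨0, by omega⟩
    have ha₀ : a₀ ≠ 0 := fun e => hne (funext fun a => by simp [pure, e])
    have hb₀ : b₀ ≠ 0 := fun e => hne (funext fun a => by simp [pure, e])
    refine ⟨a₀, ?_⟩
    by_contra hc
    push Not at hc
    obtain ⟨w₁, hw₁⟩ := hc
    obtain ⟨a₁, b₁, h₁⟩ := hg u w₁
    have hadd : ∀ {x y a b a' b'}, (Units.val (g)) *ᵥ pure u x = pure a b →
        (Units.val (g)) *ᵥ pure u y = pure a' b' → ∃ c d, pure a b + pure a' b' = pure c d :=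
      fun {x y _ _ _ _} hx hy => by
        obtain ⟨c, d, hcd⟩ := hg u (x + y)
        exact ⟨c, d, by rw [← hcd, ← hx, ← hy, ← mulVec_add, ← pureL_apply, ← pureL_apply, ← map_add, pureL_apply]⟩
    have hout : ∀ {a b} {y}, (Units.val (g)) *ᵥ pure u y = pure a b → a ∈ Submodule.span F {a₀} →
        ∃ x, (Units.val (g)) *ᵥ pure u y = pure a₀ x := fun {a b y} hy ha => by
      obtain ⟨c, rfl⟩ := Submodule.mem_span_singleton.1 ha
      exact ⟨c • b, by rw [hy]; funext z; simp [pure]; ring⟩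
    have ha₁ : a₁ ∉ Submodule.span F {a₀} := fun ha => by
      obtain ⟨x, hx⟩ := hout h₁ ha
      exact hw₁ x hx
    have hb₁ : b₁ ∈ Submodule.span F {b₀} := by
      obtain ⟨c, d, hcd⟩ := hadd h₀ h₁
      exact (sum_pure_pure ha₀ hb₀ hcd).resolve_left ha₁
    have hall : ∀ w, f w ∈ UT k (Submodule.span F {b₀}) := fun w => by
      obtain ⟨a, b, hw⟩ := hg u w
      show (Units.val (g)) *ᵥ pure u w ∈ _
      rw [hw]
      by_cases hb : b ∈ Submodule.span F {b₀}
      · exact pure_mem_UT a hb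
      obtain ⟨c, d, hcd⟩ := hadd h₀ hw
      have ha : a ∈ Submodule.span F {a₀} := (sum_pure_pure ha₀ hb₀ hcd).resolve_right hb
      have hp1 : pure a₁ b₁ ≠ 0 := fun e => hw₁ 0 (by
        rw [h₁, e]; funext z; simp [pure])
      have ha10 : a₁ ≠ 0 := fun e => hp1 (funext fun a => by simp [pure, e])
      have hb10 : b₁ ≠ 0 := fun e => hp1 (funext fun a => by simp [pure, e])
      obtain ⟨c', d', hcd'⟩ := hadd h₁ hw
      have ha' : a ∈ Submodule.span F {a₁} := (sum_pure_pure ha10 hb10 hcd').resolve_right fun h2 =>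
        hb ((Submodule.span_singleton_le_iff_mem _ _).2 hb₁ h2)
      obtain ⟨x, hx⟩ := Submodule.mem_span_singleton.1 ha
      obtain ⟨y, hy⟩ := Submodule.mem_span_singleton.1 ha'
      have hy0 : y = 0 := by
        by_contra hy0
        exact ha₁ (Submodule.mem_span_singleton.2 ⟨y⁻¹ * x, by rw [← smul_smul, hx, ← hy, inv_smul_smul₀ hy0]⟩)
      rw [← hy, hy0, zero_smul]
      intro i; rw [row_pure]; simp
    have hle : LinearMap.range f ≤ UT k (Submodule.span F {b₀}) := LinearMap.range_le_iff_comap.2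
      (eq_top_iff.2 fun w _ => hall w)
    have h3 := Submodule.finrank_mono hle
    rw [LinearMap.finrank_range_of_inj hf, Module.finrank_fintype_fun_eq_card, Fintype.card_fin, finrank_UT,
      finrank_span_singleton hb₀] at h3
    omega
  choose σ hσ using slice
  choose B hB using fun i : Fin k => hσ (Pi.single i 1)
  let A : Matrix (Fin k) (Fin k) F := Matrix.of fun j i => σ (Pi.single i 1) j
  have hA : Function.Surjective A.mulVec := fun u => by
    let y := (Units.val ((g⁻¹ : GL (Fin k × Fin n) F))) *ᵥ pure u (Pi.single (⟨0, by omega⟩ : Fin n) 1)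
    refine ⟨fun i => B i (row y i) ⟨0, by omega⟩, ?_⟩
    have e := mulVec_inv_cancel g (pure u (Pi.single (⟨0, by omega⟩ : Fin n) 1))
    change (Units.val (g)) *ᵥ y = _ at e
    rw [sum_rows y, mulVec_sum] at e
    funext j
    have e2 := congrFun e (j, ⟨0, by omega⟩)
    simp only [Finset.sum_apply, hB, pure, Pi.single_eq_same, mul_one] at e2
    rw [← e2]
    simp [A, mulVec, dotProduct]
  have hAu : IsUnit A := Matrix.mulVec_surjective_iff_isUnit.1 hA
  set a : GL (Fin k) F := hAu.unit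
  set g' := kr a⁻¹ (1 : GL (Fin n) F) * g
  have hg' : ∀ i w, (Units.val (g')) *ᵥ pure (Pi.single i 1) w = pure (Pi.single i 1) (B i w) := fun i w => by
    rw [mulVec_mul_GL, hB, kr_pure, Units.val_one, one_mulVec]
    congr 1
    refine mulVec_inj a ?_
    rw [mulVec_inv_cancel, IsUnit.unit_spec, Matrix.mulVec_single_one]
    rfl
  have hprop : ∀ i, ∃ μ : F, ∀ w, B i w = μ • B ⟨0, by omega⟩ w := by
    intro i
    rcases eq_or_ne i ⟨0, by omega⟩ with rfl | hi
    · exact ⟨1, fun w => (one_smul _ _).symm⟩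
    set z : Fin k := ⟨0, by omega⟩
    obtain ⟨u', hu'⟩ : ∃ u', ∀ w, ∃ x, (Units.val (g')) *ᵥ pure (Pi.single z 1 + Pi.single i 1) w = pure u' x :=
      ⟨(Units.val ((a⁻¹ : GL (Fin k) F))) *ᵥ σ (Pi.single z 1 + Pi.single i 1), fun w => by
        obtain ⟨x, hx⟩ := hσ (Pi.single z 1 + Pi.single i 1) w
        exact ⟨x, by rw [mulVec_mul_GL, hx, kr_pure, Units.val_one, one_mulVec]⟩⟩
    refine ⟨u' i / u' z, fun w => ?_⟩
    have hsplit : ∀ w : Fin n → F, pure (Pi.single z (1 : F) + Pi.single i (1 : F)) w = pure (Pi.single z (1 : F)) w + pure (Pi.single i (1 : F)) w :=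
      fun w => funext fun a => add_mul _ _ _
    have hz : ∀ w x, (Units.val (g')) *ᵥ pure (Pi.single z 1 + Pi.single i 1) w = pure u' x →
        B z w = u' z • x ∧ B i w = u' i • x := fun w x hx => by
      rw [hsplit, mulVec_add, hg', hg'] at hx
      constructor
      · funext r; simpa [pure, Pi.single_eq_of_ne hi.symm] using congrFun hx (z, r)
      · funext r; simpa [pure, Pi.single_eq_of_ne hi] using congrFun hx (i, r)
    have hz0 : u' z ≠ 0 := fun h0 => by
      obtain ⟨x, hx⟩ := hu' (Pi.single ⟨0, by omega⟩ 1)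
      have h1 := (hz _ _ hx).1
      rw [h0, zero_smul] at h1
      have h2 := hg' z (Pi.single ⟨0, by omega⟩ 1)
      rw [h1, ← pureL_apply (Pi.single z 1) (0 : Fin n → F), map_zero] at h2
      have h3 := congrFun (mulVec_inj g' (h2.trans (mulVec_zero _).symm)) (z, ⟨0, by omega⟩)
      simp [pure] at h3
    obtain ⟨x, hx⟩ := hu' w
    rw [(hz w x hx).1, (hz w x hx).2, smul_smul, div_mul_cancel₀ _ hz0]
  choose μ hμ using hprop
  let z : Fin k := ⟨0, by omega⟩
  let Bm : Matrix (Fin n) (Fin n) F := Matrix.of fun r s => B z (Pi.single s 1) r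
  have hgm : (g' : Matrix (Fin k × Fin n) (Fin k × Fin n) F) = Matrix.diagonal μ ⊗ₖ Bm := by
    ext ⟨j, r⟩ ⟨i, s⟩
    have h1 := congrFun (hg' i (Pi.single s 1)) (j, r)
    rw [show pure (Pi.single i (1 : F)) (Pi.single s (1 : F)) = Pi.single (i, s) 1 from funext fun ⟨x, y⟩ => by
      simp only [pure, Pi.single_apply, Prod.mk.injEq]
      by_cases h2 : x = i <;> by_cases h3 : y = s <;> simp [h2, h3], Matrix.mulVec_single_one] at h1
    rw [kroneckerMap_apply, Matrix.diagonal_apply]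
    show (Units.val (g')).col (i, s) (j, r) = _
    rw [h1, hμ i]
    rcases eq_or_ne j i with rfl | hne
    · simp [pure, Bm, z]
    · simp [pure, Pi.single_eq_of_ne hne, hne]
  have hdet : (Matrix.diagonal μ ⊗ₖ Bm).det ≠ 0 := by
    rw [← hgm]; exact (Matrix.GeneralLinearGroup.det g').ne_zero
  rw [det_kronecker, mul_ne_zero_iff, Fintype.card_fin, Fintype.card_fin,
    pow_ne_zero_iff (by omega), pow_ne_zero_iff (by omega)] at hdet
  have : g' ∈ Cfsg.Geo.kroneckerSubgroup k n F :=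
    ⟨Matrix.GeneralLinearGroup.mkOfDetNeZero _ hdet.1, Matrix.GeneralLinearGroup.mkOfDetNeZero _ hdet.2, hgm⟩
  have hmem : kr a⁻¹ (1 : GL (Fin n) F) ∈ Cfsg.Geo.kroneckerSubgroup k n F := ⟨a⁻¹, 1, kr_coe _ _⟩
  exact (Subgroup.mul_mem_cancel_left _ hmem).1 this

end Cfsg.Agent.Forms.Max.TensorMax
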