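import Cfsg.Agent.Lib.Forms.Max.Tensor.Normalizer

/-!
# One block transvection generates the special linear group
-/

set_option autoImplicit false
set_option linter.unusedSectionVars false

namespace Cfsg.Agent.Forms.Max.TensorMax

open Matrix Cfsg.Agent.Aschbacher
open scoped Kronecker

variable {F : Type*} [Field F] [Fintype F] {k n : ℕ}

theorem el_mul (X Y : Matrix (Fin k) (Fin k) F) (i j : Fin n) (h : i ≠ j) :
    el X i j h * el Y i j h = el (X + Y) i j h := by
  refine Units.ext ?_
  rw [Units.val_mul, el_coe, el_coe, el_coe, add_mul, one_mul, mul_add, mul_one, ← mul_kronecker_mul,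
    Matrix.single_mul_single_of_ne _ _ _ _ h.symm, kronecker_zero, add_zero, add_kronecker]
  abel

theorem el_zero (i j : Fin n) (h : i ≠ j) : el (0 : Matrix (Fin k) (Fin k) F) i j h = 1 :=
  Units.ext (by rw [el_coe, zero_kronecker, add_zero, Units.val_one])

theorem exists_third (hn : 3 ≤ n) (i j : Fin n) : ∃ t, t ≠ i ∧ t ≠ j := by
  have h : ({i, j} : Finset (Fin n)).card < (Finset.univ : Finset (Fin n)).card := by
    rw [Finset.card_univ, Fintype.card_fin]
    exact lt_of_le_of_lt Finset.card_le_two (by omega)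
  obtain ⟨t, -, ht⟩ := Finset.exists_mem_notMem_of_card_lt_card h
  simp only [Finset.mem_insert, Finset.mem_singleton, not_or] at ht
  exact ⟨t, ht.1, ht.2⟩

section

variable {M : Subgroup (GL (Fin k × Fin n) F)}
  (hH : ∀ (a : GL (Fin k) F) (b : GL (Fin n) F), (a : Matrix (Fin k) (Fin k) F).det = 1 →
      (b : Matrix (Fin n) (Fin n) F).det = 1 → kr a b ∈ M)
include hH

theorem el_row {X : Matrix (Fin k) (Fin k) F} {r s r' : Fin n} (h : r ≠ s) (h' : r' ≠ s) (hm : el X r s h ∈ M) :
    el X r' s h' ∈ M := by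
  rcases eq_or_ne r' r with rfl | hne
  · exact hm
  set t := tvU r' r hne (1 : F)
  have e : kr (1 : GL (Fin k) F) t * el X r s h = el X r s h * el X r' s h' * kr 1 t := by
    refine Units.ext ?_
    simp only [Units.val_mul, el_coe, kr_coe, Units.val_one, t, tvU_coe, kronecker_add, one_kronecker_one,
      mul_add, add_mul, one_mul, mul_one, ← mul_kronecker_mul,
      Matrix.single_mul_single_same, Matrix.single_mul_single_of_ne _ _ _ _ h.symm,
      Matrix.single_mul_single_of_ne _ _ _ _ h'.symm, kronecker_zero, add_zero]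
    abel
  have e2 : el X r' s h' = (el X r s h)⁻¹ * kr 1 t * el X r s h * (kr 1 t)⁻¹ := by
    rw [mul_assoc _ (kr 1 t), e]; group
  have ht : kr (1 : GL (Fin k) F) t ∈ M := hH 1 t (by simp) (tvU_det _ _ _ _)
  rw [e2]
  exact mul_mem (mul_mem (mul_mem (inv_mem hm) ht) hm) (inv_mem ht)

theorem el_col {X : Matrix (Fin k) (Fin k) F} {r s s' : Fin n} (h : r ≠ s) (h' : r ≠ s') (hm : el X r s h ∈ M) :
    el X r s' h' ∈ M := by
  rcases eq_or_ne s s' with rfl | hne
  · exact hm
  set t := tvU s s' hne (1 : F)
  have e : el X r s h * kr (1 : GL (Fin k) F) t = kr 1 t * el X r s h * el X r s' h' := by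
    refine Units.ext ?_
    simp only [Units.val_mul, el_coe, kr_coe, Units.val_one, t, tvU_coe, kronecker_add, one_kronecker_one,
      mul_add, add_mul, one_mul, mul_one, ← mul_kronecker_mul,
      Matrix.single_mul_single_same, Matrix.single_mul_single_of_ne _ _ _ _ h.symm,
      Matrix.single_mul_single_of_ne _ _ _ _ h'.symm, kronecker_zero, zero_mul, add_zero]
    abel
  have e2 : el X r s' h' = (el X r s h)⁻¹ * (kr 1 t)⁻¹ * el X r s h * kr 1 t := by
    rw [mul_assoc _ (el X r s h) (kr 1 t), e]; group
  have ht : kr (1 : GL (Fin k) F) t ∈ M := hH 1 t (by simp) (tvU_det _ _ _ _)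
  rw [e2]
  exact mul_mem (mul_mem (mul_mem (inv_mem hm) (inv_mem ht)) hm) ht

theorem el_move (hn : 3 ≤ n) {X : Matrix (Fin k) (Fin k) F} {i j r s : Fin n} (h : i ≠ j) (h' : r ≠ s)
    (hm : el X i j h ∈ M) : el X r s h' ∈ M := by
  by_cases hrj : r = j
  · obtain ⟨t, hti, htj⟩ := exists_third hn i j
    have hrt : r ≠ t := hrj ▸ htj.symm
    exact el_col hH hrt h' (el_row hH hti.symm hrt (el_col hH h hti.symm hm))
  · exact el_col hH hrj h' (el_row hH h hrj hm)

/-- the blocks which may occur in one position -/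
def blockSpace (hn : 3 ≤ n) (i j : Fin n) (h : i ≠ j) : Submodule F (Matrix (Fin k) (Fin k) F) where
  carrier := {X | el X i j h ∈ M}
  add_mem' {X Y} (hX : el X i j h ∈ M) (hY : el Y i j h ∈ M) := by
    show el (X + Y) i j h ∈ M
    rw [← el_mul]; exact mul_mem hX hY
  zero_mem' := by
    show el 0 i j h ∈ M
    rw [el_zero]; exact one_mem M
  smul_mem' c X (hX : el X i j h ∈ M) := by
    show el (c • X) i j h ∈ M
    rcases eq_or_ne c 0 with rfl | hc
    · rw [zero_smul, el_zero]; exact one_mem M
    obtain ⟨t, hti, htj⟩ := exists_third hn i j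
    let d : Fin n → F := fun a => if a = i then c else if a = t then c⁻¹ else 1
    have hd : ∏ a, d a = 1 := by
      rw [Fintype.prod_eq_mul i t hti.symm fun a ⟨h1, h2⟩ => by simp [d, h1, h2]]
      simp [d, hti, hc]
    let b : GL (Fin n) F := Matrix.GeneralLinearGroup.mkOfDetNeZero (Matrix.diagonal d)
      (by rw [Matrix.det_diagonal, hd]; exact one_ne_zero)
    have hbc : (b : Matrix (Fin n) (Fin n) F) = Matrix.diagonal d := rfl
    have e1 : Matrix.diagonal d * Matrix.single i j (1 : F) = c • Matrix.single i j 1 := by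
      ext a a'
      rw [Matrix.diagonal_mul, Matrix.smul_apply, Matrix.single_apply]
      split_ifs with h1
      · simp [d, ← h1.1]
      · simp
    have e2 : Matrix.single i j (1 : F) * Matrix.diagonal d = Matrix.single i j 1 := by
      ext a a'
      rw [Matrix.mul_diagonal, Matrix.single_apply]
      split_ifs with h1
      · simp [d, ← h1.2, h.symm, htj.symm]
      · simp
    have e : kr (1 : GL (Fin k) F) b * el X i j h = el (c • X) i j h * kr 1 b := by
      refine Units.ext ?_
      simp only [Units.val_mul, el_coe, kr_coe, Units.val_one, hbc, mul_add, add_mul, one_mul, mul_one,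
        ← mul_kronecker_mul, e1, e2, kronecker_smul, smul_kronecker, smul_mul_assoc, mul_smul_comm]
    have hb : kr (1 : GL (Fin k) F) b ∈ M := hH 1 b (by simp) (by rw [hbc, Matrix.det_diagonal, hd])
    rw [eq_mul_inv_of_mul_eq e.symm]
    exact mul_mem (mul_mem hb hX) (inv_mem hb)

theorem mem_blockSpace {hn : 3 ≤ n} {i j : Fin n} {h : i ≠ j} {X : Matrix (Fin k) (Fin k) F} :
    X ∈ blockSpace hH hn i j h ↔ el X i j h ∈ M := Iff.rfl

theorem blockSpace_ad (p : ℕ) [Fact p.Prime] [CharP F p] (hn : 3 ≤ n) (i j : Fin n) (h : i ≠ j) {E : Matrix (Fin k) (Fin k) F} (hE : E * E = 0)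
    {X : Matrix (Fin k) (Fin k) F} (hX : X ∈ blockSpace hH hn i j h) :
    (1 + E) * X * (1 - E) ∈ blockSpace hH hn i j h := by
  let a : GL (Fin k) F := ⟨1 + E, 1 - E,
    by rw [add_mul, one_mul, mul_sub, mul_one, hE]; abel,
    by rw [sub_mul, one_mul, mul_add, mul_one, hE]; abel⟩
  have ha : (a : Matrix (Fin k) (Fin k) F).det = 1 := by
    refine det_eq_one_of_pow p (t := 1) ?_
    rcases (Fact.out : p.Prime).two_le with hp
    show (1 + E) ^ p ^ 1 = 1
    rcases isEmpty_or_nonempty (Fin k) with hk | hk
    · exact Subsingleton.elim _ _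
    rw [add_pow_char_pow_of_commute _ _ (Commute.one_left _), one_pow, pow_one,
      pow_eq_zero_of_le hp (by rw [pow_two, hE]), add_zero]
  have e : kr a (1 : GL (Fin n) F) * el X i j h * (kr a 1)⁻¹ = el ((1 + E) * X * (1 - E)) i j h := by
    rw [kr_inv]
    refine Units.ext ?_
    simp only [Units.val_mul, el_coe, kr_coe, inv_one, Units.val_one, mul_add, add_mul, mul_one,
      ← mul_kronecker_mul, one_mul]
    rw [show (Units.val a⁻¹ : Matrix (Fin k) (Fin k) F) = 1 - E from rfl, show Units.val a = 1 + E from rfl]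
    congr 1
    rw [← one_kronecker_one]
    congr 1
    · rw [add_mul, one_mul, mul_sub, mul_one, hE]; abel
    · congr 1
      rw [add_mul, one_mul, add_mul]
  rw [mem_blockSpace, ← e]
  exact mul_mem (mul_mem (hH a 1 ha (by simp)) hX) (inv_mem (hH a 1 ha (by simp)))

end

/-- a non-scalar matrix generates all root vectors under conjugation -/
theorem single_mem {N : Submodule F (Matrix (Fin k) (Fin k) F)}
    (hAd : ∀ {E : Matrix (Fin k) (Fin k) F}, E * E = 0 → ∀ {X}, X ∈ N → (1 + E) * X * (1 - E) ∈ N)
    {X : Matrix (Fin k) (Fin k) F} (hX : X ∈ N) (hns : ¬ ∃ x : F, X = algebraMap F _ x)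
    (hex : 3 ≤ k ∨ ∃ c : F, c ≠ 0 ∧ c ≠ 1) {r s : Fin k} (hrs : r ≠ s) : Matrix.single r s (1 : F) ∈ N := by
  classical
  have hEE : ∀ {x y : Fin k}, x ≠ y → ∀ a b : F, Matrix.single x y a * Matrix.single x y b = 0 :=
    fun h a b => Matrix.single_mul_single_of_ne _ _ _ _ h.symm _
  have hf : ∀ {E : Matrix (Fin k) (Fin k) F}, E * E = 0 → E * X - X * E - E * X * E ∈ N := fun {E} hE => by
    have := sub_mem (hAd hE hX) hX
    convert this using 1
    noncomm_ring
  have hone : ∃ x y, x ≠ y ∧ Matrix.single x y (1 : F) ∈ N := by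
    by_cases hoff : ∃ x y, x ≠ y ∧ X y x ≠ 0
    · obtain ⟨x, y, hxy, h0⟩ := hoff
      rcases hex with hk | ⟨c, hc0, hc1⟩
      · obtain ⟨l, hlx, hly⟩ := exists_third hk x y
        set A := Matrix.single x y (1 : F)
        set B := Matrix.single x l (1 : F)
        have hA : A * A = 0 := hEE hxy _ _
        have hB : B * B = 0 := hEE hlx.symm _ _
        have hAB : (A + B) * (A + B) = 0 := by
          simp [A, B, add_mul, mul_add, Matrix.single_mul_single_of_ne _ _ _ _ hxy.symm,
            Matrix.single_mul_single_of_ne _ _ _ _ hlx]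
        have h1 : A * X * B + B * X * A ∈ N := by
          have := sub_mem (sub_mem (hf hA) (hf hAB)) (neg_mem (hf hB))
          convert this using 1
          noncomm_ring
        rw [show A * X * B + B * X * A = Matrix.single x l (X y x) + Matrix.single x y (X l x) by
          simp [A, B, Matrix.single_mul_mul_single]] at h1
        have h2 := hAd (hEE hly (X l x / X y x) (X l x / X y x)) h1
        refine ⟨x, l, hlx.symm, ?_⟩
        have h3 : Matrix.single x l (X y x) ∈ N := by
          convert h2 using 1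
          simp [add_mul, mul_add, mul_sub, sub_mul, Matrix.single_mul_single_of_ne _ _ _ _ hxy.symm,
            Matrix.single_mul_single_of_ne _ _ _ _ hly.symm, mul_div_cancel₀ _ h0]
        have := N.smul_mem (X y x)⁻¹ h3
        rwa [Matrix.smul_single, smul_eq_mul, inv_mul_cancel₀ h0] at this
      · refine ⟨x, y, hxy, ?_⟩
        set A := Matrix.single x y (1 : F)
        have hA : A * A = 0 := hEE hxy _ _
        have hcA : (c • A) * (c • A) = 0 := by rw [smul_mul_smul_comm, hA, smul_zero]
        have h1 := sub_mem (hf hcA) (N.smul_mem c (hf hA))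
        have h2 : (c - c * c) • (A * X * A) ∈ N := by
          convert h1 using 1
          simp only [smul_mul_assoc, mul_smul_comm, smul_sub, smul_smul, sub_smul]
          abel
        rw [show A * X * A = Matrix.single x y (X y x) by simp [A, Matrix.single_mul_mul_single],
          Matrix.smul_single, smul_eq_mul] at h2
        have hne : (c - c * c) * X y x ≠ 0 := by
          refine mul_ne_zero (fun h => ?_) h0
          rw [show c - c * c = c * (1 - c) by ring] at h
          rcases mul_eq_zero.1 h with h | h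
          · exact hc0 h
          · exact hc1 (sub_eq_zero.1 h).symm
        have := N.smul_mem ((c - c * c) * X y x)⁻¹ h2
        rwa [Matrix.smul_single, smul_eq_mul, inv_mul_cancel₀ hne] at this
    · push Not at hoff
      obtain ⟨x, y, hxy⟩ : ∃ x y, X x x ≠ X y y := by
        by_contra hc
        push Not at hc
        refine hns ⟨X r r, Matrix.ext fun a b => ?_⟩
        rw [Matrix.algebraMap_matrix_apply]
        rcases eq_or_ne a b with rfl | hab
        · rw [if_pos rfl]; exact hc a r
        · rw [if_neg hab]; exact hoff b a hab.symm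
      have hne : x ≠ y := fun e => hxy (by rw [e])
      have h1 := hf (hEE hne (1 : F) 1)
      have e : Matrix.single x y (1 : F) * X - X * Matrix.single x y 1 -
          Matrix.single x y 1 * X * Matrix.single x y 1 = Matrix.single x y (X y y - X x x) := by
        rw [Matrix.single_mul_mul_single, hoff x y hne]
        ext a b
        rcases eq_or_ne a x with rfl | ha
        · rcases eq_or_ne b y with rfl | hb
          · simp
          · simp only [Matrix.sub_apply]
            rw [Matrix.single_mul_apply_same, Matrix.mul_single_apply_of_ne _ _ _ _ _ hb]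
            simp [Matrix.single_apply, hb.symm, hoff b y hb]
        · rcases eq_or_ne b y with rfl | hb
          · simp only [Matrix.sub_apply]
            rw [Matrix.single_mul_apply_of_ne _ _ _ _ _ ha, Matrix.mul_single_apply_same]
            simp [Matrix.single_apply, ha.symm, hoff x a ha.symm]
          · simp only [Matrix.sub_apply]
            rw [Matrix.single_mul_apply_of_ne _ _ _ _ _ ha, Matrix.mul_single_apply_of_ne _ _ _ _ _ hb]
            simp [Matrix.single_apply, ha.symm, hb.symm]
      rw [e] at h1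
      refine ⟨x, y, hne, ?_⟩
      have := N.smul_mem (X y y - X x x)⁻¹ h1
      rwa [Matrix.smul_single, smul_eq_mul, inv_mul_cancel₀ (sub_ne_zero.2 hxy.symm)] at this
  obtain ⟨x, y, hxy, hm⟩ := hone
  have row : ∀ {a b a' : Fin k}, a ≠ b → a' ≠ b → Matrix.single a b (1 : F) ∈ N → Matrix.single a' b (1 : F) ∈ N := by
    intro a b a' hab hab' h
    rcases eq_or_ne a' a with rfl | hne
    · exact h
    have := sub_mem (hAd (hEE hne (1 : F) 1) h) h
    convert this using 1
    simp [add_mul, mul_sub, Matrix.single_mul_single_of_ne _ _ _ _ hab'.symm]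
  have col : ∀ {a b b' : Fin k}, a ≠ b → a ≠ b' → Matrix.single a b (1 : F) ∈ N → Matrix.single a b' (1 : F) ∈ N := by
    intro a b b' hab hab' h
    rcases eq_or_ne b b' with rfl | hne
    · exact h
    have := sub_mem h (hAd (hEE hne (1 : F) 1) h)
    convert this using 1
    simp [add_mul, mul_sub, Matrix.single_mul_single_of_ne _ _ _ _ hab'.symm,
      Matrix.single_mul_single_of_ne _ _ _ _ hab.symm]
  by_cases hry : r = y
  · have hswap : Matrix.single y x (1 : F) ∈ N := by
      have h1 := hAd (hEE hxy.symm (1 : F) 1) hm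
      have h2 := neg_mem (hAd (show (-Matrix.single x y (1 : F)) * (-Matrix.single x y 1) = 0 by
        rw [neg_mul_neg, hEE hxy]) h1)
      convert h2 using 1
      simp [add_mul, mul_add, mul_sub, sub_mul, Matrix.single_mul_single_of_ne _ _ _ _ hxy,
        Matrix.single_mul_single_of_ne _ _ _ _ hxy.symm]
    subst hry
    exact col hxy.symm hrs hswap
  · exact col hry hrs (row hxy hry hm)

/-- the group generated by one block transvection and `SL ⊗ SL` -/
theorem sl_le_of_el (p : ℕ) [Fact p.Prime] [CharP F p] (hn : 3 ≤ n) (hex : 3 ≤ k ∨ ∃ c : F, c ≠ 0 ∧ c ≠ 1)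
    {M : Subgroup (GL (Fin k × Fin n) F)}
    (hH : ∀ (a : GL (Fin k) F) (b : GL (Fin n) F), (a : Matrix (Fin k) (Fin k) F).det = 1 →
      (b : Matrix (Fin n) (Fin n) F).det = 1 → kr a b ∈ M)
    {i j : Fin n} (h : i ≠ j) {X : Matrix (Fin k) (Fin k) F} (hns : ¬ ∃ x : F, X = algebraMap F _ x)
    (hX : el X i j h ∈ M) : Cfsg.Geo.specialLinear (Fin k × Fin n) F ≤ M := by
  have base : ∀ {x y : Fin k} {r s : Fin n}, x ≠ y → r ≠ s → ∀ (hne : (x, r) ≠ (y, s)) (c : F),
      tvU (x, r) (y, s) hne c ∈ M := by
    intro x y r s hxy hrs hne c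
    have h1 : (c • Matrix.single x y (1 : F)) ∈ blockSpace hH hn i j h :=
      Submodule.smul_mem _ c (single_mem (fun hE _ hY => blockSpace_ad hH p hn i j h hE hY)
        (N := blockSpace hH hn i j h) hX hns hex hxy)
    have h2 := el_move hH hn h hrs h1
    convert h2 using 1
    refine Units.ext ?_
    rw [tvU_coe, el_coe, Matrix.smul_single, Matrix.single_kronecker_single, smul_eq_mul, mul_one, mul_one]
  have comp : ∀ {P Q R : Fin k × Fin n} (hPQ : P ≠ Q) (hQR : Q ≠ R) (hPR : P ≠ R),
      (∀ c, tvU P Q hPQ c ∈ M) → (∀ c, tvU Q R hQR c ∈ M) → ∀ c : F, tvU P R hPR c ∈ M := by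
    intro P Q R hPQ hQR hPR h1 h2 c
    have e : tvU P R hPR c = tvU P Q hPQ c * tvU Q R hQR 1 * tvU P Q hPQ (-c) * tvU Q R hQR (-1) := by
      refine Units.ext ?_
      simp only [Units.val_mul, tvU_coe, mul_add, add_mul, one_mul, mul_one, Matrix.single_mul_single_same,
        Matrix.single_mul_single_of_ne _ _ _ _ hPQ.symm, Matrix.single_mul_single_of_ne _ _ _ _ hQR.symm,
        Matrix.single_mul_single_of_ne _ _ _ _ hPR.symm, add_zero, zero_mul, zero_add]
      have hneg : ∀ (a b : Fin k × Fin n) (x : F), Matrix.single a b (-x) = -Matrix.single a b x := fun a b x =>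
        eq_neg_of_add_eq_zero_left (by rw [← Matrix.single_add, neg_add_cancel]; simp)
      simp only [mul_neg, mul_one, neg_mul, neg_neg, hneg]
      abel
    rw [e]
    exact mul_mem (mul_mem (mul_mem (h1 c) (h2 1)) (h1 (-c))) (h2 (-1))
  have diffL : ∀ {x y : Fin k} {r : Fin n} (hne : (x, r) ≠ (y, r)), x ≠ y → ∀ c : F, tvU (x, r) (y, r) hne c ∈ M := by
    intro x y r hne hxy c
    obtain ⟨t, htr, -⟩ := exists_third hn r r
    obtain ⟨u, hur, hut⟩ := exists_third hn r t
    have g4 : ∀ c : F, tvU (x, r) (y, t) (fun e => hxy (congrArg Prod.fst e)) c ∈ M := base hxy htr.symm _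
    have g5 : ∀ c : F, tvU (y, t) (x, u) (fun e => hxy.symm (congrArg Prod.fst e)) c ∈ M := base hxy.symm hut.symm _
    have g6 : ∀ c : F, tvU (x, u) (y, r) (fun e => hxy (congrArg Prod.fst e)) c ∈ M := base hxy hur _
    exact comp _ _ _ g4 (comp (P := (y, t)) _ _ (fun e => htr (congrArg Prod.snd e)) g5 g6) c
  have all : ∀ (P Q : Fin k × Fin n) (hne : P ≠ Q) (c : F), tvU P Q hne c ∈ M := by
    rintro ⟨x, r⟩ ⟨y, s⟩ hne c
    by_cases hxy : x = y
    · subst hxy
      have hrs : r ≠ s := fun e => hne (by rw [e])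
      obtain ⟨t, htr, hts⟩ := exists_third hn r s
      obtain ⟨z, hz⟩ : ∃ z, z ≠ x := by
        by_contra hc
        push Not at hc
        refine hns ⟨X x x, Matrix.ext fun a b => ?_⟩
        rw [hc a, hc b, Matrix.algebraMap_matrix_apply, if_pos rfl]
        rfl
      exact comp (Q := (z, t)) (fun e => hz (congrArg Prod.fst e).symm) (fun e => hz (congrArg Prod.fst e)) hne
        (base hz.symm htr.symm _) (base hz hts _) c
    · by_cases hrs : r = s
      · subst hrs
        exact diffL hne hxy c
      · exact base hxy hrs hne c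
  intro g hg
  let S : Subgroup (SpecialLinearGroup (Fin k × Fin n) F) := M.comap SpecialLinearGroup.toGL
  have hS : S = ⊤ := Classical.Linear.eq_top_of_transvection_mem S fun P Q hPQ c => by
    show SpecialLinearGroup.toGL (SpecialLinearGroup.transvection hPQ c) ∈ M
    convert all P Q hPQ c using 1
    refine Units.ext ?_
    rw [tvU_coe]
    exact SpecialLinearGroup.transvection_coe hPQ c
  let x : SpecialLinearGroup (Fin k × Fin n) F := ⟨(g : Matrix _ _ F), mem_specialLinear.1 hg⟩
  have hx : x ∈ S := hS ▸ Subgroup.mem_top _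
  have hxg : SpecialLinearGroup.toGL x = g := Units.ext rfl
  rw [← hxg]; exact hx

end Cfsg.Agent.Forms.Max.TensorMax
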