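import Cfsg.Agent.Lib.Forms.Max.Tensor.SympSpread

/-!
# Without root elements with pure line, the radical meets an overgroup in Kronecker products
-/

set_option autoImplicit false
set_option linter.unusedSectionVars false

namespace Cfsg.Agent.Forms.Max.TensorRes.SympPlus

open Matrix Cfsg.Agent.Aschbacher Cfsg.Agent.Forms.Max.TensorMax Cfsg.Agent.Forms.Max.SympTools
  Cfsg.Agent.Classical.Orth Cfsg.Agent.Forms.Max.TensorRes
open Cfsg.Agent.Forms.Max.TensorRes.Unitary (pure_add_left pure_smul_left pure_add_right pure_smul_right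
  pure_zero_left pure_zero_right pure_ne_zero pureR pureR_apply InR Cen)

variable {F : Type*} [Field F] [Fintype F] {k n : ℕ}
variable {β : (Fin k → F) → (Fin k → F) → F} {γ : (Fin n → F) → (Fin n → F) → F}
  {Q : QuadraticForm F (Fin k × Fin n → F)}

local notation "B" => QuadraticMap.polar Q
local notation "Uv" => (Fin k → F)
local notation "Wv" => (Fin n → F)
local notation "Vv" => (Fin k × Fin n → F)

/-- endomorphisms of central elements -/
def InK (γ : Wv → Wv → F) (M : Subgroup (GL (Fin k × Fin n) F)) (f : Wv) (K : Uv →ₗ[F] Uv) : Prop :=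
  ∃ c ∈ M, Cen γ f c K

/-- elements of the radical supported on one slot -/
def Slot (γ : Wv → Wv → F) (M : Subgroup (GL (Fin k × Fin n) F)) (f z : Wv) (X : Uv →ₗ[F] Uv) : Prop :=
  ∃ g ∈ M, InR γ f g ∧
    ∀ u w, γ w f = 0 → (Units.val g) *ᵥ pure u w = pure u w + γ w z • pure (X u) f

variable {M : Subgroup (GL (Fin k × Fin n) F)}

omit [Fintype F] in
theorem ext_pure {L N : Matrix (Fin k × Fin n) (Fin k × Fin n) F}
    (h : ∀ u w, L *ᵥ pure u w = N *ᵥ pure u w) (x : Vv) : L *ᵥ x = N *ᵥ x := by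
  rw [sum_rows x, mulVec_sum, mulVec_sum]
  exact Finset.sum_congr rfl fun i _ => h _ _

theorem eichLin_pure_ext {g : GL (Fin k × Fin n) F} {a b : Vv}
    (h : ∀ u w, (Units.val g) *ᵥ pure u w = eichLin Q a b (pure u w)) (x : Vv) :
    (Units.val g) *ᵥ x = eichLin Q a b x := by
  rw [sum_rows x, mulVec_sum, map_sum]
  exact Finset.sum_congr rfl fun i _ => h _ _

variable (hO : Over β γ Q M) (hno : ¬ HasRoot γ Q M)
include hO hno

section Frame

variable {f f' : Fin n → F} (hf0 : f ≠ 0) (hf'f : γ f' f = 1)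
include hf0 hf'f

theorem InK.sub {K L : Uv →ₗ[F] Uv} (hK : InK γ M f K) (hL : InK γ M f L) : InK γ M f (K - L) := by
  obtain ⟨c, hc, hcK⟩ := hK
  obtain ⟨d, hd, hdL⟩ := hL
  refine ⟨d⁻¹ * c, mul_mem (inv_mem hd) hc, fun u w => mulVec_inj d ?_⟩
  rw [mulVec_mul_GL, mulVec_inv_cancel, hcK, mulVec_add, mulVec_smul, hdL, hdL, hO.pair.right.alt,
    zero_smul, add_zero, LinearMap.sub_apply, sub_eq_add_neg, ← neg_one_smul F (L u),
    pure_add_left, pure_smul_left, smul_add]
  module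

theorem InK.conj {K K' : Uv →ₗ[F] Uv} (hK : InK γ M f K) {a : GL (Fin k) F} (ha : a ∈ tvGroup β)
    (h : ∀ u, K' ((Units.val a) *ᵥ u) = (Units.val a) *ᵥ K u) : InK γ M f K' := by
  obtain ⟨c, hc, hcK⟩ := hK
  have hm := left_mem hO ha
  refine ⟨kr a 1 * c * (kr a 1)⁻¹, mul_mem (mul_mem hm hc) (inv_mem hm), fun u w => ?_⟩
  rw [kr_inv, inv_one, mulVec_mul_GL, mulVec_mul_GL, kr_pure, hcK, mulVec_add, mulVec_smul, kr_pure, kr_pure,
    ← h, mulVec_inv_cancel]
  simp only [Units.val_one, one_mulVec]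

theorem InK.skew {K : Uv →ₗ[F] Uv} (hK : InK γ M f K) (u : Uv) : β (K u) u = 0 := by
  obtain ⟨c, hc, hcK⟩ := hK
  have hP := hO.pair
  have h1 := map_M hO hc (pure u f')
  rw [hcK, hf'f, one_smul, map_add', hP.zero, hP.zero, hP.mul, hf'f, mul_one, zero_add, zero_add] at h1
  exact comm_zero hP.left h1

/-- central elements are scalar -/
theorem InK.scalar {K : Uv →ₗ[F] Uv} (hK : InK γ M f K) : ∃ μ : F, ∀ u, K u = μ • u := by
  have hP := hO.pair
  have hβ := hP.left
  by_cases hall : ∀ u, K u ∈ Submodule.span F {u}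
  · choose c hc using fun u => Submodule.mem_span_singleton.1 (hall u)
    obtain ⟨i₀⟩ : Nonempty (Fin k) := ⟨⟨0, by have := hO.hk; omega⟩⟩
    set e := fun i : Fin k => (Pi.single i 1 : Uv)
    refine ⟨c (e i₀), ?_⟩
    have hsame : ∀ i, c (e i) = c (e i₀) := fun i => by
      rcases eq_or_ne i i₀ with rfl | hi
      · rfl
      have h1 := hc (e i + e i₀)
      rw [map_add, ← hc (e i), ← hc (e i₀)] at h1
      have e1 := congrFun h1 i
      have e2 := congrFun h1 i₀
      simp [e, hi, hi.symm] at e1 e2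
      rw [← e1, ← e2]
    intro u
    conv_lhs => rw [pi_eq_sum_univ' u, map_sum]
    conv_rhs => rw [pi_eq_sum_univ' u, Finset.smul_sum]
    exact Finset.sum_congr rfl fun i _ => by
      rw [map_smul, ← hc, hsame i, smul_comm]
  exfalso
  push Not at hall
  obtain ⟨u, hu⟩ := hall
  have hu0 : u ≠ 0 := fun e => hu (by rw [e, map_zero]; exact zero_mem _)
  have hKvu : ∀ v, β (K v) u = β v (K u) := fun v => by
    have h1 := InK.skew hO hno hf0 hf'f hK (v + u)
    rw [map_add, hβ.add, add_right hβ, add_right hβ, InK.skew hO hno hf0 hf'f hK, InK.skew hO hno hf0 hf'f hK] at h1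
    rw [hβ.skew v (K u)]
    linear_combination h1
  let L : Uv →ₗ[F] Uv :=
    (SympTools.form hβ (K u)).smulRight u - (SympTools.form hβ u).smulRight (K u)
  have hL : ∀ v, L v = β v (K u) • u - β v u • K u := fun v => rfl
  obtain ⟨a, ha, hax⟩ := exists_tv hβ u 1
  have h1 : InK γ M f (K + L) := by
    refine InK.conj hO hno hf0 hf'f hK (Subgroup.subset_closure ha) fun v => ?_
    simp only [LinearMap.add_apply, hL, hax, map_add, map_smul, hβ.add, hβ.smul, hβ.alt,
      InK.skew hO hno hf0 hf'f hK u, comm_zero hβ (InK.skew hO hno hf0 hf'f hK u), hKvu, one_mul, mul_zero,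
      add_zero]
    module
  have h2 := InK.sub hO hno hf0 hf'f h1 hK
  rw [add_sub_cancel_left] at h2
  obtain ⟨c, hc, hcL⟩ := h2
  refine hno (root_of_central hO (d := u) (v := -K u) hu0 hf0 ?_ (fun hm => hu (by simpa using neg_mem hm))
    ⟨c, hc, eichLin_pure_ext fun v w => ?_⟩)
  · rw [← neg_one_smul F (K u), hβ.smul, InK.skew hO hno hf0 hf'f hK, mul_zero]
  · rw [hcL, eichLin_apply, ← neg_one_smul F (K u), pure_smul_left, QuadraticMap.polar_smul_right, hP.mul,
      hP.mul, Classical.Orth.map_smul', hP.zero, hL, sub_eq_add_neg (β v (K u) • u), pure_add_left, ← neg_one_smul F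
      (β v u • K u), pure_smul_left, pure_smul_left, pure_smul_left, smul_eq_mul]
    module

/-- the commutator with a Siegel element of the second factor -/
theorem sym_of_InR {g : GL (Fin k × Fin n) F} (hg : g ∈ M) (hR : InR γ f g) {w₀ : Wv} (hw₀ : γ w₀ f = 0)
    {X : Uv →ₗ[F] Uv} (hX : ∀ u, (Units.val g) *ᵥ pure u w₀ = pure u w₀ + pure (X u) f) :
    ∃ μ : F, ∀ u v, β (X u) v + β u (X v) = μ * β u v := by
  have hP := hO.pair
  have hh := hP.right
  obtain ⟨s, hs, hsx⟩ := exists_siegel hh (comm_zero hh hw₀)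
  have hq := right_mem hO hs
  set q := kr (1 : GL (Fin k) F) s with hqd
  set c := g * q * (q * g)⁻¹ with hc
  have hcM : c ∈ M := mul_mem (mul_mem hg hq) (inv_mem (mul_mem hq hg))
  have hcq : c * (q * g) = g * q := by rw [hc, inv_mul_cancel_right]
  have hqw : ∀ u w, γ w f = 0 → (Units.val q) *ᵥ pure u w = pure u w + γ w w₀ • pure u f := fun u w hw => by
    rw [hqd, kr_pure, hsx, Units.val_one, one_mulVec, hw, zero_smul, add_zero, pure_add_right, pure_smul_right]
  have hqf : ∀ u, (Units.val q) *ᵥ pure u f = pure u f := fun u => by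
    rw [hqd, kr_pure, hsx, Units.val_one, one_mulVec, hh.alt, comm_zero hh hw₀]; simp
  let N : Uv →ₗ[F] Uv := (eta hP w₀).comp ((Matrix.toLin' (Units.val g) - 1).comp (pureR f'))
  have hN : ∀ u, N u = eta hP w₀ ((Units.val g) *ᵥ pure u f' - pure u f') := fun u => rfl
  have hY : ∀ u, eta hP f ((Units.val g) *ᵥ pure u f' - pure u f') = 0 := fun u => eta_eq_zero hP fun v => by
    have h1 := polar_M hO hg (pure u f') (pure v f)
    rw [hR.1] at h1
    rw [QuadraticMap.polar_sub_left, h1, sub_self]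
  have hqY : ∀ y, eta hP f y = 0 → (Units.val q) *ᵥ y = y + pure (eta hP w₀ y) f := fun y hy =>
    TensorMax.ext_row fun i => by
      rw [hqd, kr_coe, Units.val_one, row_one_kron, hsx, (eta_zero_iff hP).1 hy i, zero_smul, add_zero]
      show _ = TensorMax.row y i + TensorMax.row (pure (eta hP w₀ y) f) i
      rw [row_pure]; rfl
  have h1 : ∀ u w, γ w f = 0 → (Units.val c) *ᵥ pure u w = pure u w := by
    intro u w hw
    have e : ∀ u w, γ w f = 0 → (Units.val (g * q)) *ᵥ pure u w = (Units.val (q * g)) *ᵥ pure u w := by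
      intro u w hw
      obtain ⟨x, hx⟩ := hR.2 u w hw
      rw [mulVec_mul_GL, mulVec_mul_GL, hqw u w hw, hx, mulVec_add, mulVec_smul, mulVec_add, hqw u w hw,
        hqf, hR.1, hx]
      abel
    have e' : ∀ v, (Units.val (c * (q * g))) *ᵥ v = (Units.val c) *ᵥ ((Units.val (q * g)) *ᵥ v) :=
      fun v => mulVec_mul_GL c (q * g) v
    have hpre : ∀ u, (Units.val c) *ᵥ pure u f = pure u f := fun u => by
      have := e' (pure u f)
      rw [hcq, e u f (hh.alt f), mulVec_mul_GL, hR.1, hqf] at this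
      exact this.symm
    obtain ⟨x, hx⟩ := hR.2 u w hw
    have := e' (pure u w)
    rw [hcq, e u w hw, mulVec_mul_GL, hx, mulVec_add, hqw u w hw, hqf] at this
    rw [mulVec_add, mulVec_add, mulVec_smul, hpre, hpre] at this
    rw [add_assoc, add_assoc] at this
    exact (add_right_cancel this).symm
  have hfix : ∀ y, eta hP f y = 0 → (Units.val c) *ᵥ y = y := fun y hy => by
    conv_lhs => rw [sum_rows y, mulVec_sum]
    conv_rhs => rw [sum_rows y]
    exact Finset.sum_congr rfl fun i _ => h1 _ _ ((eta_zero_iff hP).1 hy i)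
  have h2 : ∀ u, (Units.val c) *ᵥ pure u f' = pure u f' + pure ((X - N) u) f := by
    intro u
    set Y := (Units.val g) *ᵥ pure u f' - pure u f' with hYd
    have hgf' : (Units.val g) *ᵥ pure u f' = pure u f' + Y := by rw [hYd, add_sub_cancel]
    have hqf' : (Units.val q) *ᵥ pure u f' = pure u f' + pure u w₀ + γ f' w₀ • pure u f := by
      rw [hqd, kr_pure, hsx, Units.val_one, one_mulVec, hf'f, one_smul, pure_add_right,
        pure_add_right, pure_smul_right]
    have hA : (Units.val (g * q)) *ᵥ pure u f' =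
        (pure u f' + Y) + (pure u w₀ + pure (X u) f) + γ f' w₀ • pure u f := by
      rw [mulVec_mul_GL, hqf', mulVec_add, mulVec_add, mulVec_smul, hR.1, hX, hgf']
    have hB : (Units.val (q * g)) *ᵥ pure u f' =
        pure u f' + (pure u w₀ + γ f' w₀ • pure u f + (Y + pure (N u) f)) := by
      rw [mulVec_mul_GL, hgf', mulVec_add, hqY _ (hY u), hqf', hN, ← hYd]
      abel
    have e := mulVec_mul_GL c (q * g) (pure u f')
    rw [hcq, hA, hB, mulVec_add, hfix (pure u w₀ + γ f' w₀ • pure u f + (Y + pure (N u) f)) (by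
      simp [map_add, map_smul, eta_pure, hw₀, hh.alt, show eta hP f Y = 0 from hY u])] at e
    rw [← sub_eq_iff_eq_add] at e
    rw [← e, LinearMap.sub_apply, sub_eq_add_neg (X u), ← neg_one_smul F (N u), pure_add_left, pure_smul_left]
    module
  have hK : InK γ M f (X - N) := by
    refine ⟨c, hcM, fun u w => ?_⟩
    have e : w = (w - γ w f • f') + γ w f • f' := by rw [sub_add_cancel]
    conv_lhs => rw [e, pure_add_right, pure_smul_right, mulVec_add, mulVec_smul, h2,
      h1 _ _ (by rw [SympTools.sub_left hh, hh.smul, hf'f, mul_one, sub_self])]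
    conv_rhs => arg 1; rw [e, pure_add_right, pure_smul_right]
    rw [smul_add]; abel
  obtain ⟨μ, hμ⟩ := InK.scalar hO hno hf0 hf'f hK
  refine ⟨μ, fun u v => ?_⟩
  have h3 : β (N u) v = -β u (X v) := by
    have h4 := polar_M hO hg (pure u f') (pure v w₀)
    set Y := (Units.val g) *ᵥ pure u f' - pure u f' with hYd
    have hgf' : (Units.val g) *ᵥ pure u f' = pure u f' + Y := by rw [hYd, add_sub_cancel]
    rw [hgf', hX, QuadraticMap.polar_add_left, QuadraticMap.polar_add_right, QuadraticMap.polar_add_right,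
      hP.mul u f' (X v) f, hf'f, mul_one, form_pure hP Y v w₀, form_pure hP Y (X v) f,
      show eta hP f Y = 0 from hY u, zero_left hP.left, add_zero, ← hN] at h4
    linear_combination h4
  have h5 := hμ u
  rw [LinearMap.sub_apply] at h5
  have h6 : β (X u - N u) v = μ * β u v := by rw [h5, hP.left.smul]
  rw [SympTools.sub_left hP.left, h3] at h6
  linear_combination h6

/-- slot elements: algebra -/
theorem Slot.add {z : Wv} {X X' : Uv →ₗ[F] Uv} (hX : Slot γ M f z X) (hX' : Slot γ M f z X') :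
    Slot γ M f z (X + X') := by
  obtain ⟨g, hg, hR, hgx⟩ := hX
  obtain ⟨g', hg', hR', hgx'⟩ := hX'
  refine ⟨g * g', mul_mem hg hg', ⟨fun u => by rw [mulVec_mul_GL, hR'.1, hR.1], fun u w hw => ?_⟩, fun u w hw => ?_⟩
  · refine ⟨γ w z • (X u + X' u), ?_⟩
    rw [mulVec_mul_GL, hgx' u w hw, mulVec_add, mulVec_smul, hR.1, hgx u w hw, smul_add, pure_add_left,
      pure_smul_left, pure_smul_left, add_assoc]
  · rw [mulVec_mul_GL, hgx' u w hw, mulVec_add, mulVec_smul, hR.1, hgx u w hw, LinearMap.add_apply,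
      pure_add_left, smul_add, add_assoc]

theorem Slot.neg {z : Wv} {X : Uv →ₗ[F] Uv} (hX : Slot γ M f z X) : Slot γ M f z (-X) := by
  obtain ⟨g, hg, hR, hgx⟩ := hX
  have hfix : ∀ u, (Units.val g⁻¹) *ᵥ pure u f = pure u f := fun u =>
    mulVec_inj g (by rw [mulVec_inv_cancel, hR.1])
  have hw' : ∀ u w, γ w f = 0 → (Units.val g⁻¹) *ᵥ pure u w = pure u w + γ w z • pure ((-X) u) f := fun u w hw =>
    mulVec_inj g (by
      rw [mulVec_inv_cancel, mulVec_add, mulVec_smul, hR.1, hgx u w hw, LinearMap.neg_apply, ← neg_one_smul F (X u),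
        pure_smul_left]
      module)
  exact ⟨g⁻¹, inv_mem hg, ⟨hfix, fun u w hw => ⟨γ w z • (-X) u, by rw [hw' u w hw, pure_smul_left]⟩⟩, hw'⟩

theorem Slot.conj {z : Wv} {X X' : Uv →ₗ[F] Uv} (hX : Slot γ M f z X) {a : GL (Fin k) F} (ha : a ∈ tvGroup β)
    (h : ∀ u, X' ((Units.val a) *ᵥ u) = (Units.val a) *ᵥ X u) : Slot γ M f z X' := by
  obtain ⟨g, hg, hR, hgx⟩ := hX
  have hm := left_mem hO ha
  have hw' : ∀ u w, γ w f = 0 →
      (Units.val (kr a 1 * g * (kr a 1)⁻¹)) *ᵥ pure u w = pure u w + γ w z • pure (X' u) f := fun u w hw => by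
    rw [kr_inv, inv_one, mulVec_mul_GL, mulVec_mul_GL, kr_pure, Units.val_one, one_mulVec, hgx _ w hw, mulVec_add,
      mulVec_smul, kr_pure, kr_pure, ← h, mulVec_inv_cancel, Units.val_one, one_mulVec, one_mulVec]
  refine ⟨_, mul_mem (mul_mem hm hg) (inv_mem hm), ⟨fun u => ?_, fun u w hw => ⟨γ w z • X' u, by
    rw [hw' u w hw, pure_smul_left]⟩⟩, hw'⟩
  rw [kr_inv, inv_one, mulVec_mul_GL, mulVec_mul_GL, kr_pure, Units.val_one, one_mulVec, hR.1, kr_pure,
    mulVec_inv_cancel, Units.val_one, one_mulVec]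

theorem Slot.smul {z : Wv} {X : Uv →ₗ[F] Uv} (hzf : γ z f = 0) (hz : z ∉ Submodule.span F {f})
    (hX : Slot γ M f z X) (t : F) : Slot γ M f z (t • X) := by
  rcases eq_or_ne t 0 with rfl | ht
  · have h0 := Slot.add hO hno hf0 hf'f hX (Slot.neg hO hno hf0 hf'f hX)
    rwa [add_neg_cancel, ← zero_smul F X] at h0
  have hh := hO.pair.right
  have hfz : f ∉ Submodule.span F {z} := fun hm => by
    obtain ⟨c, hc⟩ := Submodule.mem_span_singleton.1 hm
    rcases eq_or_ne c 0 with rfl | hc0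
    · exact hf0 (by rw [← hc, zero_smul])
    · exact hz (Submodule.mem_span_singleton.2 ⟨c⁻¹, by rw [← hc, inv_smul_smul₀ hc0]⟩)
  obtain ⟨x, hxz, hxf⟩ := exists_perp_value hh hfz
  have hfx : γ f x = -1 := by rw [hh.skew, hxf]
  have hzx : γ z x = 0 := comm_zero hh hxz
  -- the torus
  obtain ⟨A, hA, hAx⟩ := exists_tv hh f 1
  obtain ⟨C, hC, hCx⟩ := exists_tv hh x 1
  obtain ⟨A', hA', hA'x⟩ := exists_tv hh f (-t)
  obtain ⟨C', hC', hC'x⟩ := exists_tv hh x (-t)⁻¹
  set b := (C' * (A' * C')) * (A * (C * A)) with hb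
  have hbT : b ∈ tvGroup γ := mul_mem (mul_mem (Subgroup.subset_closure hC') (mul_mem (Subgroup.subset_closure hA')
    (Subgroup.subset_closure hC'))) (mul_mem (Subgroup.subset_closure hA) (mul_mem (Subgroup.subset_closure hC)
    (Subgroup.subset_closure hA)))
  have hbf : (Units.val b) *ᵥ f = t • f := by
    have e1 : (Units.val (A * (C * A))) *ᵥ f = -x := by
      rw [mulVec_mul_GL, mulVec_mul_GL, hAx f, hh.alt, mul_zero, zero_smul, add_zero, hCx, hfx, hAx]
      simp only [hh.add, hh.smul, hh.alt, hxf]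
      module
    have e2 : (Units.val (C' * (A' * C'))) *ᵥ x = -t • f := by
      rw [mulVec_mul_GL, mulVec_mul_GL, hC'x x, hh.alt, mul_zero, zero_smul, add_zero, hA'x, hxf, hC'x]
      simp only [hh.add, hh.smul, hh.alt, hfx]
      match_scalars <;> field_simp <;> ring
    rw [hb, mulVec_mul_GL, e1, mulVec_neg, e2, neg_smul, neg_neg]
  have hbz : (Units.val b) *ᵥ z = z := by
    have fA : (Units.val A) *ᵥ z = z := by rw [hAx, hzf, mul_zero, zero_smul, add_zero]
    have fC : (Units.val C) *ᵥ z = z := by rw [hCx, hzx, mul_zero, zero_smul, add_zero]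
    have fA' : (Units.val A') *ᵥ z = z := by rw [hA'x, hzf, mul_zero, zero_smul, add_zero]
    have fC' : (Units.val C') *ᵥ z = z := by rw [hC'x, hzx, mul_zero, zero_smul, add_zero]
    simp only [hb, mulVec_mul_GL, fA, fC, fA', fC']
  obtain ⟨g, hg, hR, hgx⟩ := hX
  have hm := right_mem hO hbT
  have hbi : ∀ w v, γ ((Units.val b⁻¹) *ᵥ w) v = γ w ((Units.val b) *ᵥ v) := fun w v => by
    rw [← group_isometry hh hbT ((Units.val b⁻¹) *ᵥ w), mulVec_inv_cancel]
  have hw' : ∀ u w, γ w f = 0 →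
      (Units.val (kr 1 b * g * (kr 1 b)⁻¹)) *ᵥ pure u w = pure u w + γ w z • pure ((t • X) u) f := fun u w hw => by
    rw [kr_inv, inv_one, mulVec_mul_GL, mulVec_mul_GL, kr_pure, Units.val_one, one_mulVec,
      hgx _ _ (by rw [hbi, hbf, smul_right hh, hw, mul_zero]), mulVec_add, mulVec_smul, kr_pure, kr_pure,
      mulVec_inv_cancel, Units.val_one, one_mulVec, one_mulVec, hbf, hbi, hbz, pure_smul_right,
      LinearMap.smul_apply, pure_smul_left]
  refine ⟨_, mul_mem (mul_mem hm hg) (inv_mem hm), ⟨fun u => ?_, fun u w hw => ⟨γ w z • (t • X) u, by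
    rw [hw' u w hw, pure_smul_left]⟩⟩, hw'⟩
  have hbf' : (Units.val b⁻¹) *ᵥ f = t⁻¹ • f :=
    mulVec_inj b (by rw [mulVec_inv_cancel, mulVec_smul, hbf, inv_smul_smul₀ ht])
  rw [kr_inv, inv_one, mulVec_mul_GL, mulVec_mul_GL, kr_pure, Units.val_one, one_mulVec, hbf', pure_smul_right,
    mulVec_smul, hR.1, mulVec_smul, kr_pure, Units.val_one, one_mulVec, hbf, pure_smul_right, inv_smul_smul₀ ht]

theorem Slot.sym {z : Wv} {X : Uv →ₗ[F] Uv} (hz : z ∉ Submodule.span F {f}) (hX : Slot γ M f z X) :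
    ∃ μ : F, ∀ u v, β (X u) v + β u (X v) = μ * β u v := by
  obtain ⟨g, hg, hR, hgx⟩ := hX
  obtain ⟨w₀, hw₀, hw₀z⟩ := exists_perp_value hO.pair.right hz
  exact sym_of_InR hO hno hf0 hf'f hg hR hw₀ fun u => by rw [hgx u w₀ hw₀, hw₀z, one_smul]

/-- comparing a slot element with a model -/
theorem exact_slot {z : Wv} {X : Uv →ₗ[F] Uv} {g g₁ : GL (Fin k × Fin n) F} (hg : g ∈ M)
    (hgx : ∀ u w, γ w f = 0 → (Units.val g) *ᵥ pure u w = pure u w + γ w z • pure (X u) f)
    (hg₁ : g₁ ∈ Cfsg.Geo.omegaGL ⇑Q) (hzf : γ z f = 0)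
    (hg₁x : ∀ u w, γ w f = 0 → (Units.val g₁) *ᵥ pure u w = pure u w + γ w z • pure (X u) f) :
    ∃ K : Uv →ₗ[F] Uv, Cen γ f (g₁⁻¹ * g) K ∧ (∀ u, β (K u) u = 0) ∧
      ∀ a ∈ tvGroup β, (∀ x, (Units.val g₁) *ᵥ ((Units.val (kr a 1)) *ᵥ x) =
        (Units.val (kr a (1 : GL (Fin n) F))) *ᵥ ((Units.val g₁) *ᵥ x)) →
        ∃ μ : F, ∀ u, (Units.val a) *ᵥ K u - K ((Units.val a) *ᵥ u) = μ • ((Units.val a) *ᵥ u) := by
  have hP := hO.pair
  have hh := hP.right
  set c := g₁⁻¹ * g with hcd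
  have hfix : ∀ u w, γ w f = 0 → (Units.val c) *ᵥ pure u w = pure u w := fun u w hw =>
    mulVec_inj g₁ (by rw [← mulVec_mul_GL, hcd, mul_inv_cancel_left, hgx u w hw, hg₁x u w hw])
  have hcQ : ∀ x, Q ((Units.val c) *ᵥ x) = Q x := fun x => by
    rw [← Orth.omegaGL_map hg₁, ← mulVec_mul_GL, hcd, mul_inv_cancel_left, map_M hO hg]
  have hcP : ∀ x y, B ((Units.val c) *ᵥ x) ((Units.val c) *ᵥ y) = B x y := fun x y => by
    simp only [QuadraticMap.polar, ← mulVec_add, hcQ]
  have hY : ∀ u, ∃ x, (Units.val c) *ᵥ pure u f' - pure u f' = pure x f := fun u =>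
    exists_of_perp hP fun w' hw' => eta_eq_zero hP fun v => by
      have h1 := hcP (pure u f') (pure v w')
      rw [hfix v w' hw'] at h1
      rw [QuadraticMap.polar_sub_left, h1, sub_self]
  obtain ⟨f'', -, hf''⟩ : ∃ f'' : Wv, True ∧ γ f f'' = 1 := ⟨-f', trivial, by
    rw [SympTools.neg_right hh, hh.skew, neg_neg, hf'f]⟩
  let K : Uv →ₗ[F] Uv := (eta hP f'').comp ((Matrix.toLin' (Units.val c) - 1).comp (pureR f'))
  have hKf' : ∀ u, (Units.val c) *ᵥ pure u f' = pure u f' + pure (K u) f := fun u => by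
    obtain ⟨x, hx⟩ := hY u
    have e : K u = x := by
      show eta hP f'' ((Units.val c) *ᵥ pure u f' - pure u f') = x
      rw [hx, eta_pure, hf'', one_smul]
    rw [e, ← hx, add_sub_cancel]
  have hcen : Cen γ f c K := fun u w => by
    have e : w = (w - γ w f • f') + γ w f • f' := by rw [sub_add_cancel]
    conv_lhs => rw [e, pure_add_right, pure_smul_right, mulVec_add, mulVec_smul, hKf',
      hfix _ _ (by rw [SympTools.sub_left hh, hh.smul, hf'f, mul_one, sub_self])]
    conv_rhs => arg 1; rw [e, pure_add_right, pure_smul_right]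
    rw [smul_add]; abel
  refine ⟨K, hcen, fun u => ?_, fun a ha hcomm => ?_⟩
  · have h1 := hcQ (pure u f')
    rw [hKf', map_add', hP.zero, hP.zero, hP.mul, hf'f, mul_one, zero_add, zero_add] at h1
    exact comm_zero hP.left h1
  have hm := left_mem hO ha
  set d := kr a 1 * g * (kr a 1)⁻¹ * g⁻¹ with hd
  have hdM : d ∈ M := mul_mem (mul_mem (mul_mem hm hg) (inv_mem hm)) (inv_mem hg)
  have hg₁f : ∀ u, (Units.val g₁) *ᵥ pure u f = pure u f := fun u => by
    rw [hg₁x u f (hh.alt f), comm_zero hh hzf, zero_smul, add_zero]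
  -- the difference is central
  let ai := Matrix.toLin' (Units.val a⁻¹)
  let L : Uv →ₗ[F] Uv := (Matrix.toLin' (Units.val a)).comp (K.comp ai) - K
  have hK' : InK γ M f L := by
    refine ⟨d, hdM, ?_⟩
    have hge : ∀ x, (Units.val g) *ᵥ x = (Units.val g₁) *ᵥ ((Units.val c) *ᵥ x) := fun x => by
      rw [← mulVec_mul_GL, hcd, mul_inv_cancel_left]
    have hconj : ∀ v w, (Units.val (kr a 1 * g * (kr a 1)⁻¹)) *ᵥ pure v w =
        (Units.val g₁) *ᵥ (pure v w + γ w f • pure ((Units.val a) *ᵥ K ((Units.val a⁻¹) *ᵥ v)) f) := fun v w => by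
      rw [kr_inv, inv_one, mulVec_mul_GL, mulVec_mul_GL, kr_pure, Units.val_one, one_mulVec, hge, ← hcomm,
        hcen, mulVec_add (Units.val (kr a 1)), mulVec_smul (Units.val (kr a 1)), kr_pure, kr_pure,
        mulVec_inv_cancel, Units.val_one, one_mulVec, one_mulVec]
    have hkey : ∀ v w, (Units.val (kr a 1 * g * (kr a 1)⁻¹)) *ᵥ pure v w =
        (Units.val g) *ᵥ pure v w + γ w f • pure (L v) f := fun v w => by
      rw [hconj, hge, hcen, mulVec_add, mulVec_smul, hg₁f, mulVec_add, mulVec_smul, hg₁f,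
        show L v = (Units.val a) *ᵥ K ((Units.val a⁻¹) *ᵥ v) - K v from rfl, sub_eq_add_neg,
        ← neg_one_smul F (K v), pure_add_left, pure_smul_left]
      module
    -- strip `g`
    have hL : ∀ x, (Units.val (kr a 1 * g * (kr a 1)⁻¹)) *ᵥ x =
        (Units.val g) *ᵥ x + pure (L (eta hP f x)) f := fun x => by
      conv_lhs => rw [sum_rows x, mulVec_sum]
      rw [show pure (L (eta hP f x)) f = ∑ i, γ (TensorMax.row x i) f • pure (L (Pi.single i 1)) f by
        rw [← pureR_apply f (L (eta hP f x)), ← LinearMap.comp_apply, pi_eq_sum_univ' (eta hP f x), map_sum]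
        simp only [map_smul, LinearMap.comp_apply, pureR_apply, eta_apply]]
      conv_rhs => arg 1; rw [sum_rows x, mulVec_sum]
      rw [← Finset.sum_add_distrib]
      exact Finset.sum_congr rfl fun i _ => hkey _ _
    have hgi : ∀ u w, eta hP f ((Units.val g⁻¹) *ᵥ pure u w) = γ w f • u := fun u w => by
      rw [← eta_pure hP f u w]
      refine sub_eq_zero.1 ?_
      rw [← map_sub]
      refine eta_eq_zero hP fun v => ?_
      have hgf : (Units.val g) *ᵥ pure v f = pure v f := by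
        rw [hgx v f (hh.alt f), comm_zero hh hzf, zero_smul, add_zero]
      rw [QuadraticMap.polar_sub_left]
      conv_lhs => arg 1; rw [← polar_M hO hg, mulVec_inv_cancel, hgf]
      rw [sub_self]
    intro u w
    rw [hd, mulVec_mul_GL, hL, mulVec_inv_cancel, hgi, map_smul, pure_smul_left]
  obtain ⟨μ, hμ⟩ := InK.scalar hO hno hf0 hf'f hK'
  refine ⟨μ, fun u => ?_⟩
  have h1 := hμ ((Units.val a) *ᵥ u)
  rw [show L ((Units.val a) *ᵥ u) = (Units.val a) *ᵥ K ((Units.val a⁻¹) *ᵥ ((Units.val a) *ᵥ u)) -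
    K ((Units.val a) *ᵥ u) from rfl, inv_mulVec_cancel] at h1
  exact h1

end Frame

end Cfsg.Agent.Forms.Max.TensorRes.SympPlus
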