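import Cfsg.Agent.Lib.Forms.Max.Tensor.SympSlot

/-!
# The radical of the stabiliser of `U ⊗ f` meets an overgroup without root elements in Kronecker products
-/

set_option autoImplicit false
set_option linter.unusedSectionVars false

namespace Cfsg.Agent.Forms.Max.TensorRes.SympPlus

open Matrix Cfsg.Agent.Aschbacher Cfsg.Agent.Forms.Max.TensorMax Cfsg.Agent.Forms.Max.SympTools
  Cfsg.Agent.Classical.Orth Cfsg.Agent.Forms.Max.TensorRes
open Cfsg.Agent.Forms.Max.TensorRes.Unitary (pure_add_left pure_smul_left pure_add_right pure_smul_right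
  pure_zero_left pure_zero_right pure_ne_zero pureR pureR_apply InR Cen)

variable {F : Type*} [Field F] [Fintype F] {k n : ℕ}
variable {β : (Fin k → F) → (Fin k → F) → F} {γ : (Fin n → F) → (Fin n → F) → F}
  {Q : QuadraticForm F (Fin k × Fin n → F)}

local notation "B" => QuadraticMap.polar Q
local notation "Uv" => (Fin k → F)
local notation "Wv" => (Fin n → F)

variable {M : Subgroup (GL (Fin k × Fin n) F)} (hO : Over β γ Q M) (hno : ¬ HasRoot γ Q M)
  (hex : (∃ c : F, c ≠ 0 ∧ c ≠ 1) ∨ 3 ≤ k)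
include hO hno hex

/-- the radical meets `M` in Kronecker products -/
theorem kron_of_InR {f : Wv} (hf0 : f ≠ 0) {g : GL (Fin k × Fin n) F} (hg : g ∈ M) (hR : InR γ f g) :
    g ∈ Cfsg.Geo.kroneckerSubgroup k n F := by
  have hP := hO.pair
  have hh := hP.right
  obtain ⟨f', -, hf'f⟩ := exists_partner hh hf0
  have hff'' : γ f (-f') = 1 := by rw [SympTools.neg_right hh, hh.skew, neg_neg, hf'f]
  let X : Wv → Uv →ₗ[F] Uv := fun w => (eta hP (-f')).comp ((Matrix.toLin' (Units.val g) - 1).comp (pureR w))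
  have hXd : ∀ u w, X w u = eta hP (-f') ((Units.val g) *ᵥ pure u w - pure u w) := fun u w => rfl
  have hX : ∀ u w, γ w f = 0 → (Units.val g) *ᵥ pure u w = pure u w + pure (X w u) f := fun u w hw => by
    obtain ⟨x, hx⟩ := hR.2 u w hw
    rw [show X w u = x by rw [hXd, hx, add_sub_cancel_left, eta_pure, hff'', one_smul], hx]
  have hginv : ∀ u w, γ w f = 0 → (Units.val g⁻¹) *ᵥ pure u w = pure u w - pure (X w u) f := fun u w hw =>
    mulVec_inj g (by rw [mulVec_inv_cancel, mulVec_sub, hX u w hw, hR.1, add_sub_cancel_right])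
  have hgf : ∀ u, (Units.val g⁻¹) *ᵥ pure u f = pure u f := fun u => mulVec_inj g (by rw [mulVec_inv_cancel, hR.1])
  have hscal : ∀ z, γ z f = 0 → ∃ μ : F, ∀ u, X z u = μ • u := by
    intro z hz
    by_cases hzs : z ∈ Submodule.span F {f}
    · obtain ⟨c, rfl⟩ := Submodule.mem_span_singleton.1 hzs
      refine ⟨0, fun u => ?_⟩
      rw [hXd, pure_smul_right, mulVec_smul, hR.1, sub_self, map_zero, zero_smul]
    obtain ⟨s, hs, hsx⟩ := exists_tv hh z 1
    have hqM := right_mem hO (Subgroup.subset_closure hs)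
    set d := kr (1 : GL (Fin k) F) s * g * (kr 1 s)⁻¹ * g⁻¹ with hd
    have hdM : d ∈ M := mul_mem (mul_mem (mul_mem hqM hg) (inv_mem hqM)) (inv_mem hg)
    have hsf : (Units.val s) *ᵥ f = f := by rw [hsx, comm_zero hh hz, mul_zero, zero_smul, add_zero]
    have hsf' : (Units.val s⁻¹) *ᵥ f = f := mulVec_inj s (by rw [mulVec_inv_cancel, hsf])
    have hdf : ∀ u, (Units.val d) *ᵥ pure u f = pure u f := fun u => by
      rw [hd, mulVec_mul_GL, mulVec_mul_GL, mulVec_mul_GL, hgf, kr_inv, inv_one, kr_pure, hsf', Units.val_one,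
        one_mulVec, hR.1, kr_pure, hsf, Units.val_one, one_mulVec]
    have hdw : ∀ u w, γ w f = 0 → (Units.val d) *ᵥ pure u w = pure u w + γ w z • pure ((-X z) u) f := fun u w hw => by
      have hs' : (Units.val s⁻¹) *ᵥ w = w - γ w z • z := mulVec_inj s (by
        rw [mulVec_inv_cancel, hsx, SympTools.sub_left hh, hh.smul, hh.alt, mul_zero, sub_zero, one_mul,
          sub_add_cancel])
      have hw' : γ (w - γ w z • z) f = 0 := by rw [SympTools.sub_left hh, hh.smul, hw, hz, mul_zero, sub_zero]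
      rw [hd, mulVec_mul_GL, mulVec_mul_GL, mulVec_mul_GL, hginv u w hw, mulVec_sub, kr_inv, inv_one, kr_pure,
        kr_pure, hs', hsf', Units.val_one, one_mulVec, one_mulVec, mulVec_sub, hX u _ hw', hR.1, mulVec_sub,
        mulVec_add, kr_pure, kr_pure, kr_pure, hsf, Units.val_one, one_mulVec, one_mulVec, one_mulVec,
        mulVec_sub, mulVec_smul, hsx w, hsx z, hh.alt, mul_zero, zero_smul, add_zero, one_mul, add_sub_cancel_right,
        show X (w - γ w z • z) u = X w u - γ w z • X z u by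
          simp only [hXd, ← map_smul, ← map_sub, smul_sub, sub_eq_add_neg (w : Fin n → F), ← neg_smul, pure_add_right,
            pure_smul_right, mulVec_add, mulVec_smul]
          congr 1
          module,
        LinearMap.neg_apply, sub_eq_add_neg (X w u), ← neg_one_smul F (γ w z • X z u), ← neg_one_smul F (X z u),
        pure_add_left, pure_smul_left, pure_smul_left, pure_smul_left]
      module
    obtain ⟨μ, hμ⟩ := slot_scalar hO hno hf0 hf'f hex hz hzs
      ⟨d, hdM, ⟨hdf, fun u w hw => ⟨γ w z • (-X z) u, by rw [hdw u w hw, pure_smul_left]⟩⟩, hdw⟩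
    refine ⟨-μ, fun u => ?_⟩
    have h1 := hμ u
    rw [LinearMap.neg_apply] at h1
    rw [neg_smul, ← h1, neg_neg]
  obtain ⟨i₀⟩ : Nonempty (Fin k) := ⟨⟨0, by have := hO.hk; omega⟩⟩
  let φ : Wv →ₗ[F] F := (LinearMap.proj i₀).comp
    ((eta hP (-f')).comp ((Matrix.toLin' (Units.val g) - 1).comp (pureL (Pi.single i₀ 1))))
  have hφ : ∀ w, φ w = X w (Pi.single i₀ 1) i₀ := fun w => rfl
  have hXφ : ∀ u w, γ w f = 0 → X w u = φ w • u := fun u w hw => by
    obtain ⟨μ, hμ⟩ := hscal w hw
    rw [hμ u, show φ w = μ by rw [hφ, hμ, Pi.smul_apply, Pi.single_eq_same, smul_eq_mul, mul_one]]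
  obtain ⟨w₀, hw₀⟩ := exists_repr hh (φ.comp (LinearMap.id - (SympTools.form hh f).smulRight f'))
  have hw₀' : ∀ x, γ x w₀ = φ (x - γ x f • f') := hw₀
  have hfw₀ : γ f w₀ = 0 := by
    rw [hw₀', hh.alt, zero_smul, sub_zero, hφ, hXd, hR.1, sub_self, map_zero]; rfl
  obtain ⟨s, hs, hsx⟩ := exists_siegel hh hfw₀
  have hqM := right_mem hO hs
  set c := (kr (1 : GL (Fin k) F) s)⁻¹ * g with hc
  have hcM : c ∈ M := mul_mem (inv_mem hqM) hg
  have hfix : ∀ u w, γ w f = 0 → (Units.val c) *ᵥ pure u w = pure u w := fun u w hw =>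
    mulVec_inj (kr 1 s) (by
      rw [← mulVec_mul_GL, hc, mul_inv_cancel_left, hX u w hw, hXφ u w hw, kr_pure, hsx, Units.val_one, one_mulVec,
        hw, zero_smul, add_zero, show γ w w₀ = φ w by rw [hw₀', hw, zero_smul, sub_zero], pure_add_right,
        pure_smul_right, pure_smul_left])
  have hY : ∀ u, ∃ x, (Units.val c) *ᵥ pure u f' - pure u f' = pure x f := fun u =>
    exists_of_perp hP fun w' hw' => eta_eq_zero hP fun v => by
      have h1 := polar_M hO hcM (pure u f') (pure v w')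
      rw [hfix v w' hw'] at h1
      rw [QuadraticMap.polar_sub_left, h1, sub_self]
  let K : Uv →ₗ[F] Uv := (eta hP (-f')).comp ((Matrix.toLin' (Units.val c) - 1).comp (pureR f'))
  have hKf' : ∀ u, (Units.val c) *ᵥ pure u f' = pure u f' + pure (K u) f := fun u => by
    obtain ⟨x, hx⟩ := hY u
    have e : K u = x := by
      show eta hP (-f') ((Units.val c) *ᵥ pure u f' - pure u f') = x
      rw [hx, eta_pure, hff'', one_smul]
    rw [e, ← hx, add_sub_cancel]
  have hcen : Cen γ f c K := fun u w => by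
    have e : w = (w - γ w f • f') + γ w f • f' := by rw [sub_add_cancel]
    conv_lhs => rw [e, pure_add_right, pure_smul_right, mulVec_add, mulVec_smul, hKf',
      hfix _ _ (by rw [SympTools.sub_left hh, hh.smul, hf'f, mul_one, sub_self])]
    conv_rhs => arg 1; rw [e, pure_add_right, pure_smul_right]
    rw [smul_add]; abel
  obtain ⟨μ, hμ⟩ := InK.scalar hO hno hf0 hf'f ⟨c, hcM, hcen⟩
  obtain ⟨t, -, htx⟩ := exists_tv hh f μ
  have e : c = kr 1 t := gl_ext fun x => ext_pure (fun v w => by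
    rw [hcen v w, kr_pure, Units.val_one, one_mulVec, htx, pure_add_right, pure_smul_right, hμ, pure_smul_left,
      smul_smul, mul_comm μ]) x
  rw [show g = kr 1 s * c by rw [hc, mul_inv_cancel_left], e]
  exact mul_mem (kr_mem_kron _ _) (kr_mem_kron _ _)

end Cfsg.Agent.Forms.Max.TensorRes.SympPlus
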