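import Cfsg.Agent.Lib.Forms.Max.Tensor.SympStab
import Cfsg.Agent.Lib.Forms.Max.Tensor.Maximal
import Cfsg.Agent.Lib.Forms.Max.Factor

/-!
# Stabilisers of tensor products of symplectic spaces are maximal in orthogonal groups
-/

set_option autoImplicit false
set_option linter.unusedSectionVars false

namespace Cfsg.Agent.Forms.Max.TensorRes.SympPlus

open Matrix Cfsg.Agent.Aschbacher Cfsg.Agent.Forms.Max.TensorMax Cfsg.Agent.Forms.Max.SympTools
  Cfsg.Agent.Classical.Orth Cfsg.Agent.Forms.Max.TensorRes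
open Cfsg.Agent.Forms.Reflections (act_apply)
open Cfsg.Agent.Forms.Max.TensorRes.Unitary (pure_add_left pure_smul_left pure_add_right pure_smul_right
  pure_zero_left pure_zero_right pure_ne_zero pureR pureR_apply InR Cen)

variable {F : Type*} [Field F] [Fintype F] {k n : ℕ}
variable {β : (Fin k → F) → (Fin k → F) → F} {γ : (Fin n → F) → (Fin n → F) → F}
  {Q : QuadraticForm F (Fin k × Fin n → F)}

local notation "B" => QuadraticMap.polar Q
local notation "Uv" => (Fin k → F)
local notation "Wv" => (Fin n → F)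

/-- an overgroup without root elements consists of Kronecker products -/
theorem le_kron {M : Subgroup (GL (Fin k × Fin n) F)} (hO : Over β γ Q M)
    (hex : (∃ c : F, c ≠ 0 ∧ c ≠ 1) ∨ 3 ≤ k) (hno : ¬ HasRoot γ Q M) :
    M ≤ Cfsg.Geo.kroneckerSubgroup k n F := by
  have hP := hO.pair
  have hh := hP.right
  have hk := hO.hk
  have hn := hO.hn
  obtain ⟨p, hp⟩ := CharP.exists F
  haveI : Fact p.Prime := ⟨(CharP.char_is_prime_or_zero F p).resolve_right (CharP.char_ne_zero_of_finite F p)⟩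
  let T : Set (GL (Fin n) F) :=
    {t | ∃ (v : Wv) (c : F), v ≠ 0 ∧ c ≠ 0 ∧ ∀ x, (Units.val t) *ᵥ x = x + (c * γ x v) • v}
  have hmov : ∀ t ∈ T, ∃ v, v ≠ 0 ∧ mov (Units.val t) = Submodule.span F {v} := by
    rintro t ⟨v, c, hv, hc, htx⟩
    refine ⟨v, hv, le_antisymm (fun y hy => ?_) ((Submodule.span_singleton_le_iff_mem _ _).2 ?_)⟩
    · obtain ⟨x, rfl⟩ := mem_mov.1 hy
      rw [htx, add_sub_cancel_left]
      exact Submodule.smul_mem _ _ (Submodule.mem_span_singleton_self _)
    · obtain ⟨x, hx⟩ := exists_value_one hh hv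
      exact mem_mov.2 ⟨c⁻¹ • x, by
        rw [htx, add_sub_cancel_left, hh.smul, hx, mul_one, mul_inv_cancel₀ hc, one_smul]⟩
  have hT : Roots p M T := by
    refine ⟨fun t ⟨v, c, _, _, htx⟩ => right_mem hO (Subgroup.subset_closure ⟨v, c, htx⟩), ?_, ?_, ?_⟩
    · rintro t ⟨v, c, -, -, htx⟩
      refine ⟨1, gl_ext fun x => ?_⟩
      have hm : ∀ m : ℕ, (Units.val (t ^ m)) *ᵥ x = x + ((m : F) * (c * γ x v)) • v := fun m => by
        induction m with
        | zero => rw [pow_zero, Units.val_one, one_mulVec, Nat.cast_zero, zero_mul, zero_smul, add_zero]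
        | succ m ih =>
          rw [pow_succ', mulVec_mul_GL, ih, htx, hh.add, hh.smul, hh.alt, mul_zero, add_zero, Nat.cast_succ]
          module
      rw [pow_one, hm, CharP.cast_eq_zero F p, zero_mul, zero_smul, add_zero, Units.val_one, one_mulVec]
    · intro t ht
      obtain ⟨v, hv, hmt⟩ := hmov t ht
      rw [hmt, finrank_span_singleton hv]
    · intro g hg t ht b hgb
      obtain ⟨v, hv, hmt⟩ := hmov t ht
      have e1 : img g (UT k (mov (Units.val t))) = UT k (mov (Units.val b)) := by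
        rw [← mov_one_kron, ← mov_one_kron]
        have h1 := mov_conj g (kr 1 t)
        rw [hgb, kr_coe, kr_coe, Units.val_one] at h1
        exact h1.symm
      have h1 := congrArg (fun S : Submodule F (Fin k × Fin n → F) => Module.finrank F S) e1
      rw [finrank_img, finrank_UT, finrank_UT, hmt, finrank_span_singleton hv, mul_one] at h1
      have h2 : Module.finrank F (mov (Units.val b)) = 1 :=
        Nat.eq_of_mul_eq_mul_left (show 0 < k by omega) (by rw [← h1, mul_one])
      obtain ⟨v', hv'S, hv'0⟩ := Submodule.exists_mem_ne_zero_of_ne_bot (p := mov (Units.val b)) fun e => by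
        rw [e, finrank_bot] at h2; omega
      obtain ⟨m, hm, hmv⟩ := exists_move hh hv'0 hv
      have hall : ∀ y ∈ mov (Units.val b), ∃ s : F, s • v' = y := fun y hy => by
        obtain ⟨s, hs⟩ := exists_smul_eq_of_finrank_eq_one (V := mov (Units.val b)) h2
          (show (⟨v', hv'S⟩ : mov (Units.val b)) ≠ 0 from fun e => hv'0 (congrArg Subtype.val e)) ⟨y, hy⟩
        exact ⟨s, congrArg Subtype.val hs⟩
      have hst := kron_of_stab hO hno hex hv (mul_mem (right_mem hO hm) hg) fun u => by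
        have h3 : (Units.val g) *ᵥ pure u v ∈ UT k (mov (Units.val b)) := by
          rw [← e1]
          exact mem_img.2 ⟨pure u v, pure_mem_UT u (by rw [hmt]; exact Submodule.mem_span_singleton_self v), rfl⟩
        obtain ⟨u', hu'⟩ := exists_pure_of_row (x := (Units.val g) *ᵥ pure u v) (t := v') fun i => by
          obtain ⟨s, hs⟩ := hall _ (mem_UT.1 h3 i)
          exact hs ▸ Submodule.smul_mem _ _ (Submodule.mem_span_singleton_self v')
        exact ⟨u', by rw [mulVec_mul_GL, hu', kr_pure, hmv, Units.val_one, one_mulVec]⟩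
      have := (Cfsg.Geo.kroneckerSubgroup k n F).mul_mem
        ((Cfsg.Geo.kroneckerSubgroup k n F).inv_mem (kr_mem_kron (1 : GL (Fin k) F) m)) hst
      rwa [inv_mul_cancel_left] at this
  intro g hg
  refine kron_of_fixed hk hO.hkn hT hg (fun w => ?_) fun u w => ?_
  · obtain ⟨v, hv, hv0⟩ := Submodule.exists_mem_ne_zero_of_ne_bot (p := LinearMap.ker (SympTools.form hh w)) fun e => by
      have h1 := LinearMap.finrank_range_add_finrank_ker (SympTools.form hh w)
      have h2 := Submodule.finrank_le (LinearMap.range (SympTools.form hh w))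
      rw [Module.finrank_self] at h2
      rw [e, finrank_bot, Module.finrank_fintype_fun_eq_card, Fintype.card_fin] at h1
      omega
    obtain ⟨t, -, htx⟩ := exists_tv hh v 1
    exact ⟨t, ⟨v, 1, hv0, one_ne_zero, htx⟩, by
      rw [htx, comm_zero hh hv, mul_zero, zero_smul, add_zero]⟩
  · let L : Wv →ₗ[F] (Fin k → F) :=
      LinearMap.pi fun i => SympTools.form hh (TensorMax.row ((Units.val g) *ᵥ pure u w) i)
    obtain ⟨v, hv, hv0⟩ := Submodule.exists_mem_ne_zero_of_ne_bot (p := LinearMap.ker L) fun e => by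
      have h1 := LinearMap.finrank_range_of_inj (LinearMap.ker_eq_bot.1 e)
      have h2 := Submodule.finrank_le (LinearMap.range L)
      rw [h1, Module.finrank_fintype_fun_eq_card, Module.finrank_fintype_fun_eq_card, Fintype.card_fin,
        Fintype.card_fin] at h2
      have := hO.hkn
      omega
    have hv' : ∀ i, γ v (TensorMax.row ((Units.val g) *ᵥ pure u w) i) = 0 := congrFun (LinearMap.mem_ker.1 hv)
    obtain ⟨t, -, htx⟩ := exists_tv hh v 1
    exact ⟨t, ⟨v, 1, hv0, one_ne_zero, htx⟩, fun i => by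
      rw [htx, comm_zero hh (hv' i), mul_zero, zero_smul, add_zero]⟩

/-- `Ω` contains an element that is not a Kronecker product -/
theorem not_le_kron (hP : Pair β γ Q) (hk : 2 ≤ k) (hkn : k < n) (hn : 5 ≤ n) :
    ¬ Cfsg.Geo.omegaGL ⇑Q ≤ Cfsg.Geo.kroneckerSubgroup k n F := fun hle => by
  have hh := hP.right
  obtain ⟨u, hu⟩ : ∃ u : Uv, u ≠ 0 :=
    ⟨Pi.single ⟨0, by omega⟩ 1, fun e => by simpa using congrFun e ⟨0, by omega⟩⟩
  obtain ⟨f, hf⟩ : ∃ f : Wv, f ≠ 0 :=
    ⟨Pi.single ⟨0, by omega⟩ 1, fun e => by simpa using congrFun e ⟨0, by omega⟩⟩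
  obtain ⟨w, hwf, hw⟩ : ∃ w, γ w f = 0 ∧ w ∉ Submodule.span F {f} := by
    by_contra hc
    push Not at hc
    have hle' : LinearMap.ker (SympTools.form hh f) ≤ Submodule.span F {f} := fun z hz => hc z hz
    have h1 := LinearMap.finrank_range_add_finrank_ker (SympTools.form hh f)
    have h2 := Submodule.finrank_le (LinearMap.range (SympTools.form hh f))
    have h3 := Submodule.finrank_mono hle'
    rw [Module.finrank_self] at h2
    rw [finrank_span_singleton hf] at h3
    rw [Module.finrank_fintype_fun_eq_card, Fintype.card_fin] at h1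
    omega
  obtain ⟨v, hv⟩ := exists_value_one hP.left hu
  obtain ⟨z, hzf, hzw⟩ := exists_perp_value hh hw
  obtain ⟨z', hz'⟩ := exists_value_one hh hf
  have hcard : 9 ≤ Fintype.card (Fin k × Fin n) := by
    rw [Fintype.card_prod, Fintype.card_fin, Fintype.card_fin]; nlinarith
  have hperp : B (pure u f) (pure u w) = 0 := by rw [hP.mul, hP.left.alt, zero_mul]
  obtain ⟨g, hg, hgx⟩ := Orth.exists_eichGL hP.nd hcard (hP.zero u f) hperp
  have hd : ∀ a c, (Units.val g) *ᵥ pure a c - pure a c =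
      (β a u * γ c f) • pure u w - (β a u * γ c w) • pure u f := fun a c => by
    rw [hgx, eichLin_apply, hP.mul, hP.mul, hP.zero, zero_mul, zero_smul, sub_zero]; abel
  classical
  have hmov : Module.finrank F (mov (Units.val g)) ≤ 2 := by
    refine (Submodule.finrank_mono (t := Submodule.span F {pure u f, pure u w}) ?_).trans ?_
    · intro y hy
      obtain ⟨x, rfl⟩ := mem_mov.1 hy
      rw [hgx, eichLin_apply, hP.zero, zero_mul, zero_smul, sub_zero]
      refine Submodule.mem_span_pair.2 ⟨-B x (pure u w), B x (pure u f), ?_⟩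
      module
    · refine (finrank_span_le_card (R := F) ({pure u f, pure u w} : Set (Fin k × Fin n → F))).trans ?_
      rw [Set.toFinset_insert, Set.toFinset_singleton]
      exact Finset.card_le_two
  obtain ⟨a, b, hab⟩ := exists_kr (hle hg)
  obtain ⟨b', hb'⟩ := exists_of_small (by omega) (a := a) (b := b) (by rw [← hab]; omega)
  have h1 : mov (Units.val g) = UT k (mov (Units.val b')) := by
    rw [hab, hb', kr_coe, Units.val_one, mov_one_kron]
  obtain ⟨i, hi⟩ := Function.ne_iff.1 hu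
  have hin : ∀ c, pure u c ∈ mov (Units.val g) → c ∈ mov (Units.val b') := fun c hc => by
    rw [h1, mem_UT] at hc
    have h2 := hc i
    rw [row_pure] at h2
    exact ((mov (Units.val b')).smul_mem_iff hi).1 h2
  have hf' : f ∈ mov (Units.val b') := hin f (mem_mov.2 ⟨-pure v z, by
    rw [mulVec_neg, neg_sub_neg, ← neg_sub, hd, hv, hzf, hzw]; module⟩)
  have hw' : w ∈ mov (Units.val b') := hin w (mem_mov.2 ⟨pure v (z' + γ z' w • -z), by
    rw [hd, hh.add, hh.add, hh.smul, hh.smul, ← neg_one_smul F z, hh.smul, hh.smul, hv, hz', hzf, hzw]; module⟩)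
  have h2 : 2 ≤ Module.finrank F (mov (Units.val b')) := by
    by_contra h
    have h3 : Module.finrank F (mov (Units.val b')) = 1 := by
      have : Module.finrank F (mov (Units.val b')) ≠ 0 := fun e => hf (by
        rw [Submodule.finrank_eq_zero.1 e] at hf'
        exact (Submodule.mem_bot F).1 hf')
      omega
    obtain ⟨s, hs⟩ := exists_smul_eq_of_finrank_eq_one (V := mov (Units.val b')) h3
      (show (⟨f, hf'⟩ : mov (Units.val b')) ≠ 0 from fun e => hf (congrArg Subtype.val e)) ⟨w, hw'⟩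
    exact hw (Submodule.mem_span_singleton.2 ⟨s, congrArg Subtype.val hs⟩)
  rw [h1, finrank_UT] at hmov
  nlinarith

/-- stabilisers of tensor products of symplectic spaces in `Ω` -/
theorem symplectic_tensor_maximal_of_five {F : Type*} [Field F] [Fintype F] {N k m : ℕ} (hN : 9 ≤ N) (hm : 5 ≤ m)
    (Qf : (Fin N → F) → F) (hQ : Cfsg.Geo.IsNondegenerateQuadraticForm Qf) (hkm : k < m)
    (hex : ¬ (Fintype.card F = 2 ∧ k = 2)) (e : Fin N ≃ Fin k × Fin m) (P : GL (Fin N) F)
    (f₁ : (Fin k → F) → (Fin k → F) → F) (f₂ : (Fin m → F) → (Fin m → F) → F)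
    (hf₁ : Cfsg.Geo.IsSymplecticForm f₁) (hf₂ : Cfsg.Geo.IsSymplecticForm f₂)
    (hT : Cfsg.Geo.IsTensorFormStructure id (QuadraticMap.polar Qf) f₁ f₂ e P)
    (hpure : ∀ (x₁ : Fin k → F) (x₂ : Fin m → F), Qf ((Units.val P) *ᵥ ((fun a : Fin k × Fin m => x₁ a.1 * x₂ a.2) ∘ e)) = 0) :
    Cfsg.Geo.IsMaximalIn (Cfsg.Geo.omegaGL Qf)
      (Cfsg.Geo.tensorProductSubgroup k m e P ⊓ Cfsg.Geo.omegaGL Qf) := by
  obtain ⟨R, rfl, hR⟩ := Orth.exists_form hQ
  have hNkm : N = k * m := by simpa using Fintype.card_congr e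
  have mkSymp : ∀ {r : ℕ} {f : (Fin r → F) → (Fin r → F) → F}, Cfsg.Geo.IsSymplecticForm f → Symp f :=
    fun {r f} hf => ⟨hf.bilinear.add_left, hf.bilinear.smul_left, hf.alternating, hf.skew, fun v hv => by
      by_contra h0
      obtain ⟨y, hy⟩ := (hf.nondegenerate v h0).2
      exact hy (hv y)⟩
  have hβ₁ := mkSymp hf₁
  have hγ := mkSymp hf₂
  have hk : 2 ≤ k := by
    rcases Nat.lt_or_ge k 2 with h | h
    · exfalso
      interval_cases k
      · rw [zero_mul] at hNkm
        omega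
      · obtain ⟨x, hx⟩ := exists_value_one hβ₁ (v := Pi.single 0 1) fun e0 => by simpa using congrFun e0 0
        have ex : x = x 0 • Pi.single 0 1 := funext fun i => by
          rw [Fin.fin_one_eq_zero i]; simp
        rw [ex, hβ₁.smul, hβ₁.alt, mul_zero] at hx
        exact zero_ne_one hx
    · exact h
  obtain ⟨κ, hκ0, hval⟩ := hT
  let L : (Fin k × Fin m → F) →ₗ[F] (Fin N → F) :=
    (Matrix.toLin' (Units.val P)).comp (LinearMap.funLeft F F e)
  have hL : ∀ x, L x = (Units.val P) *ᵥ (x ∘ e) := fun x => rfl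
  let Q' : QuadraticForm F (Fin k × Fin m → F) := R.comp L
  have hQ' : ∀ x, Q' x = R ((Units.val P) *ᵥ (x ∘ e)) := fun x => rfl
  have hcoord : ∀ z, ∃ x, z = (Units.val P) *ᵥ (x ∘ e) := fun z =>
    ⟨((Units.val P⁻¹) *ᵥ z) ∘ e.symm, by
      rw [Function.comp_assoc, Equiv.symm_comp_self, Function.comp_id, mulVec_inv_cancel]⟩
  have hinj : ∀ x, (Units.val P) *ᵥ (x ∘ e) = 0 → x = 0 := fun x hx => by
    funext a
    have h2 := congrFun (mulVec_inj P (hx.trans (mulVec_zero _).symm)) (e.symm a)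
    simpa using h2
  have hpol : ∀ x y, QuadraticMap.polar Q' x y = QuadraticMap.polar R (L x) (L y) := fun x y => by
    show R (L (x + y)) - R (L x) - R (L y) = _
    rw [map_add]; rfl
  have hgram : ∀ {r : ℕ} {f : (Fin r → F) → (Fin r → F) → F}, Symp f →
      ∀ x y, Cfsg.Geo.formOfGram id (Cfsg.Geo.gramMatrix f) x y = f x y := fun {r f} hf x y =>
    Factor.formOfGram_gram (RingHom.id F) hf.add hf.smul (SympTools.add_right hf)
      (fun c v w => SympTools.smul_right hf c v w) x y
  have hβ : Symp (fun u v => κ * f₁ u v) := by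
    refine ⟨fun x y v => ?_, fun c x v => ?_, fun v => ?_, fun v w => ?_, fun v hv => hβ₁.nd v fun x => ?_⟩
    · show κ * f₁ (x + y) v = _; rw [hβ₁.add, mul_add]
    · show κ * f₁ (c • x) v = c * (κ * f₁ x v); rw [hβ₁.smul]; ring
    · show κ * f₁ v v = 0; rw [hβ₁.alt, mul_zero]
    · show κ * f₁ v w = -(κ * f₁ w v); rw [hβ₁.skew v w, mul_neg]
    · exact (mul_eq_zero.1 (hv x)).resolve_left hκ0
  have hnd : (QuadraticMap.polarBilin Q').Nondegenerate := by
    have key : ∀ x, (∀ y, QuadraticMap.polar Q' x y = 0) → x = 0 := fun x hx => hinj x <| hR.1 _ fun z => by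
      obtain ⟨y, rfl⟩ := hcoord z
      rw [QuadraticMap.polarBilin_apply_apply]
      exact (hpol x y).symm.trans (hx y)
    exact ⟨fun x hx => key x hx, fun y hy => key y fun x => by
      rw [QuadraticMap.polar_comm]; exact hy x⟩
  have hP : Pair (fun u v => κ * f₁ u v) f₂ Q' := by
    refine ⟨hβ, hγ, hnd, fun u w => hpure u w, fun u w u' w' => ?_⟩
    rw [hpol, hL, hL, hval]
    have h1 := Factor.formOfGram_pure (RingHom.id F) (Cfsg.Geo.gramMatrix f₁) (Cfsg.Geo.gramMatrix f₂) u u' w w'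
    change Cfsg.Geo.formOfGram id _ (pure u w) (pure u' w') =
      Cfsg.Geo.formOfGram id _ u u' * Cfsg.Geo.formOfGram id _ w w' at h1
    rw [h1, hgram hβ₁, hgram hγ, mul_assoc]
  have hex' : (∃ c : F, c ≠ 0 ∧ c ≠ 1) ∨ 3 ≤ k := by
    by_cases h : Fintype.card F = 2
    · exact Or.inr (by
        have : k ≠ 2 := fun e => hex ⟨h, e⟩
        omega)
    · exact Or.inl (exists_scalar_of_card h)
  let φ : GL (Fin k × Fin m) F ≃* GL (Fin N) F := (Cfsg.Geo.glReindex e.symm).trans (MulAut.conj P)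
  have hφ : ∀ (g : GL (Fin k × Fin m) F) x,
      (Units.val (φ g)) *ᵥ ((Units.val P) *ᵥ (x ∘ e)) = (Units.val P) *ᵥ (((Units.val g) *ᵥ x) ∘ e) := by
    intro g x
    have h1 : glCoord e P (φ g) = g := by
      apply φ.injective
      exact conj_glReindex_glCoord e P (φ g)
    conv_rhs => rw [← h1]
    exact (glCoord_mulVec e P (φ g) x).symm
  have hiso : ∀ {ι : Type} [Fintype ι] [DecidableEq ι] (S : (ι → F) → F) (g : GL ι F),
      g ∈ Cfsg.isometryGroup F S ↔ ∀ x, S ((Units.val g) *ᵥ x) = S x :=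
    fun S g => ⟨fun h x => h x x, fun h x _ => h x⟩
  have hmapI : (Cfsg.isometryGroup F ⇑Q').map φ.toMonoidHom = Cfsg.isometryGroup F ⇑R := by
    ext g
    constructor
    · rintro ⟨x, hx, rfl⟩
      refine (hiso _ _).2 fun z => ?_
      obtain ⟨a, rfl⟩ := hcoord z
      show R ((Units.val (φ x)) *ᵥ _) = _
      rw [hφ x a]
      exact (hiso _ _).1 hx a
    · intro hg
      refine ⟨φ.symm g, (hiso _ _).2 fun a => ?_, φ.apply_symm_apply g⟩
      rw [hQ', hQ', ← hφ (φ.symm g) a, φ.apply_symm_apply]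
      exact (hiso _ _).1 hg _
  have hΩ : ∀ {ι : Type} [Fintype ι] [DecidableEq ι] (S : (ι → F) → F),
      Cfsg.Geo.omegaGL S = ⁅Cfsg.isometryGroup F S, Cfsg.isometryGroup F S⁆ :=
    fun S => Subgroup.map_subtype_commutator _
  have hmap : (Cfsg.Geo.omegaGL ⇑Q').map φ.toMonoidHom = Cfsg.Geo.omegaGL ⇑R := by
    rw [hΩ, hΩ, Subgroup.map_commutator, hmapI]
  have hcore : Cfsg.Geo.IsMaximalIn (Cfsg.Geo.omegaGL ⇑Q')
      (Cfsg.Geo.kroneckerSubgroup k m F ⊓ Cfsg.Geo.omegaGL ⇑Q') := by
    refine isMaximalIn_of inf_le_right (fun h => not_le_kron hP hk hkm hm fun g hg => (h hg).1)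
      fun M hM hMK g hgM hg => ?_
    have hO : Over (fun u v => κ * f₁ u v) f₂ Q' M := ⟨hP, hMK, hM, hk, hkm, hm⟩
    have hroot : HasRoot f₂ Q' M := by
      by_contra hno
      exact hg ⟨le_kron hO hex' hno hgM, hMK hgM⟩
    have hle := Orth.omega_le_of_centres (Q := Q') hnd (by have := card_large hO; omega) (M := M.comap (Cfsg.isometryGroup F ⇑Q').subtype)
      fun u _ hu => ⟨hu, fun w hu' huw => by
        obtain ⟨g', hg', hgx⟩ := eich_all hO hroot hu' huw
        have e1 : ((eich u w hu' huw : Cfsg.isometryGroup F ⇑Q') : GL (Fin k × Fin m) F) = g' := gl_ext fun x => by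
          have h1 := act_eich hu' huw x
          rw [act_apply] at h1
          rw [hgx, eichLin_apply]
          exact h1
        show ((eich u w hu' huw : Cfsg.isometryGroup F ⇑Q') : GL (Fin k × Fin m) F) ∈ M
        exact e1 ▸ hg'⟩
    exact Subgroup.map_le_iff_le_comap.2 hle
  have h := SubfieldLinear.isMaximalIn_map φ hcore
  rw [Subgroup.map_inf _ _ _ φ.injective, hmap] at h
  convert h using 2
  rw [Cfsg.Geo.tensorProductSubgroup, Subgroup.map_map]
  rfl

/-- the same from dimension thirteen -/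
theorem symplectic_tensor_maximal {F : Type*} [Field F] [Fintype F] {N k m : ℕ} (hN : 13 ≤ N)
    (Qf : (Fin N → F) → F) (hQ : Cfsg.Geo.IsNondegenerateQuadraticForm Qf) (hkm : k < m)
    (hex : ¬ (Fintype.card F = 2 ∧ k = 2)) (e : Fin N ≃ Fin k × Fin m) (P : GL (Fin N) F)
    (f₁ : (Fin k → F) → (Fin k → F) → F) (f₂ : (Fin m → F) → (Fin m → F) → F)
    (hf₁ : Cfsg.Geo.IsSymplecticForm f₁) (hf₂ : Cfsg.Geo.IsSymplecticForm f₂)
    (hT : Cfsg.Geo.IsTensorFormStructure id (QuadraticMap.polar Qf) f₁ f₂ e P)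
    (hpure : ∀ (x₁ : Fin k → F) (x₂ : Fin m → F), Qf ((Units.val P) *ᵥ ((fun a : Fin k × Fin m => x₁ a.1 * x₂ a.2) ∘ e)) = 0) :
    Cfsg.Geo.IsMaximalIn (Cfsg.Geo.omegaGL Qf)
      (Cfsg.Geo.tensorProductSubgroup k m e P ⊓ Cfsg.Geo.omegaGL Qf) := by
  have hNkm : N = k * m := by simpa using Fintype.card_congr e
  refine symplectic_tensor_maximal_of_five (by omega) ?_ Qf hQ hkm hex e P f₁ f₂ hf₁ hf₂ hT hpure
  by_contra h
  have : k * m ≤ 3 * 4 := Nat.mul_le_mul (by omega) (by omega)
  omega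

end Cfsg.Agent.Forms.Max.TensorRes.SympPlus
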