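import Cfsg.Agent.Lib.Forms.Max.Tensor.UnitaryPairs

/-!
# Overgroups of a unitary tensor stabiliser inside the radical of the stabiliser of `U ⊗ f`

Either the intersection consists of Kronecker products or it contains a transvection with pure centre.
-/

set_option autoImplicit false
set_option linter.unusedSectionVars false

namespace Cfsg.Agent.Forms.Max.TensorRes.Unitary

open Matrix Cfsg.Agent.Aschbacher Cfsg.Agent.Forms.Max.TensorMax Cfsg.Agent.Forms.Max.UnitaryInLinear
  Cfsg.Agent.Forms.Max.HermTools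

variable {F : Type*} [Field F] [Fintype F] {k n : ℕ}
variable {σ : F →+* F} {β : (Fin k → F) → (Fin k → F) → F} {γ : (Fin n → F) → (Fin n → F) → F}
  {Φ : (Fin k × Fin n → F) → (Fin k × Fin n → F) → F}

local notation "Uv" => (Fin k → F)
local notation "Wv" => (Fin n → F)

/-- a central element of the radical, given by an endomorphism of the first factor -/
def Cen (γ : (Fin n → F) → (Fin n → F) → F) (f : Fin n → F) (c : GL (Fin k × Fin n) F)
    (K : (Fin k → F) →ₗ[F] (Fin k → F)) : Prop :=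
  ∀ u w, (Units.val c) *ᵥ pure u w = pure u w + γ w f • pure (K u) f

/-- the endomorphisms occurring in `M` -/
def InK (γ : (Fin n → F) → (Fin n → F) → F) (M : Subgroup (GL (Fin k × Fin n) F)) (f : Fin n → F)
    (K : (Fin k → F) →ₗ[F] (Fin k → F)) : Prop :=
  ∃ c ∈ M, Cen γ f c K

/-- membership in the radical of the stabiliser of `U ⊗ f` -/
def InR (γ : (Fin n → F) → (Fin n → F) → F) (f : Fin n → F) (g : GL (Fin k × Fin n) F) : Prop :=
  (∀ u, (Units.val g) *ᵥ pure u f = pure u f) ∧
    ∀ u w, γ w f = 0 → ∃ x, (Units.val g) *ᵥ pure u w = pure u w + pure x f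

/-- the hypotheses that are symmetric in the two factors -/
structure Core (σ : F →+* F) (β : (Fin k → F) → (Fin k → F) → F) (γ : (Fin n → F) → (Fin n → F) → F)
    (Φ : (Fin k × Fin n → F) → (Fin k × Fin n → F) → F) (M : Subgroup (GL (Fin k × Fin n) F)) : Prop where
  pair : Pair σ β γ Φ
  le : M ≤ isoSL Φ
  ge : Cfsg.Geo.kroneckerSubgroup k n F ⊓ isoSL Φ ≤ M
  hk : 2 ≤ k

/-- the standing hypotheses -/
structure Over (σ : F →+* F) (β : (Fin k → F) → (Fin k → F) → F) (γ : (Fin n → F) → (Fin n → F) → F)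
    (Φ : (Fin k × Fin n → F) → (Fin k × Fin n → F) → F) (M : Subgroup (GL (Fin k × Fin n) F)) : Prop
    extends Core σ β γ Φ M where
  hkn : k < n
  hn : 3 ≤ n

variable {M : Subgroup (GL (Fin k × Fin n) F)} (hO : Core σ β γ Φ M)
include hO

theorem kr_mem_M {a : GL (Fin k) F} {b : GL (Fin n) F} (ha : a ∈ isoSL β) (hb : b ∈ isoSL γ) :
    kr a b ∈ M := hO.ge ⟨kr_mem_kron a b, kr_mem hO.pair ha hb⟩

theorem iso_M {g : GL (Fin k × Fin n) F} (hg : g ∈ M) (x y : Fin k × Fin n → F) :
    Φ ((Units.val g) *ᵥ x) ((Units.val g) *ᵥ y) = Φ x y := (hO.le hg).1 x y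

section Frame

variable {f f' : Fin n → F} (hff : γ f f = 0) (hff' : γ f f' = 1) (hf'f : γ f' f = 1)
include hff hff' hf'f

theorem InK.add {K L : Uv →ₗ[F] Uv} (hK : InK γ M f K) (hL : InK γ M f L) : InK γ M f (K + L) := by
  obtain ⟨c, hc, hcK⟩ := hK
  obtain ⟨d, hd, hdL⟩ := hL
  refine ⟨d * c, mul_mem hd hc, fun u w => ?_⟩
  rw [mulVec_mul_GL, hcK, mulVec_add, mulVec_smul, hdL, hdL, hff, zero_smul, add_zero, LinearMap.add_apply,
    pure_add_left, smul_add]
  abel

theorem InK.neg {K : Uv →ₗ[F] Uv} (hK : InK γ M f K) : InK γ M f (-K) := by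
  obtain ⟨c, hc, hcK⟩ := hK
  refine ⟨c⁻¹, inv_mem hc, fun u w => mulVec_inj c ?_⟩
  have e : pure ((-K) u) f = -pure (K u) f := by
    rw [LinearMap.neg_apply, ← neg_one_smul F (K u), pure_smul_left, neg_one_smul]
  rw [mulVec_inv_cancel, e, mulVec_add, mulVec_smul, mulVec_neg, hcK, hcK, hff, zero_smul, add_zero, smul_neg,
    add_neg_cancel_right]

theorem InK.skew {K : Uv →ₗ[F] Uv} (hK : InK γ M f K) (u v : Uv) : β (K u) v + β u (K v) = 0 := by
  obtain ⟨c, hc, hcK⟩ := hK
  have h1 := iso_M hO hc (pure u (f' + (0 : F) • f)) (pure v f')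
  rw [zero_smul, add_zero, hcK, hcK, hf'f, one_smul, one_smul] at h1
  have hP := hO.pair
  simp only [hP.whole.add, add_right hP.whole, hP.mul, hff, hff', hf'f] at h1
  linear_combination h1

theorem InK.conj {K K' : Uv →ₗ[F] Uv} (hK : InK γ M f K) {a : GL (Fin k) F} (ha : a ∈ isoSL β)
    (h : ∀ u, K' ((Units.val a) *ᵥ u) = (Units.val a) *ᵥ K u) : InK γ M f K' := by
  obtain ⟨c, hc, hcK⟩ := hK
  have hm := kr_mem_M hO ha (one_mem (isoSL γ))
  refine ⟨kr a 1 * c * (kr a 1)⁻¹, mul_mem (mul_mem hm hc) (inv_mem hm), fun u w => ?_⟩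
  rw [kr_inv, inv_one, mulVec_mul_GL, mulVec_mul_GL, kr_pure, hcK, mulVec_add, mulVec_smul, kr_pure, kr_pure,
    ← h, mulVec_inv_cancel]
  simp only [Units.val_one, one_mulVec]

/-- the torus element moving `f` to a multiple -/
theorem exists_torus {τ a : F} (hτ0 : τ ≠ 0) (hτ : σ τ = -τ) (ha0 : a ≠ 0) (ha : σ a = a) :
    ∃ b ∈ isoSL γ, (Units.val b) *ᵥ f = (a * τ ^ 2)⁻¹ • f := by
  have hh := hO.pair.right
  obtain ⟨z, hzz, hfz, hzf⟩ := exists_partner hh (e := f) (fun e => by
    rw [e, zero_left hh] at hff'; exact zero_ne_one hff') hff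
  -- `n c` interchanges the two lines
  have hw : ∀ (x y : Wv) (c : F), γ x x = 0 → γ y y = 0 → γ x y = 1 → γ y x = 1 → c ≠ 0 → σ c = c →
      ∃ b ∈ isoSL γ, (Units.val b) *ᵥ x = (-(c * τ)⁻¹) • y := by
    intro x y c hx hy hxy hyx hc0 hc
    obtain ⟨X, hX, hXx⟩ := exists_tv hh hx (c := c * τ)
      (trace_zero_of hh (by rw [map_mul, hc, hτ, mul_neg]))
    obtain ⟨Y, hY, hYx⟩ := exists_tv hh hy (c := -(c * τ)⁻¹)
      (trace_zero_of hh (by rw [map_neg, map_inv₀, map_mul, hc, hτ, mul_neg, inv_neg]))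
    refine ⟨X * (Y * X), mul_mem hX (mul_mem hY hX), ?_⟩
    rw [mulVec_mul_GL, mulVec_mul_GL, hXx x, hx, mul_zero, zero_smul, add_zero, hYx x, hxy, mul_one, hXx,
      hh.add, hh.smul, hx, hyx, zero_add, mul_one]
    have e : c * τ * -(c * τ)⁻¹ = -1 := by rw [mul_neg, mul_inv_cancel₀ (mul_ne_zero hc0 hτ0)]
    rw [e, neg_one_smul]; abel
  obtain ⟨b₁, hb₁, e₁⟩ := hw f z a hff hzz hfz hzf ha0 ha
  obtain ⟨b₂, hb₂, e₂⟩ := hw z f 1 hzz hff hzf hfz one_ne_zero (map_one σ)
  refine ⟨b₂ * b₁, mul_mem hb₂ hb₁, ?_⟩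
  rw [mulVec_mul_GL, e₁, mulVec_smul, e₂, smul_smul]
  congr 1
  field_simp

theorem InK.smul {K : Uv →ₗ[F] Uv} (hK : InK γ M f K) {c : F} (hc : σ c = c) : InK γ M f (c • K) := by
  have hh := hO.pair.right
  obtain ⟨τ, hτ0, hτ⟩ := exists_skew hh
  have hsq : ∀ a : F, σ a = a → InK γ M f ((a * a) • K) := by
    intro a ha
    rcases eq_or_ne a 0 with rfl | ha0
    · have h0 := InK.add hO hff hff' hf'f hK (InK.neg hO hff hff' hf'f hK)
      rwa [add_neg_cancel, ← zero_smul F K, ← mul_zero (0 : F)] at h0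
    obtain ⟨b, hb, hbf⟩ := exists_torus hO hff hff' hf'f hτ0 hτ (a := (a * τ ^ 2)⁻¹)
      (inv_ne_zero (mul_ne_zero ha0 (pow_ne_zero 2 hτ0)))
      (by rw [map_inv₀, map_mul, map_pow, ha, hτ, neg_sq])
    have e : ((a * τ ^ 2)⁻¹ * τ ^ 2)⁻¹ = a := by field_simp
    rw [e] at hbf
    obtain ⟨d, hd, hdK⟩ := hK
    have hm := kr_mem_M hO (one_mem (isoSL β)) hb
    refine ⟨kr 1 b * d * (kr 1 b)⁻¹, mul_mem (mul_mem hm hd) (inv_mem hm), fun u w => ?_⟩
    rw [kr_inv, inv_one, mulVec_mul_GL, mulVec_mul_GL, kr_pure, hdK, mulVec_add, mulVec_smul, kr_pure, kr_pure,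
      mulVec_inv_cancel, Units.val_one, one_mulVec, one_mulVec, hbf, pure_smul_right, smul_smul,
      LinearMap.smul_apply, pure_smul_left, smul_smul]
    simp only [Units.val_one, one_mulVec]
    congr 2
    have e2 : γ ((Units.val b⁻¹) *ᵥ w) f = γ w ((Units.val b) *ᵥ f) := by
      rw [← hb.1 ((Units.val b⁻¹) *ᵥ w) f, mulVec_inv_cancel]
    rw [e2, hbf, smul_right hh, ha]
    ring
  -- squares span the fixed field
  by_cases h2 : (2 : F) = 0
  · haveI : CharP F 2 := CharTwo.of_one_ne_zero_of_two_eq_zero one_ne_zero h2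
    obtain ⟨t, ht⟩ := FiniteField.isSquare_of_char_two (ringChar.eq F 2) c
    have hts : σ t = t := by
      have e : (σ t - t) * (σ t - t) = 0 := by
        have : σ t * σ t = t * t := by rw [← map_mul, ← ht, hc]
        linear_combination this + (t * t - t * σ t) * h2
      exact sub_eq_zero.1 (mul_self_eq_zero.1 e)
    rw [ht]; exact hsq t hts
  · have h22 : σ 2 = (2 : F) := by rw [map_ofNat]
    have h := InK.add hO hff hff' hf'f (hsq ((c + 1) / 2) (by rw [map_div₀, map_add, map_one, hc, h22]))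
      (InK.neg hO hff hff' hf'f (hsq ((c - 1) / 2) (by rw [map_div₀, map_sub, map_one, hc, h22])))
    rw [← sub_eq_add_neg] at h
    erw [← sub_smul] at h
    convert h using 2
    field_simp
    ring

/-- the elements of the radical are Kronecker products or give a non-scalar central element -/
theorem kron_or_central (hf0 : f ≠ 0) {g : GL (Fin k × Fin n) F} (hg : g ∈ M) (hR : InR γ f g) :
    g ∈ Cfsg.Geo.kroneckerSubgroup k n F ∨
      ∃ K : Uv →ₗ[F] Uv, InK γ M f K ∧ ∀ μ : F, ∃ u, K u ≠ μ • u := by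
  have hP := hO.pair
  have hh := hP.right
  set L : (Fin k × Fin n → F) →ₗ[F] (Fin k × Fin n → F) := Matrix.toLin' (Units.val g) - 1 with hL
  have hLp : ∀ x, (Units.val g) *ᵥ x = x + L x := fun x => by
    rw [hL, LinearMap.sub_apply, Matrix.toLin'_apply, Module.End.one_apply, add_sub_cancel]
  let X : Wv → Uv →ₗ[F] Uv := fun w => (eta hP f').comp (L.comp (pureR w))
  let N : Wv → Uv →ₗ[F] Uv := fun w => (eta hP w).comp (L.comp (pureR f'))
  have hX : ∀ u w, γ w f = 0 → (Units.val g) *ᵥ pure u w = pure u w + pure (X w u) f := by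
    intro u w hw
    obtain ⟨x, hx⟩ := hR.2 u w hw
    have e : X w u = x := by
      show eta hP f' (L (pure u w)) = x
      rw [show L (pure u w) = pure x f from add_left_cancel ((hLp _).symm.trans hx), eta_pure, hff', one_smul]
    rw [e, hx]
  have hY : ∀ u, eta hP f (L (pure u f')) = 0 := fun u => eta_eq_zero hP fun v => by
    have h1 := iso_M hO hg (pure u f') (pure v f)
    rw [hR.1, hLp, hP.whole.add] at h1
    linear_combination h1
  -- the commutator with a Siegel element of the second factor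
  have hcen : ∀ w₀, γ w₀ f = 0 → InK γ M f (X w₀ + N w₀) := by
    intro w₀ hw₀
    obtain ⟨b₀, hb₀⟩ := exists_trace_eq hh (self_fixed hh w₀)
    obtain ⟨s, hs, hsx⟩ := exists_siegel hh hff (comm_zero hh hw₀) hb₀
    have hq := kr_mem_M hO (one_mem (isoSL β)) hs
    refine ⟨g * kr 1 s * (kr 1 s * g)⁻¹, mul_mem (mul_mem hg hq) (inv_mem (mul_mem hq hg)), ?_⟩
    set q := kr (1 : GL (Fin k) F) s with hqd
    set c := g * q * (q * g)⁻¹ with hc
    have hcq : c * (q * g) = g * q := by rw [hc, inv_mul_cancel_right]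
    have hqw : ∀ u w, γ w f = 0 → (Units.val q) *ᵥ pure u w = pure u w + (-γ w w₀) • pure u f := fun u w hw => by
      rw [hqd, kr_pure, hsx, Units.val_one, one_mulVec, hw, mul_zero, add_zero, zero_smul, add_zero,
        pure_add_right, pure_smul_right]
    have hqf : ∀ u, (Units.val q) *ᵥ pure u f = pure u f := fun u => by
      rw [hqd, kr_pure, hsx, Units.val_one, one_mulVec, hff, comm_zero hh hw₀]; simp
    have hqY : ∀ y, eta hP f y = 0 → (Units.val q) *ᵥ y = y - pure (eta hP w₀ y) f := fun y hy => by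
      conv_lhs => rw [sum_rows y]
      conv_rhs => arg 1; rw [sum_rows y]
      rw [mulVec_sum, show pure (eta hP w₀ y) f = ∑ i, eta hP w₀ y i • pure (Pi.single i 1) f by
        conv_lhs => rw [← pureR_apply, pi_eq_sum_univ' (eta hP w₀ y), map_sum]
        simp only [map_smul, pureR_apply], ← Finset.sum_sub_distrib]
      exact Finset.sum_congr rfl fun i _ => by
        rw [hqw _ _ ((eta_zero_iff hP).1 hy i), neg_smul, ← sub_eq_add_neg]; rfl
    -- on the hyperplane the two products agree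
    have h1 : ∀ u w, γ w f = 0 → (Units.val c) *ᵥ pure u w = pure u w := by
      intro u w hw
      have e : ∀ u w, γ w f = 0 → (Units.val (g * q)) *ᵥ pure u w = (Units.val (q * g)) *ᵥ pure u w := by
        intro u w hw
        rw [mulVec_mul_GL, mulVec_mul_GL, hqw u w hw, hX u w hw, mulVec_add, mulVec_smul, mulVec_add, hqw u w hw,
          hqf, hR.1, hX u w hw]
        abel
      have e' : ∀ v, (Units.val (c * (q * g))) *ᵥ v = (Units.val c) *ᵥ ((Units.val (q * g)) *ᵥ v) :=
        fun v => mulVec_mul_GL c (q * g) v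
      -- write the vector as an image
      have hpre : ∀ u, (Units.val c) *ᵥ pure u f = pure u f := fun u => by
        have := e' (pure u f)
        rw [hcq, e u f hff, mulVec_mul_GL, hR.1, hqf] at this
        exact this.symm
      have := e' (pure u w)
      rw [hcq, e u w hw, mulVec_mul_GL, hX u w hw, mulVec_add, hqw u w hw, hqf] at this
      rw [mulVec_add, mulVec_add, mulVec_smul, hpre, hpre] at this
      rw [add_assoc, add_assoc] at this
      exact (add_right_cancel this).symm
    have h2 : ∀ u, (Units.val c) *ᵥ pure u f' = pure u f' + pure ((X w₀ + N w₀) u) f := by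
      intro u
      have hY' := hY u
      have hfix : ∀ y, eta hP f y = 0 → (Units.val c) *ᵥ y = y := fun y hy => by
        conv_lhs => rw [sum_rows y, mulVec_sum]
        conv_rhs => rw [sum_rows y]
        exact Finset.sum_congr rfl fun i _ => h1 _ _ ((eta_zero_iff hP).1 hy i)
      have hqf' : (Units.val q) *ᵥ pure u f' = pure u f' + pure u w₀ + (-γ f' w₀ + b₀) • pure u f := by
        rw [hqd, kr_pure, hsx, Units.val_one, one_mulVec, hf'f, mul_one, one_smul, pure_add_right,
          pure_add_right, pure_smul_right]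
      have hA : (Units.val (g * q)) *ᵥ pure u f' =
          (pure u f' + L (pure u f')) + (pure u w₀ + pure (X w₀ u) f) + (-γ f' w₀ + b₀) • pure u f := by
        rw [mulVec_mul_GL, hqf', mulVec_add, mulVec_add, mulVec_smul, hR.1, hX u w₀ hw₀, hLp]
      have hB : (Units.val (q * g)) *ᵥ pure u f' =
          pure u f' + (pure u w₀ + (-γ f' w₀ + b₀) • pure u f + (L (pure u f') - pure (N w₀ u) f)) := by
        rw [mulVec_mul_GL, hLp, mulVec_add, hqY _ hY', hqf']
        show _ = pure u f' + (_ + (L (pure u f') - pure (eta hP w₀ (L (pure u f'))) f))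
        abel
      have e := mulVec_mul_GL c (q * g) (pure u f')
      rw [hcq, hA, hB, mulVec_add, hfix (pure u w₀ + (-γ f' w₀ + b₀) • pure u f +
          (L (pure u f') - pure (N w₀ u) f)) (by
        simp [map_add, map_sub, map_smul, eta_pure, hw₀, hff, hY'])] at e
      rw [← sub_eq_iff_eq_add] at e
      rw [← e, LinearMap.add_apply, pure_add_left]
      abel
    intro u w
    have e : w = (w - γ w f • f') + γ w f • f' := by rw [sub_add_cancel]
    conv_lhs => rw [e, pure_add_right, pure_smul_right, mulVec_add, mulVec_smul, h2,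
      h1 _ _ (by rw [sub_left hh, hh.smul, hf'f, mul_one, sub_self])]
    conv_rhs => arg 1; rw [e, pure_add_right, pure_smul_right]
    rw [smul_add]; abel
  by_cases hall : ∀ w₀, γ w₀ f = 0 → ∃ μ : F, ∀ u, (X w₀ + N w₀) u = μ • u
  swap
  · push Not at hall
    obtain ⟨w₀, hw₀, hμ⟩ := hall
    exact Or.inr ⟨_, hcen w₀ hw₀, hμ⟩
  -- both parts are scalar
  obtain ⟨l, hl⟩ : ∃ l : F, σ l ≠ l := by
    by_contra hc
    push Not at hc
    exact hh.ne_id (RingHom.ext hc)
  have hXs : ∀ w, γ w f = 0 → ∃ μ : F, ∀ u, X w u = μ • u := by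
    intro w hw
    obtain ⟨μ, hμ⟩ := hall w hw
    obtain ⟨ν, hν⟩ := hall (l • w) (by rw [hh.smul, hw, mul_zero])
    refine ⟨(ν - σ l * μ) / (l - σ l), fun u => ?_⟩
    have eX : X (l • w) u = l • X w u := by
      show eta hP f' (L (pure u (l • w))) = l • eta hP f' (L (pure u w))
      rw [pure_smul_right, map_smul, map_smul]
    have eN : N (l • w) u = σ l • N w u := by
      funext i
      show γ (row (L (pure u f')) i) (l • w) = σ l * γ (row (L (pure u f')) i) w
      exact smul_right hh l _ w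
    have h1 := hμ u
    have h2 := hν u
    rw [LinearMap.add_apply] at h1 h2
    rw [eX, eN] at h2
    have h3 : (l - σ l) • X w u = (ν - σ l * μ) • u := by
      rw [sub_smul, sub_smul, ← h2, mul_smul, ← h1, smul_add]; abel
    rw [div_eq_inv_mul, mul_smul, ← h3, inv_smul_smul₀ (sub_ne_zero.2 (Ne.symm hl))]
  obtain ⟨i₀⟩ : Nonempty (Fin k) := ⟨⟨0, by have := hO.hk; omega⟩⟩
  let φ : Wv →ₗ[F] F :=
    { toFun := fun w => X (w - γ w f • f') (Pi.single i₀ 1) i₀
      map_add' := fun w w' => by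
        show eta hP f' (L (pure _ (w + w' - γ (w + w') f • f'))) i₀ = _
        rw [hh.add, add_smul, show w + w' - (γ w f • f' + γ w' f • f') = (w - γ w f • f') + (w' - γ w' f • f') by
          abel, pure_add_right, map_add, map_add]
        rfl
      map_smul' := fun c w => by
        show eta hP f' (L (pure _ (c • w - γ (c • w) f • f'))) i₀ = _
        rw [hh.smul, mul_smul, ← smul_sub, pure_smul_right, map_smul, map_smul]
        rfl }
  obtain ⟨w₁, hw₁⟩ := exists_repr hh φ
  have hXφ : ∀ u w, γ w f = 0 → X w u = γ w w₁ • u := by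
    intro u w hw
    obtain ⟨μ, hμ⟩ := hXs w hw
    have e : γ w w₁ = μ := by
      rw [hw₁]
      show X (w - γ w f • f') (Pi.single i₀ 1) i₀ = μ
      rw [hw, zero_smul, sub_zero, hμ]
      simp
    rw [hμ, e]
  have hw₁f : γ w₁ f = 0 := by
    refine comm_zero hh ?_
    rw [hw₁]
    show X (f - γ f f • f') (Pi.single i₀ 1) i₀ = 0
    rw [hff, zero_smul, sub_zero]
    show eta hP f' (L (pure _ f)) i₀ = 0
    rw [show L (pure (Pi.single i₀ 1) f) = 0 from add_left_cancel ((hLp _).symm.trans ((hR.1 _).trans (add_zero _).symm))]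
    simp
  -- strip the second factor
  obtain ⟨w₂, hw₂⟩ : ∃ w₂, w₂ = -w₁ := ⟨_, rfl⟩
  have hw₂f : γ w₂ f = 0 := by rw [hw₂, ← neg_one_smul F w₁, hh.smul, hw₁f, mul_zero]
  obtain ⟨b₁, hb₁⟩ := exists_trace_eq hh (self_fixed hh w₂)
  obtain ⟨s, hs, hsx⟩ := exists_siegel hh hff (comm_zero hh hw₂f) hb₁
  have hq := kr_mem_M hO (one_mem (isoSL β)) hs
  set d := (kr 1 s)⁻¹ * g with hd
  have hdM : d ∈ M := mul_mem (inv_mem hq) hg
  have hsw : ∀ u w, γ w f = 0 → (Units.val d) *ᵥ pure u w = pure u w := fun u w hw => by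
    refine mulVec_inj (kr 1 s) ?_
    rw [← mulVec_mul_GL, hd, mul_inv_cancel_left, hX u w hw, kr_pure, hsx, Units.val_one, one_mulVec, hw, hw₂,
      UnitaryInLinear.neg_right hh, hXφ u w hw, pure_smul_left, mul_zero, add_zero, zero_smul, add_zero,
      neg_neg, pure_add_right, pure_smul_right]
  have hK : InK γ M f ((eta hP f').comp ((Matrix.toLin' (Units.val d) - 1).comp (pureR f'))) := by
    refine ⟨d, hdM, fun u w => ?_⟩
    set y := (Units.val d) *ᵥ pure u f' - pure u f' with hy
    obtain ⟨x, hx⟩ : ∃ x, y = pure x f := exists_of_perp hP fun w' hw' => eta_eq_zero hP fun v => by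
      have h1 := iso_M hO hdM (pure u f') (pure v w')
      rw [hsw v w' hw'] at h1
      rw [hy, sub_left hP.whole, h1, sub_self]
    have e : w = (w - γ w f • f') + γ w f • f' := by rw [sub_add_cancel]
    conv_lhs => rw [e, pure_add_right, pure_smul_right, mulVec_add, mulVec_smul,
      hsw _ _ (by rw [sub_left hh, hh.smul, hf'f, mul_one, sub_self]),
      show (Units.val d) *ᵥ pure u f' = pure u f' + pure x f by rw [← hx, hy, add_sub_cancel]]
    conv_rhs => arg 1; rw [e, pure_add_right, pure_smul_right]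
    rw [LinearMap.comp_apply, LinearMap.comp_apply, pureR_apply, LinearMap.sub_apply, Matrix.toLin'_apply,
      Module.End.one_apply, ← hy, hx, eta_pure, hff', one_smul, smul_add]
    abel
  obtain ⟨c, hcM, hc⟩ := hK
  by_cases hsc : ∃ μ : F, ∀ u, (eta hP f').comp ((Matrix.toLin' (Units.val d) - 1).comp (pureR f')) u = μ • u
  swap
  · push Not at hsc
    exact Or.inr ⟨_, ⟨c, hcM, hc⟩, hsc⟩
  obtain ⟨μ, hμ⟩ := hsc
  left
  -- the remaining central element lies in the second factor
  obtain ⟨φl, hφl⟩ := exists_row (μ • UnitaryInLinear.form hh f)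
  have hφf : φl ⬝ᵥ f = 0 := by
    rw [hφl, LinearMap.smul_apply]; show μ * γ f f = 0; rw [hff, mul_zero]
  have hcd : ∀ u w, (Units.val d) *ᵥ pure u w = pure u ((Units.val (trv f φl hφf)) *ᵥ w) := by
    intro u w
    have e : w = (w - γ w f • f') + γ w f • f' := by rw [sub_add_cancel]
    rw [trv_mulVec, hφl, LinearMap.smul_apply, show UnitaryInLinear.form hh f w = γ w f from rfl, smul_eq_mul,
      pure_add_right, pure_smul_right]
    have h1 := hμ u
    rw [LinearMap.comp_apply, LinearMap.comp_apply, pureR_apply, LinearMap.sub_apply, Matrix.toLin'_apply,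
      Module.End.one_apply] at h1
    obtain ⟨x, hx⟩ : ∃ x, (Units.val d) *ᵥ pure u f' - pure u f' = pure x f := exists_of_perp hP fun w' hw' =>
      eta_eq_zero hP fun v => by
        have h1 := iso_M hO hdM (pure u f') (pure v w')
        rw [hsw v w' hw'] at h1
        rw [sub_left hP.whole, h1, sub_self]
    rw [hx, eta_pure, hff', one_smul] at h1
    conv_lhs => rw [e, pure_add_right, pure_smul_right, mulVec_add, mulVec_smul,
      hsw _ _ (by rw [sub_left hh, hh.smul, hf'f, mul_one, sub_self]),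
      show (Units.val d) *ᵥ pure u f' = pure u f' + pure x f by rw [← hx, add_sub_cancel]]
    conv_rhs => arg 1; rw [e, pure_add_right, pure_smul_right]
    rw [h1, pure_smul_left, smul_add, smul_smul, mul_comm (γ w f) μ]
    abel
  have hde : d = kr 1 (trv f φl hφf) := Units.ext (Matrix.ext_of_mulVec_single fun i => by
    have e : Pi.single i (1 : F) = pure (Pi.single i.1 (1 : F)) (Pi.single i.2 (1 : F)) := funext fun a => by
      obtain ⟨a₁, a₂⟩ := a
      obtain ⟨i₁, i₂⟩ := i
      simp only [TensorMax.pure, Pi.single_apply, Prod.mk.injEq]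
      by_cases h1 : a₁ = i₁ <;> by_cases h2 : a₂ = i₂ <;> simp [h1, h2]
    rw [e, hcd, kr_pure, Units.val_one, one_mulVec])
  have hge : g = kr 1 s * d := by rw [hd, mul_inv_cancel_left]
  rw [hge, hde, kr_mul]
  exact kr_mem_kron _ _

end Frame

end Cfsg.Agent.Forms.Max.TensorRes.Unitary
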