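import Cfsg.Agent.Lib.Forms.Max.Tensor.SympTools
import Cfsg.Agent.Lib.Forms.Max.Tensor.OmegaRadical
import Cfsg.Agent.Lib.Forms.Max.Tensor.UnitaryCentral

/-!
# A quadratic space that is the tensor product of two symplectic spaces
-/

set_option autoImplicit false
set_option linter.unusedSectionVars false

namespace Cfsg.Agent.Forms.Max.TensorRes.SympPlus

open Matrix Cfsg.Agent.Aschbacher Cfsg.Agent.Forms.Max.TensorMax Cfsg.Agent.Forms.Max.SympTools
  Cfsg.Agent.Classical.Orth Cfsg.Agent.Forms.Max.TensorRes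
open Cfsg.Agent.Forms.Max.TensorRes.Unitary (pure_add_left pure_smul_left pure_add_right pure_smul_right
  pure_zero_left pure_zero_right pure_ne_zero pureR pureR_apply InR Cen)

variable {F : Type*} [Field F] [Fintype F] {k n : ℕ}

/-- the forms of a tensor product of symplectic spaces -/
structure Pair (β : (Fin k → F) → (Fin k → F) → F) (γ : (Fin n → F) → (Fin n → F) → F)
    (Q : QuadraticForm F (Fin k × Fin n → F)) : Prop where
  left : Symp β
  right : Symp γ
  nd : (QuadraticMap.polarBilin Q).Nondegenerate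
  zero : ∀ u w, Q (pure u w) = 0
  mul : ∀ u w u' w', QuadraticMap.polar Q (pure u w) (pure u' w') = β u u' * γ w w'

variable {β : (Fin k → F) → (Fin k → F) → F} {γ : (Fin n → F) → (Fin n → F) → F}
  {Q : QuadraticForm F (Fin k × Fin n → F)} (hP : Pair β γ Q)

local notation "B" => QuadraticMap.polar Q

include hP

theorem polar_sum_left {ι : Type*} (s : Finset ι) (z : ι → Fin k × Fin n → F) (x : Fin k × Fin n → F) :
    B (∑ i ∈ s, z i) x = ∑ i ∈ s, B (z i) x := by
  classical
  induction s using Finset.induction with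
  | empty => simp
  | insert a s ha ih => rw [Finset.sum_insert ha, Finset.sum_insert ha, QuadraticMap.polar_add_left, ih]

/-- contraction of the rows with a vector of the second factor -/
def eta (w : Fin n → F) : (Fin k × Fin n → F) →ₗ[F] (Fin k → F) where
  toFun x i := γ (TensorMax.row x i) w
  map_add' x y := funext fun i => hP.right.add (TensorMax.row x i) (TensorMax.row y i) w
  map_smul' c x := funext fun i => hP.right.smul c (TensorMax.row x i) w

theorem eta_apply (w : Fin n → F) (x : Fin k × Fin n → F) (i : Fin k) :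
    eta hP w x i = γ (TensorMax.row x i) w := rfl

theorem eta_pure (w : Fin n → F) (u : Fin k → F) (w' : Fin n → F) :
    eta hP w (pure u w') = γ w' w • u := by
  funext i
  rw [eta_apply, row_pure, hP.right.smul, Pi.smul_apply, smul_eq_mul, mul_comm]

theorem form_pure (x : Fin k × Fin n → F) (u : Fin k → F) (w : Fin n → F) :
    B x (pure u w) = β (eta hP w x) u := by
  have e : eta hP w x = ∑ i, γ (TensorMax.row x i) w • Pi.single i (1 : F) := pi_eq_sum_univ' (eta hP w x)
  rw [e, show β (∑ i, γ (TensorMax.row x i) w • Pi.single i (1 : F)) u =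
    ∑ i, β (γ (TensorMax.row x i) w • Pi.single i (1 : F)) u from map_sum (SympTools.form hP.left u) _ _]
  conv_lhs => rw [sum_rows x, polar_sum_left hP]
  exact Finset.sum_congr rfl fun i _ => by rw [hP.mul, hP.left.smul, mul_comm]

theorem eta_eq_zero {w : Fin n → F} {x : Fin k × Fin n → F} (h : ∀ u, B x (pure u w) = 0) :
    eta hP w x = 0 :=
  hP.left.nd _ fun u => by rw [← form_pure hP]; exact h u

theorem eta_zero_iff {f : Fin n → F} {x : Fin k × Fin n → F} :
    eta hP f x = 0 ↔ ∀ i, γ (TensorMax.row x i) f = 0 :=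
  ⟨fun h i => congrFun h i, fun h => funext h⟩

/-- vectors orthogonal to `U ⊗ f^⊥` lie in `U ⊗ f` -/
theorem exists_of_perp {f : Fin n → F} {x : Fin k × Fin n → F}
    (h : ∀ w, γ w f = 0 → eta hP w x = 0) : ∃ u, x = pure u f := by
  refine exists_pure_of_row fun i => ?_
  by_contra hc
  obtain ⟨w, hwf, hw⟩ := exists_perp_value hP.right hc
  have := congrFun (h w hwf) i
  rw [eta_apply, hP.right.skew, hw, Pi.zero_apply] at this
  exact one_ne_zero (neg_eq_zero.1 this)

/-- the quadratic form is determined by its polar form -/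
theorem quad_of_pure {g : GL (Fin k × Fin n) F} (h0 : ∀ u w, Q ((Units.val g) *ᵥ pure u w) = 0)
    (h : ∀ u w u' w', B ((Units.val g) *ᵥ pure u w) ((Units.val g) *ᵥ pure u' w') = β u u' * γ w w')
    (x : Fin k × Fin n → F) : Q ((Units.val g) *ᵥ x) = Q x := by
  classical
  rw [sum_rows x]
  induction (Finset.univ : Finset (Fin k)) using Finset.induction with
  | empty => simp
  | insert a s ha ih =>
    rw [Finset.sum_insert ha, mulVec_add, map_add', map_add', ih, h0, hP.zero, QuadraticMap.polar_comm,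
      mulVec_sum, polar_sum_left hP, QuadraticMap.polar_comm Q (pure _ _) (∑ _ ∈ s, _), polar_sum_left hP]
    congr 1
    exact Finset.sum_congr rfl fun i _ => by rw [h, hP.mul]

theorem kr_iso {a : GL (Fin k) F} {b : GL (Fin n) F} {μ ν : F} (hμν : μ * ν = 1)
    (ha : ∀ u u', β ((Units.val a) *ᵥ u) ((Units.val a) *ᵥ u') = μ * β u u')
    (hb : ∀ w w', γ ((Units.val b) *ᵥ w) ((Units.val b) *ᵥ w') = ν * γ w w') (x : Fin k × Fin n → F) :
    Q ((Units.val (kr a b)) *ᵥ x) = Q x :=
  quad_of_pure hP (fun u w => by rw [kr_pure]; exact hP.zero _ _) (fun u w u' w' => by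
    rw [kr_pure, kr_pure, hP.mul, ha, hb]
    linear_combination (β u u' * γ w w') * hμν) x

omit hP in
/-- the subspace `U ⊗ f` -/
def sliceR (f : Fin n → F) : Submodule F (Fin k × Fin n → F) := LinearMap.range (pureR (k := k) f)

omit hP in
/-- the subspace `u ⊗ W` -/
def sliceL (u : Fin k → F) : Submodule F (Fin k × Fin n → F) := LinearMap.range (pureL (n := n) u)

theorem slice_singular (hn : 9 ≤ Fintype.card (Fin k × Fin n)) :
    (∀ a ∈ tvGroup β, kr a (1 : GL (Fin n) F) ∈ Cfsg.Geo.omegaGL ⇑Q) ∧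
      ∀ b ∈ tvGroup γ, kr (1 : GL (Fin k) F) b ∈ Cfsg.Geo.omegaGL ⇑Q := by
  constructor
  · intro a ha
    induction ha using Subgroup.closure_induction with
    | one => rw [kr_one]; exact one_mem _
    | mul a b _ _ h1 h2 => have := mul_mem h1 h2; rwa [kr_mul, one_mul] at this
    | inv a _ h => have := inv_mem h; rwa [kr_inv, inv_one] at this
    | mem a ha =>
      have hiso := kr_iso hP (a := a) (b := 1) (one_mul 1)
        (fun u u' => by rw [tv_isometry hP.left ha, one_mul]) (fun w w' => by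
          rw [Units.val_one, one_mulVec, one_mulVec, one_mul])
      obtain ⟨v, c, hv⟩ := ha
      refine Orth.omega_of_radical hP.nd hn (X := sliceL v) ?_ hiso ?_ ?_
      · rintro _ ⟨w, rfl⟩; exact hP.zero v w
      · rintro _ ⟨w, rfl⟩
        rw [pureL_apply, kr_pure, hv, hP.left.alt, mul_zero, zero_smul, add_zero, Units.val_one, one_mulVec]
      · intro z _
        have e : (Units.val (kr a (1 : GL (Fin n) F))) *ᵥ z - z =
            ∑ i, (c * β (Pi.single i 1) v) • pure v (TensorMax.row z i) := by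
          conv_lhs => rw [sum_rows z, mulVec_sum, ← Finset.sum_sub_distrib]
          refine Finset.sum_congr rfl fun i _ => ?_
          rw [kr_pure, hv, Units.val_one, one_mulVec, pure_add_left, add_sub_cancel_left, pure_smul_left]
        rw [e]
        exact Submodule.sum_mem _ fun i _ => Submodule.smul_mem _ _ ⟨_, pureL_apply _ _⟩
  · intro b hb
    induction hb using Subgroup.closure_induction with
    | one => rw [kr_one]; exact one_mem _
    | mul a b _ _ h1 h2 => have := mul_mem h1 h2; rwa [kr_mul, one_mul] at this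
    | inv a _ h => have := inv_mem h; rwa [kr_inv, inv_one] at this
    | mem b hb =>
      have hiso := kr_iso hP (a := 1) (b := b) (one_mul 1)
        (fun u u' => by rw [Units.val_one, one_mulVec, one_mulVec, one_mul])
        (fun w w' => by rw [tv_isometry hP.right hb, one_mul])
      obtain ⟨v, c, hv⟩ := hb
      refine Orth.omega_of_radical hP.nd hn (X := sliceR v) ?_ hiso ?_ ?_
      · rintro _ ⟨u, rfl⟩; exact hP.zero u v
      · rintro _ ⟨u, rfl⟩
        rw [pureR_apply, kr_pure, hv, hP.right.alt, mul_zero, zero_smul, add_zero, Units.val_one, one_mulVec]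
      · intro z _
        refine ⟨c • eta hP v z, TensorMax.ext_row fun i => ?_⟩
        show TensorMax.row (pure (c • eta hP v z) v) i =
          TensorMax.row ((Units.val (kr 1 b)) *ᵥ z) i - TensorMax.row z i
        rw [row_pure, kr_coe, Units.val_one, row_one_kron, hv, add_sub_cancel_left]
        rfl

/-- the standing hypotheses on an overgroup -/
structure Over (β : (Fin k → F) → (Fin k → F) → F) (γ : (Fin n → F) → (Fin n → F) → F)
    (Q : QuadraticForm F (Fin k × Fin n → F)) (M : Subgroup (GL (Fin k × Fin n) F)) : Prop where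
  pair : Pair β γ Q
  le : M ≤ Cfsg.Geo.omegaGL ⇑Q
  ge : Cfsg.Geo.kroneckerSubgroup k n F ⊓ Cfsg.Geo.omegaGL ⇑Q ≤ M
  hk : 2 ≤ k
  hkn : k < n
  hn : 5 ≤ n

omit hP
variable {M : Subgroup (GL (Fin k × Fin n) F)} (hO : Over β γ Q M)
include hO

theorem card_large : 9 ≤ Fintype.card (Fin k × Fin n) := by
  rw [Fintype.card_prod, Fintype.card_fin, Fintype.card_fin]
  have := hO.hk
  have := hO.hn
  nlinarith

theorem left_mem {a : GL (Fin k) F} (ha : a ∈ tvGroup β) : kr a (1 : GL (Fin n) F) ∈ M :=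
  hO.ge ⟨kr_mem_kron _ _, (slice_singular hO.pair (card_large hO)).1 a ha⟩

theorem right_mem {b : GL (Fin n) F} (hb : b ∈ tvGroup γ) : kr (1 : GL (Fin k) F) b ∈ M :=
  hO.ge ⟨kr_mem_kron _ _, (slice_singular hO.pair (card_large hO)).2 b hb⟩

theorem map_M {g : GL (Fin k × Fin n) F} (hg : g ∈ M) (x : Fin k × Fin n → F) :
    Q ((Units.val g) *ᵥ x) = Q x := Orth.omegaGL_map (hO.le hg) x

theorem polar_M {g : GL (Fin k × Fin n) F} (hg : g ∈ M) (x y : Fin k × Fin n → F) :
    B ((Units.val g) *ᵥ x) ((Units.val g) *ᵥ y) = B x y := Orth.omegaGL_polar (hO.le hg) x y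

omit hO in
/-- the second entries of the Eichler elements in `M` with first entry `a` -/
def DS (Q : QuadraticForm F (Fin k × Fin n → F)) (M : Subgroup (GL (Fin k × Fin n) F))
    (a : Fin k × Fin n → F) : Set (Fin k × Fin n → F) :=
  {b | ∃ g ∈ M, ∀ x, (Units.val g) *ᵥ x = eichLin Q a b x}

theorem DS_zero (a : Fin k × Fin n → F) : (0 : Fin k × Fin n → F) ∈ DS Q M a :=
  ⟨1, one_mem M, fun x => by rw [Units.val_one, one_mulVec, eichLin_zero]⟩

theorem DS_add {a b b' : Fin k × Fin n → F} (ha : Q a = 0) (hab : B a b = 0) (hab' : B a b' = 0)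
    (hb : b ∈ DS Q M a) (hb' : b' ∈ DS Q M a) : b + b' ∈ DS Q M a := by
  obtain ⟨g, hg, hgx⟩ := hb
  obtain ⟨g', hg', hgx'⟩ := hb'
  exact ⟨g * g', mul_mem hg hg', fun x => by rw [mulVec_mul_GL, hgx', hgx, eichLin_add ha hab hab']⟩

theorem DS_map {a b : Fin k × Fin n → F} {g : GL (Fin k × Fin n) F} (hg : g ∈ M) (hb : b ∈ DS Q M a) :
    (Units.val g) *ᵥ b ∈ DS Q M ((Units.val g) *ᵥ a) := by
  obtain ⟨s, hs, hsx⟩ := hb
  refine ⟨g * s * g⁻¹, mul_mem (mul_mem hg hs) (inv_mem hg), fun x => ?_⟩
  rw [mulVec_mul_GL, mulVec_mul_GL, hsx, eichLin_apply, eichLin_apply]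
  have e : ∀ v, B ((Units.val g⁻¹) *ᵥ x) v = B x ((Units.val g) *ᵥ v) := fun v => by
    rw [← polar_M hO hg ((Units.val g⁻¹) *ᵥ x), mulVec_inv_cancel]
  simp only [mulVec_add, mulVec_sub, mulVec_smul, mulVec_inv_cancel, e, map_M hO hg]

theorem DS_smul {a b : Fin k × Fin n → F} (t : F) (hb : t • b ∈ DS Q M a) : b ∈ DS Q M (t • a) := by
  obtain ⟨g, hg, hgx⟩ := hb
  refine ⟨g, hg, fun x => ?_⟩
  rw [hgx, eichLin_apply, eichLin_apply, QuadraticMap.polar_smul_right, Classical.Orth.map_smul',
    QuadraticMap.polar_smul_right, smul_eq_mul, smul_eq_mul]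
  module

/-- the submodule of second entries -/
def DSub {a : Fin k × Fin n → F} (ha : Q a = 0) : Submodule F (Fin k × Fin n → F) where
  carrier := {b | B a b = 0 ∧ ∀ t : F, t • b ∈ DS Q M a}
  zero_mem' := ⟨by simp, fun t => by rw [smul_zero]; exact DS_zero hO a⟩
  add_mem' {b b'} hb hb' := ⟨by rw [QuadraticMap.polar_add_right, hb.1, hb'.1, add_zero], fun t => by
    rw [smul_add]
    exact DS_add hO ha (by rw [QuadraticMap.polar_smul_right, hb.1, smul_zero])
      (by rw [QuadraticMap.polar_smul_right, hb'.1, smul_zero]) (hb.2 t) (hb'.2 t)⟩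
  smul_mem' c b hb := ⟨by rw [QuadraticMap.polar_smul_right, hb.1, smul_zero], fun t => by
    rw [smul_smul]; exact hb.2 _⟩

theorem DSub_map {a b : Fin k × Fin n → F} {g : GL (Fin k × Fin n) F} (hg : g ∈ M)
    (hga : (Units.val g) *ᵥ a = a) {ha : Q a = 0} (hb : b ∈ DSub hO ha) :
    (Units.val g) *ᵥ b ∈ DSub hO ha := by
  refine ⟨?_, fun t => ?_⟩
  · rw [← hb.1, ← polar_M hO hg a b, hga]
  · have h1 := DS_map hO hg (hb.2 t)
    rwa [mulVec_smul, hga] at h1

end Cfsg.Agent.Forms.Max.TensorRes.SympPlus
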