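import Cfsg.Agent.Lib.Forms.Max.Tensor.SympCentral

/-!
# Slot elements of an overgroup without pure root elements are scalar
-/

set_option autoImplicit false
set_option linter.unusedSectionVars false

namespace Cfsg.Agent.Forms.Max.TensorRes.SympPlus

open Matrix Cfsg.Agent.Aschbacher Cfsg.Agent.Forms.Max.TensorMax Cfsg.Agent.Forms.Max.SympTools
  Cfsg.Agent.Classical.Orth Cfsg.Agent.Forms.Max.TensorRes
open Cfsg.Agent.Forms.Max.TensorRes.Unitary (pure_add_left pure_smul_left pure_add_right pure_smul_right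
  pure_zero_left pure_zero_right pure_ne_zero pureR pureR_apply InR Cen)

variable {F : Type*} [Field F] [Fintype F] {k n : ℕ}
variable {β : (Fin k → F) → (Fin k → F) → F} {γ : (Fin n → F) → (Fin n → F) → F}
  {Q : QuadraticForm F (Fin k × Fin n → F)}

local notation "B" => QuadraticMap.polar Q
local notation "Uv" => (Fin k → F)
local notation "Wv" => (Fin n → F)
local notation "Vv" => (Fin k × Fin n → F)

variable {M : Subgroup (GL (Fin k × Fin n) F)}

omit [Fintype F] in
/-- all vectors of a submodule are eigenvectors -/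
theorem eigen_submodule {m : ℕ} {K : (Fin m → F) →ₗ[F] (Fin m → F)} {P : Submodule F (Fin m → F)}
    (h : ∀ x ∈ P, K x ∈ Submodule.span F {x}) : ∃ μ : F, ∀ x ∈ P, K x = μ • x := by
  by_cases h0 : ∀ x ∈ P, x = 0
  · exact ⟨0, fun x hx => by rw [h0 x hx, map_zero, smul_zero]⟩
  push Not at h0
  obtain ⟨x₀, hx₀, hne⟩ := h0
  obtain ⟨μ, hμ⟩ := Submodule.mem_span_singleton.1 (h x₀ hx₀)
  refine ⟨μ, fun x hx => ?_⟩
  by_cases hm : x ∈ Submodule.span F {x₀}
  · obtain ⟨c, rfl⟩ := Submodule.mem_span_singleton.1 hm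
    rw [map_smul, ← hμ, smul_comm]
  obtain ⟨a, ha⟩ := Submodule.mem_span_singleton.1 (h x hx)
  obtain ⟨b, hb⟩ := Submodule.mem_span_singleton.1 (h _ (P.add_mem hx₀ hx))
  rw [map_add, ← ha, ← hμ] at hb
  have h1 : (b - a) • x = (μ - b) • x₀ := by rw [sub_smul, sub_smul, eq_sub_iff_add_eq, sub_add_eq_add_sub,
    sub_eq_iff_eq_add, ← smul_add, add_comm x x₀, hb]
  have hba : b - a = 0 := by
    by_contra hne'
    exact hm (Submodule.mem_span_singleton.2 ⟨(b - a)⁻¹ * (μ - b), by rw [← smul_smul, ← h1, inv_smul_smul₀ hne']⟩)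
  rw [hba, zero_smul] at h1
  rw [← ha, ← sub_eq_zero.1 hba, sub_eq_zero.1 ((smul_eq_zero.1 h1.symm).resolve_right hne)]

/-- the pair map of two vectors -/
def pairMap {m : ℕ} {h : (Fin m → F) → (Fin m → F) → F} (hh : Symp h) (u y : Fin m → F) :
    (Fin m → F) →ₗ[F] (Fin m → F) :=
  (SympTools.form hh y).smulRight u + (SympTools.form hh u).smulRight y

theorem pairMap_apply {m : ℕ} {h : (Fin m → F) → (Fin m → F) → F} (hh : Symp h) (u y v : Fin m → F) :
    pairMap hh u y v = h v y • u + h v u • y := rfl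

variable (hO : Over β γ Q M) (hno : ¬ HasRoot γ Q M)
include hO hno

variable {f f' : Fin n → F} (hf0 : f ≠ 0) (hf'f : γ f' f = 1)
include hf0 hf'f

/-- no slot carries a map of rank one -/
theorem no_rank_one {z : Wv} (hzf : γ z f = 0) (hz : z ∉ Submodule.span F {f}) {u : Uv} (hu : u ≠ 0) :
    ¬ Slot γ M f z ((SympTools.form hO.pair.left u).smulRight u) := by
  have hP := hO.pair
  have hh := hP.right
  have hβ := hP.left
  rintro ⟨g, hg, -, hgx⟩
  have hperp : B (pure u f) (-pure u z) = 0 := by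
    rw [QuadraticMap.polar_neg_right, hP.mul, hβ.alt, zero_mul, neg_zero]
  obtain ⟨g₁, hg₁, hg₁x⟩ := Orth.exists_eichGL hP.nd (card_large hO) (hP.zero u f) hperp
  have hE : ∀ v, (SympTools.form hβ u).smulRight u v = β v u • u := fun v => rfl
  have hQb : Q (-pure u z) = 0 := by rw [QuadraticMap.map_neg, hP.zero]
  have hmodel : ∀ v w, γ w f = 0 → (Units.val g₁) *ᵥ pure v w =
      pure v w + γ w z • pure ((SympTools.form hβ u).smulRight u v) f := fun v w hw => by
    rw [hg₁x, eichLin_apply, hQb, hP.mul, hw, QuadraticMap.polar_neg_right, hP.mul, hE, pure_smul_left, smul_smul]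
    simp only [mul_zero, zero_smul, zero_mul, sub_zero, add_zero, neg_smul, sub_neg_eq_add, mul_comm (γ w z)]
  obtain ⟨K, hK, hKs, hKinv⟩ := exact_slot hO hno hf0 hf'f hg hgx hg₁ hzf hmodel
  -- invariance makes the central part scalar
  have heig : ∀ h, β h u = 0 → K h ∈ Submodule.span F {h} := by
    intro h hhu
    by_contra hKh
    obtain ⟨a, ha, hax⟩ := exists_tv hβ h 1
    have hau : (Units.val a) *ᵥ u = u := by rw [hax, comm_zero hβ hhu, mul_zero, zero_smul, add_zero]
    have hfixu : ∀ w, (Units.val (kr a (1 : GL (Fin n) F))) *ᵥ pure u w = pure u w := fun w => by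
      rw [kr_pure, hau, Units.val_one, one_mulVec]
    have hAQ : ∀ x y, B ((Units.val (kr a (1 : GL (Fin n) F))) *ᵥ x) ((Units.val (kr a 1)) *ᵥ y) = B x y :=
      polar_M hO (left_mem hO (Subgroup.subset_closure ha))
    obtain ⟨μ, hμ⟩ := hKinv a (Subgroup.subset_closure ha) fun x => by
      rw [hg₁x, hg₁x, eichLin_apply, eichLin_apply, mulVec_sub, mulVec_sub, mulVec_add, mulVec_smul,
        mulVec_smul, mulVec_smul, mulVec_neg, hfixu, hfixu]
      conv_lhs => rw [← hfixu f, QuadraticMap.polar_neg_right]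
      conv_lhs => rw [← hfixu z, hAQ, hAQ]
      rw [hfixu, hfixu, QuadraticMap.polar_neg_right]
    obtain ⟨x, hxK, hxh⟩ := exists_perp_value hβ (u := K h) (v := h) (fun hm => by
      obtain ⟨c, hc⟩ := Submodule.mem_span_singleton.1 hm
      rcases eq_or_ne c 0 with rfl | hc0
      · exact hKh (by rw [show h = 0 by rw [← hc, zero_smul], map_zero]; exact zero_mem _)
      · exact hKh (Submodule.mem_span_singleton.2 ⟨c⁻¹, by rw [← hc, inv_smul_smul₀ hc0, hc]⟩))
    have hKsym : ∀ v, β (K v) h = β v (K h) := fun v => by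
      have h1 := hKs (v + h)
      rw [map_add, hβ.add, add_right hβ, add_right hβ, hKs, hKs] at h1
      rw [hβ.skew v (K h)]
      linear_combination h1
    have h1 := hμ x
    rw [hax, hax, hKsym, hxK, hxh, map_add, map_smul] at h1
    simp only [mul_zero, mul_one, one_smul, zero_smul, add_zero] at h1
    have h2 := hμ h
    rw [hax, hax, hβ.alt, hKs, mul_zero, zero_smul, add_zero, add_zero, sub_self] at h2
    have hμ0 : μ = 0 := (smul_eq_zero.1 h2.symm).resolve_right fun e => hKh (by rw [e, map_zero]; exact zero_mem _)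
    rw [hμ0, zero_smul, sub_add_cancel_left, neg_eq_zero] at h1
    exact hKh (h1 ▸ zero_mem _)
  obtain ⟨μ, hμ⟩ := eigen_submodule (K := K) (P := LinearMap.ker (SympTools.form hβ u)) heig
  have hKall : ∀ v, K v = μ • v := by
    obtain ⟨v₁, hv₁⟩ := exists_value_one hβ hu
    have hKu : K u = μ • u := hμ u (hβ.alt u)
    have hK' : ∀ v, β (K v - μ • v) v = 0 := fun v => by
      rw [SympTools.sub_left hβ, hβ.smul, hKs, hβ.alt, mul_zero, sub_zero]
    have hrest : K v₁ - μ • v₁ = 0 := by
      refine hβ.nd _ fun x => ?_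
      have hx' : x - β x u • v₁ ∈ LinearMap.ker (SympTools.form hβ u) := by
        show β (x - β x u • v₁) u = 0
        rw [SympTools.sub_left hβ, hβ.smul, hv₁, mul_one, sub_self]
      set p := x - β x u • v₁
      have hp : K p = μ • p := hμ p hx'
      have h1 := hK' (v₁ + p)
      rw [map_add, hp, smul_add, add_sub_add_right_eq_sub, add_right hβ, hK', zero_add] at h1
      have e : x = p + β x u • v₁ := (sub_add_cancel _ _).symm
      rw [e, add_right hβ, h1, smul_right hβ, hK', mul_zero, add_zero]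
    intro v
    have hv' : v - β v u • v₁ ∈ LinearMap.ker (SympTools.form hβ u) := by
      show β (v - β v u • v₁) u = 0
      rw [SympTools.sub_left hβ, hβ.smul, hv₁, mul_one, sub_self]
    have h1 := hμ _ hv'
    rw [map_sub, map_smul, sub_eq_zero.1 hrest, smul_sub, smul_comm (β v u) μ v₁] at h1
    exact sub_left_injective h1
  obtain ⟨t, ht, htx⟩ := exists_tv hh f μ
  have hde : g₁⁻¹ * g = kr 1 t := gl_ext fun x => ext_pure (fun v w => by
    rw [hK v w, kr_pure, Units.val_one, one_mulVec, htx, pure_add_right, pure_smul_right, hKall, pure_smul_left,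
      smul_smul, mul_comm μ]) x
  have hg₁M : g₁ ∈ M := by
    have : g₁ = g * (kr 1 t)⁻¹ := by rw [← hde]; group
    rw [this]; exact mul_mem hg (inv_mem (right_mem hO (Subgroup.subset_closure ht)))
  refine hno ⟨u, f, -z, hu, hf0, ?_, fun hm => hz (by simpa using neg_mem hm), g₁, hg₁M, fun x => ?_⟩
  · rw [← neg_one_smul F z, hh.smul, hzf, mul_zero]
  · rw [hg₁x, show pure u (-z) = -pure u z by rw [← neg_one_smul F z, pure_smul_right, neg_one_smul]]

/-- no slot carries a map of rank two in characteristic two -/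
theorem no_rank_two (h2 : (2 : F) = 0) {z : Wv} (hzf : γ z f = 0) (hz : z ∉ Submodule.span F {f}) {u y : Uv}
    (hu : u ≠ 0) (huy : β u y = 0) (hy : y ∉ Submodule.span F {u}) :
    ¬ Slot γ M f z (pairMap hO.pair.left u y) := by
  have hP := hO.pair
  have hh := hP.right
  have hβ := hP.left
  haveI : CharP F 2 := CharTwo.of_one_ne_zero_of_two_eq_zero one_ne_zero h2
  have hneg : ∀ x : F, -x = x := CharTwo.neg_eq
  have hsym : ∀ a b, β a b = β b a := fun a b => by rw [hβ.skew, hneg]
  have hsymγ : ∀ a b, γ a b = γ b a := fun a b => by rw [hh.skew, hneg]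
  rintro ⟨g, hg, -, hgx⟩
  have hyu : β y u = 0 := comm_zero hβ huy
  have hfz : γ f z = 0 := comm_zero hh hzf
  obtain ⟨A, hA, hAx⟩ := Orth.exists_eichGL hP.nd (card_large hO) (hP.zero u f)
    (w := pure y z) (by rw [hP.mul, huy, zero_mul])
  obtain ⟨C, hC, hCx⟩ := Orth.exists_eichGL hP.nd (card_large hO) (hP.zero y f)
    (w := pure u z) (by rw [hP.mul, hyu, zero_mul])
  have hmodel : ∀ v w, (Units.val (A * C)) *ᵥ pure v w =
      pure v w + pure (pairMap hβ u y v) (γ w z • f + γ w f • z) := fun v w => by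
    rw [mulVec_mul_GL, hCx, hAx]
    simp only [eichLin_apply, hP.zero, hP.mul, QuadraticMap.polar_add_left, QuadraticMap.polar_sub_left,
      QuadraticMap.polar_smul_left, hβ.alt, hh.alt, huy, hyu, hfz, hzf, pairMap_apply, pure_add_left, pure_add_right,
      pure_smul_left, pure_smul_right, smul_eq_mul, mul_zero, zero_mul, zero_smul, sub_zero, add_zero, zero_add]
    match_scalars <;> first | linear_combination (0 : F) | linear_combination -(β v u * γ w z) * h2 | linear_combination -(β v y * γ w z) * h2 | linear_combination (β v u * γ w z) * h2 | linear_combination (β v y * γ w z) * h2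
  have hwf : ∀ v w, γ w f = 0 → (Units.val (A * C)) *ᵥ pure v w =
      pure v w + γ w z • pure (pairMap hβ u y v) f := fun v w hw => by
    rw [hmodel, hw, zero_smul, add_zero, pure_smul_right]
  obtain ⟨K, hK, hKs, hKinv⟩ := exact_slot hO hno hf0 hf'f hg hgx (mul_mem hA hC) hzf hwf
  have hKsym : ∀ v h, β (K v) h = β v (K h) := fun v h => by
    have h1 := hKs (v + h)
    rw [map_add, hβ.add, add_right hβ, add_right hβ, hKs, hKs] at h1
    rw [hβ.skew v (K h)]
    linear_combination h1
  have heig : ∀ h, β h u = 0 ∧ β h y = 0 → K h ∈ Submodule.span F {h} := by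
    rintro h ⟨hhu, hhy⟩
    by_contra hKh
    obtain ⟨a, ha, hax⟩ := exists_tv hβ h 1
    have hau : (Units.val a) *ᵥ u = u := by rw [hax, comm_zero hβ hhu, mul_zero, zero_smul, add_zero]
    have hay : (Units.val a) *ᵥ y = y := by rw [hax, comm_zero hβ hhy, mul_zero, zero_smul, add_zero]
    have hcomm : ∀ v, pairMap hβ u y ((Units.val a) *ᵥ v) = (Units.val a) *ᵥ pairMap hβ u y v := fun v => by
      rw [pairMap_apply, pairMap_apply, mulVec_add, mulVec_smul, mulVec_smul, hau, hay]
      congr 2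
      · conv_lhs => arg 2; rw [← hay]
        exact tv_isometry hβ ha v y
      · conv_lhs => arg 2; rw [← hau]
        exact tv_isometry hβ ha v u
    obtain ⟨μ, hμ⟩ := hKinv a (Subgroup.subset_closure ha) fun x => by
      rw [← mulVec_mul_GL, ← mulVec_mul_GL]
      refine ext_pure (fun v w => ?_) x
      rw [mulVec_mul_GL (A * C), mulVec_mul_GL _ (A * C), kr_pure, Units.val_one, one_mulVec, hmodel, hmodel,
        mulVec_add, kr_pure, kr_pure, hcomm, Units.val_one, one_mulVec, one_mulVec]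
    obtain ⟨x, hxK, hxh⟩ := exists_perp_value hβ (u := K h) (v := h) (fun hm => by
      obtain ⟨c, hc⟩ := Submodule.mem_span_singleton.1 hm
      rcases eq_or_ne c 0 with rfl | hc0
      · exact hKh (by rw [show h = 0 by rw [← hc, zero_smul], map_zero]; exact zero_mem _)
      · exact hKh (Submodule.mem_span_singleton.2 ⟨c⁻¹, by rw [← hc, inv_smul_smul₀ hc0, hc]⟩))
    have h1 := hμ x
    rw [hax, hax, hKsym x h, hxK, hxh, map_add, map_smul] at h1
    simp only [mul_zero, mul_one, one_smul, zero_smul, add_zero] at h1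
    have h3 := hμ h
    rw [hax, hax, hβ.alt, hKs, mul_zero, zero_smul, add_zero, add_zero, sub_self] at h3
    have hμ0 : μ = 0 := (smul_eq_zero.1 h3.symm).resolve_right fun e => hKh (by rw [e, map_zero]; exact zero_mem _)
    rw [hμ0, zero_smul, sub_add_cancel_left, neg_eq_zero] at h1
    exact hKh (h1 ▸ zero_mem _)
  obtain ⟨μ, hμ⟩ := eigen_submodule (K := K)
    (P := LinearMap.ker (SympTools.form hβ u) ⊓ LinearMap.ker (SympTools.form hβ y)) fun x hx => heig x ⟨hx.1, hx.2⟩
  -- the central part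
  have hu' : u ∉ Submodule.span F {y} := fun hm => by
    obtain ⟨c, hc⟩ := Submodule.mem_span_singleton.1 hm
    rcases eq_or_ne c 0 with rfl | hc0
    · exact hu (by rw [← hc, zero_smul])
    · exact hy (Submodule.mem_span_singleton.2 ⟨c⁻¹, by rw [← hc, inv_smul_smul₀ hc0]⟩)
  obtain ⟨v₁, hv₁y, hv₁u⟩ := exists_perp_value hβ hu'
  obtain ⟨v₂, hv₂u, hv₂y⟩ := exists_perp_value hβ hy
  let K' : Uv →ₗ[F] Uv := K - μ • LinearMap.id
  have hK'v : ∀ v, K' v = K v - μ • v := fun v => rfl
  have hK's : ∀ v, β (K' v) v = 0 := fun v => by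
    rw [hK'v, SympTools.sub_left hβ, hβ.smul, hKs, hβ.alt, mul_zero, sub_zero]
  have hK'sym : ∀ v h, β (K' v) h = β v (K' h) := fun v h => by
    rw [hK'v, hK'v, SympTools.sub_left hβ, SympTools.sub_right hβ, hβ.smul, smul_right hβ, hKsym]
  have hK'P : ∀ p, β p u = 0 → β p y = 0 → K' p = 0 := fun p h1 h3 => by
    rw [hK'v, hμ p ⟨h1, h3⟩, sub_self]
  have hK'u : K' u = 0 := hK'P u (hβ.alt u) huy
  have hK'y : K' y = 0 := hK'P y hyu (hβ.alt y)
  set b := β (K' v₁) v₂ with hb
  have hKD : ∀ v, K' v = b • pairMap hβ u y v := fun v => by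
    refine sub_eq_zero.1 (hβ.nd _ fun x => ?_)
    have hdec : ∀ v, K' v = β v u • K' v₁ + β v y • K' v₂ := fun v => by
      have h1 := hK'P (v - β v u • v₁ - β v y • v₂)
        (by simp [SympTools.sub_left hβ, hβ.smul, hv₁u, hv₂u])
        (by simp [SympTools.sub_left hβ, hβ.smul, hv₁y, hv₂y])
      rw [map_sub, map_sub, map_smul, map_smul, sub_sub, sub_eq_zero] at h1
      exact h1
    rw [pairMap_apply, hdec v, SympTools.sub_left hβ, hβ.add, hβ.smul, hβ.smul, hβ.smul, hβ.add, hβ.smul, hβ.smul,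
      hK'sym v₁ x, hK'sym v₂ x, hdec x, add_right hβ, add_right hβ, smul_right hβ, smul_right hβ, smul_right hβ,
      smul_right hβ, show β v₁ (K' v₁) = 0 by rw [hsym, hK's], show β v₂ (K' v₂) = 0 by rw [hsym, hK's],
      show β v₁ (K' v₂) = b by rw [← hK'sym, hb], show β v₂ (K' v₁) = b by rw [hsym, hb], hsym u x, hsym y x]
    ring
  obtain ⟨t, ht, htx⟩ := exists_tv hh f μ
  set g₂ := g * (kr 1 t)⁻¹ with hg₂
  have hg₂M : g₂ ∈ M := mul_mem hg (inv_mem (right_mem hO (Subgroup.subset_closure ht)))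
  let S : Wv →ₗ[F] Wv :=
    (SympTools.form hh z).smulRight f + (SympTools.form hh f).smulRight (z + b • f)
  have hS : ∀ w, S w = γ w z • f + γ w f • (z + b • f) := fun w => rfl
  set D := pairMap hβ u y with hD
  have hg₂x : ∀ v w, (Units.val g₂) *ᵥ pure v w = pure v w + pure (D v) (S w) := fun v w => by
    have hge : g = A * C * (A * C)⁻¹ * g := by rw [mul_inv_cancel, one_mul]
    have hw : (Units.val t⁻¹) *ᵥ w = w - (μ * γ w f) • f := mulVec_inj t (by
      rw [mulVec_inv_cancel, htx, SympTools.sub_left hh, hh.smul, hh.alt, mul_zero, sub_zero, sub_add_cancel])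
    rw [hg₂, mulVec_mul_GL, kr_inv, inv_one, kr_pure, Units.val_one, one_mulVec, hge, mul_assoc (A * C),
      mulVec_mul_GL, hK, show K v = μ • v + b • D v by
        have := hKD v; rw [hK'v, sub_eq_iff_eq_add] at this; rw [this]; abel]
    rw [hw, pure_add_left, pure_smul_left, pure_smul_left, mulVec_add, mulVec_smul, mulVec_add, mulVec_smul,
      mulVec_smul, hmodel, hmodel v f, hmodel (D v) f, hS]
    simp only [SympTools.sub_left hh, hh.add, hh.smul, hh.alt, hfz, zero_smul, add_zero, sub_zero, mul_zero,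
      pure_zero_right, pure_add_right, pure_smul_right, sub_eq_add_neg, ← neg_smul]
    module
  have hDu : D u = 0 := by rw [hD, pairMap_apply, huy, hβ.alt, zero_smul, zero_smul, add_zero]
  have hSsym : ∀ a c, γ (S a) c = γ a (S c) := fun a c => by
    simp only [hS, hh.add, hh.smul, add_right hh, smul_right hh, hsymγ f c, hsymγ z c]
    ring
  -- a second element
  obtain ⟨y', hy'u, hy'y⟩ := exists_perp_value hβ hy
  have huy' : β u y' = 0 := comm_zero hβ hy'u
  obtain ⟨a, ha, hax⟩ := exists_tv hβ (y' - y) 1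
  have hau : (Units.val a) *ᵥ u = u := by
    rw [hax, SympTools.sub_right hβ, huy', huy, sub_zero, mul_zero, zero_smul, add_zero]
  have hay : (Units.val a) *ᵥ y = y' := by
    rw [hax, SympTools.sub_right hβ, hsym y y', hy'y, hβ.alt, sub_zero, one_mul, one_smul, add_sub_cancel]
  obtain ⟨e', he'z, he'f⟩ := exists_perp_value hh (u := z) (v := f) (fun hm => by
    obtain ⟨c, hc⟩ := Submodule.mem_span_singleton.1 hm
    rcases eq_or_ne c 0 with rfl | hc0
    · exact hf0 (by rw [← hc, zero_smul])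
    · exact hz (Submodule.mem_span_singleton.2 ⟨c⁻¹, by rw [← hc, inv_smul_smul₀ hc0]⟩))
  obtain ⟨e, hef, hee', hez⟩ := exists_pair_value hh (u := f) (u' := e') (v := z) (fun hm => by
    obtain ⟨c, d, hcd⟩ := Submodule.mem_span_pair.1 hm
    have e1 : γ z f = d := by rw [← hcd, hh.add, hh.smul, hh.smul, hh.alt, he'f]; ring
    rw [hzf] at e1
    exact hz (Submodule.mem_span_singleton.2 ⟨c, by rw [← hcd, ← e1, zero_smul, add_zero]⟩))
  obtain ⟨T₁, hT₁, hT₁x⟩ := exists_tv hh e' 1
  obtain ⟨T₂, hT₂, hT₂x⟩ := exists_tv hh e 1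
  set T := T₂ * T₁ with hT
  have hTg : T ∈ tvGroup γ := mul_mem (Subgroup.subset_closure hT₂) (Subgroup.subset_closure hT₁)
  set f₂ := f + e' with hf₂
  set z₂ := z + e with hz₂
  have hTf : (Units.val T) *ᵥ f = f₂ := by
    rw [hT, mulVec_mul_GL, hT₁x, hsymγ f e', he'f, one_mul, one_smul, hT₂x, hh.add, hsymγ f e, hef,
      hsymγ e' e, hee', add_zero, mul_zero, zero_smul, add_zero]
  have hTz : (Units.val T) *ᵥ z = z₂ := by
    rw [hT, mulVec_mul_GL, hT₁x, hsymγ z e', he'z, mul_zero, zero_smul, add_zero, hT₂x, hsymγ z e, hez, one_mul,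
      one_smul]
  let S₂ : Wv →ₗ[F] Wv :=
    (SympTools.form hh z₂).smulRight f₂ + (SympTools.form hh f₂).smulRight (z₂ + b • f₂)
  have hS₂ : ∀ w, S₂ w = γ w z₂ • f₂ + γ w f₂ • (z₂ + b • f₂) := fun w => rfl
  set D₂ := pairMap hβ u y' with hD₂
  have hD₂u : D₂ u = 0 := by rw [hD₂, pairMap_apply, huy', hβ.alt, zero_smul, zero_smul, add_zero]
  set g₃ := kr a T * g₂ * (kr a T)⁻¹ with hg₃
  have hmT : kr a T ∈ M := by
    have := mul_mem (left_mem hO (Subgroup.subset_closure ha)) (right_mem hO hTg)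
    rwa [kr_mul, mul_one, one_mul] at this
  have hg₃M : g₃ ∈ M := mul_mem (mul_mem hmT hg₂M) (inv_mem hmT)
  have hg₃x : ∀ v w, (Units.val g₃) *ᵥ pure v w = pure v w + pure (D₂ v) (S₂ w) := fun v w => by
    rw [hg₃, kr_inv, mulVec_mul_GL, mulVec_mul_GL, kr_pure, hg₂x, mulVec_add, kr_pure, kr_pure, mulVec_inv_cancel,
      mulVec_inv_cancel, hD, hD₂, pairMap_apply, pairMap_apply, hS, hS₂, mulVec_add, mulVec_smul, mulVec_smul,
      mulVec_add, mulVec_smul, mulVec_smul, mulVec_add, mulVec_smul, hau, hay, hTf, hTz]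
    have e1 : ∀ x, β ((Units.val a⁻¹) *ᵥ v) x = β v ((Units.val a) *ᵥ x) := fun x => by
      rw [← tv_isometry hβ ha ((Units.val a⁻¹) *ᵥ v), mulVec_inv_cancel]
    have e2 : ∀ x, γ ((Units.val T⁻¹) *ᵥ w) x = γ w ((Units.val T) *ᵥ x) := fun x => by
      rw [← group_isometry hh hTg ((Units.val T⁻¹) *ᵥ w), mulVec_inv_cancel]
    rw [e1, e1, e2, e2, hau, hay, hTf, hTz]
  -- the commutator
  have hDD : ∀ v, D (D₂ v) = β v u • u ∧ D₂ (D v) = β v u • u := fun v => by
    refine ⟨?_, ?_⟩ <;>
    · simp only [hD, hD₂, pairMap_apply, hβ.add, hβ.smul, hβ.alt, huy, huy', hyu, hy'u, hy'y, hsym y y', mul_zero,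
        mul_one, add_zero, zero_add, zero_smul]
  have hDD0 : ∀ v, D (D v) = 0 ∧ D₂ (D₂ v) = 0 := fun v => by
    refine ⟨?_, ?_⟩ <;>
    · simp only [hD, hD₂, pairMap_apply, hβ.add, hβ.smul, hβ.alt, huy, huy', hyu, hy'u, mul_zero, add_zero,
        zero_smul]
  let J : Wv →ₗ[F] Wv := S.comp S₂ + S₂.comp S
  have hJ : ∀ w, J w = S (S₂ w) + S₂ (S w) := fun w => rfl
  set g₄ := g₂ * g₃ * (g₂ * g₃) with hg₄
  have hg₄x : ∀ v w, (Units.val g₄) *ᵥ pure v w = pure v w + pure (β v u • u) (J w) := fun v w => by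
    rw [hg₄, mulVec_mul_GL (g₂ * g₃)]
    simp only [mulVec_mul_GL g₂ g₃]
    rw [hg₃x v w, mulVec_add, hg₂x, hg₂x, (hDD v).1]
    simp only [mulVec_add, hg₂x, hg₃x, hg₂x, (hDD v).1, (hDD v).2, (hDD0 v).1, (hDD0 v).2, hDu, hD₂u, map_smul,
      smul_zero, pure_zero_left, add_zero, mulVec_zero, hJ, pure_add_right]
    funext i
    simp only [Pi.add_apply]
    ring_nf
    simp only [h2, show (3 : F) = 1 by linear_combination h2, mul_zero, mul_one, add_zero, zero_add]
  -- the map `J` is not scalar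
  have hJsym : ∀ w, γ (J w) w = 0 := fun w => by
    have hS₂sym : ∀ a c, γ (S₂ a) c = γ a (S₂ c) := fun a c => by
      simp only [hS₂, hh.add, hh.smul, add_right hh, smul_right hh, hsymγ f₂ c, hsymγ z₂ c]
      ring
    rw [hJ, hh.add, hSsym, hS₂sym (S w), hsymγ (S₂ w) (S w)]
    linear_combination γ (S w) (S₂ w) * h2
  obtain ⟨h, hJh⟩ : ∃ h, J h ∉ Submodule.span F {h} := by
    by_contra hall
    push Not at hall
    obtain ⟨c, hc⟩ := eigen_submodule (K := J) (P := ⊤) fun x _ => hall x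
    have hJe : J e = e + b • e' := by
      rw [hJ]
      simp only [hS, hS₂, hf₂, hz₂, hh.add, hh.smul, add_right hh, hef, hez, hee', hh.alt, hsymγ f e', he'f,
        hsymγ z e', he'z, hfz, hsymγ f e, map_add, map_smul, mul_zero, mul_one, add_zero, zero_add, zero_smul,
        one_smul, smul_zero, smul_add]
      match_scalars <;> first | linear_combination (0 : F) | linear_combination h2 | linear_combination -h2 |
        linear_combination b * h2 | linear_combination -b * h2
    let L : Wv →ₗ[F] F × F × F × F := (SympTools.form hh f).prod ((SympTools.form hh z).prod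
      ((SympTools.form hh f₂).prod (SympTools.form hh z₂)))
    obtain ⟨x, hx, hx0⟩ := Submodule.exists_mem_ne_zero_of_ne_bot (p := LinearMap.ker L) fun h0 => by
      have h1 := LinearMap.finrank_range_of_inj (LinearMap.ker_eq_bot.1 h0)
      have h3 := Submodule.finrank_le (LinearMap.range L)
      rw [h1, Module.finrank_prod, Module.finrank_prod, Module.finrank_prod, Module.finrank_self,
        Module.finrank_fintype_fun_eq_card, Fintype.card_fin] at h3
      have := hO.hn
      omega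
    have hx' := LinearMap.mem_ker.1 hx
    have x1 : γ x f = 0 := congrArg Prod.fst hx'
    have x2 : γ x z = 0 := congrArg (fun p => p.2.1) hx'
    have x3 : γ x f₂ = 0 := congrArg (fun p => p.2.2.1) hx'
    have x4 : γ x z₂ = 0 := congrArg (fun p => p.2.2.2) hx'
    have hJx : J x = 0 := by
      rw [hJ, show S x = 0 by rw [hS, x1, x2, zero_smul, zero_smul, add_zero],
        show S₂ x = 0 by rw [hS₂, x3, x4, zero_smul, zero_smul, add_zero], map_zero, map_zero, add_zero]
    have hc0 : c = 0 := (smul_eq_zero.1 ((hc x trivial).symm.trans hJx)).resolve_right hx0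
    have h1 := hc e trivial
    rw [hJe, hc0, zero_smul] at h1
    have h3 : γ (e + b • e') z = γ 0 z := by rw [h1]
    rw [hh.add, hh.smul, hez, he'z, SympTools.zero_left hh] at h3
    simp at h3
  obtain ⟨R, hR, hRx⟩ := exists_tv hh h 1
  have hmR := right_mem hO (Subgroup.subset_closure hR)
  set g₅ := kr 1 R * g₄ * (kr 1 R)⁻¹ * g₄ with hg₅
  have hg₄M : g₄ ∈ M := mul_mem (mul_mem hg₂M hg₃M) (mul_mem hg₂M hg₃M)
  have hg₅M : g₅ ∈ M := mul_mem (mul_mem (mul_mem hmR hg₄M) (inv_mem hmR)) hg₄M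
  have hh0 : h ≠ 0 := fun e0 => hJh (by rw [e0, map_zero]; exact zero_mem _)
  refine hno ⟨u, h, J h, hu, hh0, hJsym h, hJh, g₅, hg₅M, eichLin_pure_ext fun v w => ?_⟩
  have hR' : ∀ x, (Units.val R⁻¹) *ᵥ x = x + γ x h • h := fun x => mulVec_inj R (by
    rw [mulVec_inv_cancel, hRx, hh.add, hh.smul, hh.alt, mul_zero, add_zero, one_mul]
    match_scalars <;> first | linear_combination (0 : F) | linear_combination γ x h * h2 | linear_combination -(γ x h) * h2)
  have hJh' : ∀ x, γ (J x) h = γ x (J h) := fun x => by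
    have h1 := hJsym (x + h)
    rw [map_add, hh.add, add_right hh, add_right hh, hJsym, hJsym] at h1
    rw [hh.skew x (J h)]
    linear_combination h1
  have hconj : ∀ v w, (Units.val (kr 1 R * g₄ * (kr 1 R)⁻¹)) *ᵥ pure v w =
      pure v w + pure (β v u • u) ((Units.val R) *ᵥ J ((Units.val R⁻¹) *ᵥ w)) := fun v w => by
    rw [mulVec_mul_GL, mulVec_mul_GL, kr_inv, inv_one, kr_pure, Units.val_one, one_mulVec, hg₄x, mulVec_add,
      kr_pure, kr_pure, mulVec_inv_cancel, Units.val_one, one_mulVec, one_mulVec]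
  rw [hg₅, mulVec_mul_GL _ g₄, hg₄x, mulVec_add, hconj, hconj, eichLin_apply, hP.mul, hP.mul, hP.zero,
    hR' w, map_add, map_smul, hRx (J w + γ w h • J h), hβ.smul, hβ.alt, mul_zero, zero_smul, pure_zero_left,
    add_zero]
  simp only [hh.add, hh.smul, hJh', hh.alt, hJsym, comm_zero hh (hJsym h), mul_zero, zero_smul, add_zero, zero_mul, sub_zero,
    pure_add_right, pure_smul_right, pure_smul_left, one_mul, smul_add]
  match_scalars <;> first | linear_combination (0 : F) | linear_combination (β v u) * h2 | linear_combination -(β v u) * h2 | linear_combination (β v u * γ w (J h)) * h2 | linear_combination -(β v u * γ w (J h)) * h2 | linear_combination (β v u * γ w h) * h2 | linear_combination -(β v u * γ w h) * h2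

/-- the change of a slot map under a transvection -/
theorem slot_diff {z : Wv} {X : Uv →ₗ[F] Uv} (hX : Slot γ M f z X) (u : Uv) (c : F) :
    ∃ Y : Uv →ₗ[F] Uv, Slot γ M f z Y ∧ ∀ v, Y v =
      c • β (X v) u • u - c • β v u • X u - (c * c * β (X u) u) • β v u • u := by
  have hβ := hO.pair.left
  obtain ⟨a, ha, hax⟩ := exists_tv hβ u c
  let Y : Uv →ₗ[F] Uv := c • ((SympTools.form hβ u).comp X).smulRight u - c • (SympTools.form hβ u).smulRight (X u) -
    (c * c * β (X u) u) • (SympTools.form hβ u).smulRight u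
  have hY : ∀ v, Y v = c • β (X v) u • u - c • β v u • X u - (c * c * β (X u) u) • β v u • u := fun v => rfl
  have h1 : Slot γ M f z (X + Y) := Slot.conj hO hno hf0 hf'f hX (Subgroup.subset_closure ha) fun v => by
    simp only [LinearMap.add_apply, hY, hax, map_add, map_smul, hβ.add, hβ.smul, hβ.alt]
    module
  refine ⟨Y, ?_, hY⟩
  have h2 := Slot.add hO hno hf0 hf'f h1 (Slot.neg hO hno hf0 hf'f hX)
  rwa [add_neg_cancel_comm] at h2

/-- slot maps are scalar -/
theorem slot_scalar (hex : (∃ c : F, c ≠ 0 ∧ c ≠ 1) ∨ 3 ≤ k) {z : Wv} (hzf : γ z f = 0)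
    (hz : z ∉ Submodule.span F {f}) {X : Uv →ₗ[F] Uv} (hX : Slot γ M f z X) : ∃ μ : F, ∀ u, X u = μ • u := by
  have hβ := hO.pair.left
  obtain ⟨μ, hμ⟩ := Slot.sym hO hno hf0 hf'f hz hX
  by_cases hskew : ∀ u, β (X u) u = 0
  · have hs : ∀ u v, β (X u) v = β u (X v) := fun u v => by
      have h1 := hskew (u + v)
      rw [map_add, hβ.add, add_right hβ, add_right hβ, hskew, hskew] at h1
      rw [hβ.skew u (X v)]
      linear_combination h1
    by_cases h2 : (2 : F) = 0
    · by_contra hns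
      obtain ⟨u, hu⟩ : ∃ u, X u ∉ Submodule.span F {u} := by
        by_contra hall
        push Not at hall
        obtain ⟨c, hc⟩ := eigen_submodule (K := X) (P := ⊤) fun x _ => hall x
        exact hns ⟨c, fun u => hc u trivial⟩
      haveI : CharP F 2 := CharTwo.of_one_ne_zero_of_two_eq_zero one_ne_zero h2
      obtain ⟨Y, hY, hYx⟩ := slot_diff hO hno hf0 hf'f hX u 1
      have e : Y = pairMap hβ u (X u) := LinearMap.ext fun v => by
        rw [hYx, pairMap_apply, hskew, ← hs v u, mul_zero, zero_smul, sub_zero, one_smul, one_smul, sub_eq_add_neg,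
          ← neg_smul, CharTwo.neg_eq]
      refine no_rank_two hO hno hf0 hf'f h2 hzf hz ?_ (comm_zero hβ (hskew u)) hu (e ▸ hY)
      rintro rfl
      exact hu (by rw [map_zero]; exact zero_mem _)
    · refine ⟨μ / 2, fun u => ?_⟩
      refine sub_eq_zero.1 (hβ.nd _ fun v => ?_)
      have h1 := hμ u v
      rw [← hs u v] at h1
      rw [SympTools.sub_left hβ, hβ.smul]
      field_simp
      linear_combination h1
  exfalso
  push Not at hskew
  obtain ⟨u, hω⟩ := hskew
  have hu0 : u ≠ 0 := by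
    rintro rfl
    exact hω (by rw [map_zero, SympTools.zero_left hβ])
  by_cases hc : ∃ c : F, c ≠ 0 ∧ c ≠ 1
  · obtain ⟨c, hc0, hc1⟩ := hc
    obtain ⟨Y, hY, hYx⟩ := slot_diff hO hno hf0 hf'f hX u c
    obtain ⟨Y₁, hY₁, hY₁x⟩ := slot_diff hO hno hf0 hf'f hX u 1
    have h1 := Slot.add hO hno hf0 hf'f hY (Slot.neg hO hno hf0 hf'f (Slot.smul hO hno hf0 hf'f hzf hz hY₁ c))
    have hne : c * (1 - c) * β (X u) u ≠ 0 := mul_ne_zero (mul_ne_zero hc0 (sub_ne_zero.2 (Ne.symm hc1))) hω
    have h2 := Slot.smul hO hno hf0 hf'f hzf hz h1 (c * (1 - c) * β (X u) u)⁻¹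
    have e : (c * (1 - c) * β (X u) u)⁻¹ • (Y + -(c • Y₁)) = (SympTools.form hβ u).smulRight u :=
      LinearMap.ext fun v => by
        rw [LinearMap.smul_apply, inv_smul_eq_iff₀ hne, LinearMap.add_apply, LinearMap.neg_apply, LinearMap.smul_apply,
          hYx, hY₁x]
        show _ = _ • β v u • u
        module
    exact no_rank_one hO hno hf0 hf'f hzf hz hu0 (e ▸ h2)
  have hk3 : 3 ≤ k := hex.resolve_left hc
  push Not at hc
  have h2 : (2 : F) = 0 := by
    by_contra h2
    exact one_ne_zero (show (1 : F) = 0 by linear_combination hc 2 h2)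
  haveI : CharP F 2 := CharTwo.of_one_ne_zero_of_two_eq_zero one_ne_zero h2
  have hω1 : β (X u) u = 1 := hc _ hω
  obtain ⟨Y, hY, hYx⟩ := slot_diff hO hno hf0 hf'f hX u 1
  set y := X u with hy
  have huy : β u y = 1 := by rw [hβ.skew, CharTwo.neg_eq, hω1]
  obtain ⟨z', hz'u, hz'y, hz'0⟩ : ∃ z', β z' u = 0 ∧ β z' y = 0 ∧ z' ≠ 0 := by
    set S := LinearMap.ker ((SympTools.form hβ u).prod (SympTools.form hβ y)) with hS
    obtain ⟨w, hw, hw0⟩ := Submodule.exists_mem_ne_zero_of_ne_bot (p := S) fun e => by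
      have h1 := LinearMap.finrank_range_add_finrank_ker ((SympTools.form hβ u).prod (SympTools.form hβ y))
      have h3 := Submodule.finrank_le (LinearMap.range ((SympTools.form hβ u).prod (SympTools.form hβ y)))
      rw [Module.finrank_prod, Module.finrank_self] at h3
      rw [← hS, e, finrank_bot, Module.finrank_fintype_fun_eq_card, Fintype.card_fin] at h1
      omega
    have hw' := LinearMap.mem_ker.1 hw
    exact ⟨w, congrArg Prod.fst hw', congrArg Prod.snd hw', hw0⟩
  have hz's : z' ∉ Submodule.span F {u} := fun hm => by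
    obtain ⟨c, rfl⟩ := Submodule.mem_span_singleton.1 hm
    rw [hβ.smul, huy, mul_one] at hz'y
    exact hz'0 (by rw [hz'y, zero_smul])
  obtain ⟨ρ, hρ⟩ : ∃ ρ : F, ∀ v, Y v = β v y • u + β v u • y + ρ • β v u • u := by
    refine ⟨μ - 1, fun v => ?_⟩
    rw [hYx, hω1, show β (X v) u = μ * β v u - β v y by rw [← hμ v u, ← hy]; ring]
    simp only [sub_eq_add_neg, ← neg_smul, CharTwo.neg_eq]
    module
  obtain ⟨a, ha, hax⟩ := exists_tv hβ (u + z') 1
  have hDs : Slot γ M f z (Y + pairMap hβ u z') := by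
    refine Slot.conj hO hno hf0 hf'f hY (Subgroup.subset_closure ha) fun v => ?_
    rw [LinearMap.add_apply, hρ, hρ, pairMap_apply, hax, hax]
    simp only [hβ.add, hβ.smul, add_right hβ, hβ.alt, hz'u, huy, comm_zero hβ hz'u, hz'y, hω1,
      show β y u = 1 from hω1, comm_zero hβ hz'y]
    funext i
    simp only [Pi.add_apply, Pi.smul_apply, smul_eq_mul]
    ring_nf
    simp only [h2, show (3 : F) = 1 by linear_combination h2, show (4 : F) = 0 by linear_combination 2 * h2,
      mul_zero, mul_one, add_zero, zero_add]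
  have h3 := Slot.add hO hno hf0 hf'f hDs (Slot.neg hO hno hf0 hf'f hY)
  rw [add_neg_cancel_comm] at h3
  exact no_rank_two hO hno hf0 hf'f h2 hzf hz hu0 (comm_zero hβ hz'u) hz's h3

end Cfsg.Agent.Forms.Max.TensorRes.SympPlus
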