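import Cfsg.Agent.Lib.Forms.Max.Tensor.SympPairs

/-!
# A root element with pure line generates with the tensor stabiliser all Eichler elements
-/

set_option autoImplicit false
set_option linter.unusedSectionVars false

namespace Cfsg.Agent.Forms.Max.TensorRes.SympPlus

open Matrix Cfsg.Agent.Aschbacher Cfsg.Agent.Forms.Max.TensorMax Cfsg.Agent.Forms.Max.SympTools
  Cfsg.Agent.Classical.Orth Cfsg.Agent.Forms.Max.TensorRes
open Cfsg.Agent.Forms.Max.TensorRes.Unitary (pure_add_left pure_smul_left pure_add_right pure_smul_right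
  pure_zero_left pure_zero_right pure_ne_zero pureR pureR_apply InR Cen)

variable {F : Type*} [Field F] [Fintype F] {k n : ℕ}
variable {β : (Fin k → F) → (Fin k → F) → F} {γ : (Fin n → F) → (Fin n → F) → F}
  {Q : QuadraticForm F (Fin k × Fin n → F)}

local notation "B" => QuadraticMap.polar Q
local notation "Uv" => (Fin k → F)
local notation "Wv" => (Fin n → F)

/-- a root element of the second kind -/
def HasRoot (γ : Wv → Wv → F) (Q : QuadraticForm F (Fin k × Fin n → F))
    (M : Subgroup (GL (Fin k × Fin n) F)) : Prop :=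
  ∃ (d : Uv) (f w : Wv), d ≠ 0 ∧ f ≠ 0 ∧ γ w f = 0 ∧ w ∉ Submodule.span F {f} ∧ pure d w ∈ DS Q M (pure d f)

variable {M : Subgroup (GL (Fin k × Fin n) F)} (hO : Over β γ Q M)
include hO

theorem span_off {h : Wv → Wv → F} (hh : Symp h) {S : Submodule F Wv} {T : Submodule F Wv} {w : Wv}
    {z₀ : Wv} (hz₀ : z₀ ∈ S) (hz₀w : h w z₀ ≠ 0) (hT : ∀ z ∈ S, h w z ≠ 0 → z ∈ T) : S ≤ T := fun z hz => by
  by_cases h1 : h w z = 0
  · have h2 := T.sub_mem (hT _ (S.add_mem hz hz₀) (by rw [add_right hh, h1, zero_add]; exact hz₀w)) (hT z₀ hz₀ hz₀w)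
    simpa using h2
  · exact hT z hz h1

/-- one root element gives a whole slice for its first entry -/
theorem slice_of_root {d : Uv} {f w : Wv} (hwf : γ w f = 0) (hw : w ∉ Submodule.span F {f})
    (hm : pure d w ∈ DS Q M (pure d f)) {z : Wv} (hz : γ z f = 0) :
    pure d z ∈ DSub hO (hO.pair.zero d f) := by
  have hP := hO.pair
  have hh := hP.right
  have hperp : ∀ z, B (pure d f) (pure d z) = 0 := fun z => by rw [hP.mul, hP.left.alt, zero_mul]
  let T := (DSub hO (hP.zero d f)).comap (pureL d)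
  obtain ⟨z₀, hz₀f, hz₀w⟩ := exists_perp_value hh hw
  refine span_off hO hh (S := LinearMap.ker (SympTools.form hh f)) (T := T) (w := w) (z₀ := z₀) hz₀f
    (by rw [hh.skew, hz₀w]; exact neg_ne_zero.2 one_ne_zero) (fun z hzf hwz => ?_) hz
  refine ⟨hperp z, fun t => ?_⟩
  obtain ⟨g, hg, hgx⟩ := hm
  have hneg : -pure d w ∈ DS Q M (pure d f) := ⟨g⁻¹, inv_mem hg, fun x => mulVec_inj g (by
    rw [mulVec_inv_cancel, hgx, eichLin_add (hP.zero d f) (hperp w) (by rw [QuadraticMap.polar_neg_right, hperp, neg_zero]),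
      add_neg_cancel, eichLin_zero])⟩
  obtain ⟨s', hs', hsx'⟩ := exists_tv hh z (t / γ w z)
  have hm'' := DS_map hO (right_mem hO (Subgroup.subset_closure hs')) ⟨g, hg, hgx⟩
  rw [kr_pure, kr_pure, hsx', hsx', Units.val_one, one_mulVec, comm_zero hh hzf, mul_zero, zero_smul, add_zero] at hm''
  have h2 := DS_add hO (hP.zero d f) (hperp _) (by rw [QuadraticMap.polar_neg_right, hperp, neg_zero]) hm'' hneg
  rw [pure_add_right, add_neg_cancel_comm, pure_smul_right, div_mul_cancel₀ _ hwz] at h2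
  exact h2

variable (hR : HasRoot γ Q M)
include hR

/-- every pure vector gets its slice -/
theorem slice_mem {d : Uv} {f z : Wv} (hd : d ≠ 0) (hf : f ≠ 0) (hz : γ z f = 0) :
    pure d z ∈ DSub hO (hO.pair.zero d f) := by
  obtain ⟨d₀, f₀, w, hd₀, hf₀, hwf, hw, hm⟩ := hR
  obtain ⟨a, ha, hau⟩ := exists_move hO.pair.left hd₀ hd
  obtain ⟨b, hb, hbf⟩ := exists_move hO.pair.right hf₀ hf
  have hm' := DS_map hO (mul_mem (left_mem hO ha) (right_mem hO hb)) hm
  rw [kr_mul, mul_one, one_mul, kr_pure, kr_pure, hau, hbf] at hm'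
  refine slice_of_root hO ?_ ?_ hm' hz
  · rw [← hbf, group_isometry hO.pair.right hb, hwf]
  · intro hmem
    obtain ⟨c, hc⟩ := Submodule.mem_span_singleton.1 hmem
    rw [← hbf, ← mulVec_smul] at hc
    exact hw (Submodule.mem_span_singleton.2 ⟨c, mulVec_inj b hc⟩)

theorem move_mem {d d' : Uv} {f w₀ w₁ : Wv} (hd' : d' ≠ 0) (hw₀ : w₀ ≠ 0) (hw : γ w₁ w₀ = 0) (t : F) :
    ∃ g ∈ M, ∀ x, (Units.val g) *ᵥ x = eichLin Q (pure d' w₀) (t • pure d' w₁) x :=
  (slice_mem hO hR hd' hw₀ hw).2 t

/-- the orthogonal of a pure vector -/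
theorem perp_le {d : Uv} {f : Wv} (hd : d ≠ 0) (hf : f ≠ 0) {x : Fin k × Fin n → F}
    (hx : B x (pure d f) = 0) : x ∈ DSub hO (hO.pair.zero d f) := by
  have hP := hO.pair
  have hh := hP.right
  have hβ := hP.left
  set D := DSub hO (hP.zero d f) with hD
  -- stage one
  have hX : ∀ u w₁, γ w₁ f = 0 → pure u w₁ ∈ D := by
    intro u w₁ hw₁
    obtain ⟨u₀, hu₀⟩ := exists_value_one hβ hd
    let T := D.comap (pureR w₁)
    suffices h : ∀ d', β d d' ≠ 0 → pure d' w₁ ∈ D by
      by_cases hu : β d u = 0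
      · have hne : β d u₀ ≠ 0 := by rw [hβ.skew, hu₀]; exact neg_ne_zero.2 one_ne_zero
        have h1 := D.sub_mem (h (u + u₀) (by rw [add_right hβ, hu, zero_add]; exact hne)) (h u₀ hne)
        rwa [pure_add_left, add_sub_cancel_right] at h1
      · exact h u hu
    intro d' hd'
    have hd'0 : d' ≠ 0 := fun e => hd' (by rw [e, zero_right hβ])
    by_cases hw₁0 : w₁ = 0
    · rw [hw₁0, pure_zero_right]; exact D.zero_mem
    obtain ⟨w₀, hw₀, hw₀s⟩ : ∃ w₀, (γ w₀ f = 0 ∧ γ w₀ w₁ = 0) ∧ w₀ ∉ Submodule.span F {f, w₁} := by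
      set S := LinearMap.ker (SympTools.form hh f) ⊓ LinearMap.ker (SympTools.form hh w₁) with hS
      have hdim : n ≤ Module.finrank F S + 2 := by
        have e : S = LinearMap.ker ((SympTools.form hh f).prod (SympTools.form hh w₁)) := by
          rw [hS, LinearMap.ker_prod]
        have h1 := LinearMap.finrank_range_add_finrank_ker ((SympTools.form hh f).prod (SympTools.form hh w₁))
        have h2 := Submodule.finrank_le (LinearMap.range ((SympTools.form hh f).prod (SympTools.form hh w₁)))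
        rw [Module.finrank_prod, Module.finrank_self] at h2
        rw [Module.finrank_fintype_fun_eq_card, Fintype.card_fin] at h1
        rw [e]; omega
      by_contra hc
      push Not at hc
      have hle : S ≤ Submodule.span F {f, w₁} := fun z hz => hc z ⟨hz.1, hz.2⟩
      have h3 := Submodule.finrank_mono hle
      have h4 : Module.finrank F (Submodule.span F ({f, w₁} : Set Wv)) ≤ 2 := by
        classical
        have := finrank_span_le_card (R := F) ({f, w₁} : Set Wv)
        refine this.trans ?_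
        rw [Set.toFinset_insert, Set.toFinset_singleton]
        exact Finset.card_le_two
      have := hO.hn
      omega
    obtain ⟨y, hyf, hyw₁, hyw₀⟩ := exists_pair_value hh hw₀s
    have hw₀0 : w₀ ≠ 0 := fun e => hw₀s (e ▸ zero_mem _)
    obtain ⟨g, hg, hgx⟩ := move_mem hO hR (d := d) (f := f) hd'0 hw₀0 (comm_zero hh hw₀.2) (β d d')⁻¹
    have hga : (Units.val g) *ᵥ pure d f = pure d f := by
      rw [hgx, eichLin_apply, QuadraticMap.polar_smul_right, hP.mul, hP.mul, comm_zero hh hw₀.1, comm_zero hh hw₁]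
      simp
    have hb := slice_mem hO hR hd hf hyf
    have h1 := D.sub_mem (DSub_map hO hg hga hb) hb
    rw [hgx, eichLin_apply, QuadraticMap.polar_smul_right, hP.mul, hP.mul, hyw₀, hyw₁, mul_one, mul_zero,
      smul_zero, zero_smul, sub_zero, Classical.Orth.map_smul', hP.zero, mul_zero, zero_mul, zero_smul, sub_zero,
      add_sub_cancel_left, smul_inv_smul₀ hd'] at h1
    exact h1
  obtain ⟨f', -, hf'f⟩ := exists_partner hh hf
  -- stage two
  have hz : ∀ z, β z d = 0 → pure z f' ∈ D := by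
    intro z hzd
    rcases eq_or_ne z 0 with rfl | hz0
    · rw [pure_zero_left]; exact D.zero_mem
    have hf'0 : f' ≠ 0 := fun e => by rw [e, zero_left hh] at hf'f; exact zero_ne_one hf'f
    obtain ⟨w₀, hw₀f, hw₀f', hw₀0⟩ : ∃ w₀, γ w₀ f = 0 ∧ γ w₀ f' = 0 ∧ w₀ ≠ 0 := by
      set S := LinearMap.ker ((SympTools.form hh f).prod (SympTools.form hh f')) with hS
      obtain ⟨w, hw, hw0⟩ := Submodule.exists_mem_ne_zero_of_ne_bot (p := S) fun e => by
        have h1 := LinearMap.finrank_range_add_finrank_ker ((SympTools.form hh f).prod (SympTools.form hh f'))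
        have h2 := Submodule.finrank_le (LinearMap.range ((SympTools.form hh f).prod (SympTools.form hh f')))
        rw [Module.finrank_prod, Module.finrank_self] at h2
        rw [← hS, e, finrank_bot, Module.finrank_fintype_fun_eq_card, Fintype.card_fin] at h1
        have := hO.hn
        omega
      have hw' := LinearMap.mem_ker.1 hw
      exact ⟨w, congrArg Prod.fst hw', congrArg Prod.snd hw', hw0⟩
    have hw₀s : w₀ ∉ Submodule.span F {f, f'} := fun hm => by
      obtain ⟨a, b, hab⟩ := Submodule.mem_span_pair.1 hm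
      have e1 := hw₀f
      have e2 := hw₀f'
      rw [← hab, hh.add, hh.smul, hh.smul, hh.alt, hf'f] at e1
      rw [← hab, hh.add, hh.smul, hh.smul, hh.alt, hh.skew f f', hf'f] at e2
      refine hw₀0 ?_
      rw [← hab, show a = 0 by linear_combination -e2, show b = 0 by linear_combination e1, zero_smul, zero_smul,
        add_zero]
    obtain ⟨y, hyf, hyf', hyw₀⟩ := exists_pair_value hh hw₀s
    obtain ⟨u, hu⟩ := exists_value_one hβ hz0
    obtain ⟨g, hg, hgx⟩ := move_mem hO hR (d := d) (f := f) hz0 hw₀0 (comm_zero hh hw₀f') 1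
    have hga : (Units.val g) *ᵥ pure d f = pure d f := by
      rw [hgx, eichLin_apply, QuadraticMap.polar_smul_right, hP.mul, hP.mul, comm_zero hβ hzd]
      simp
    have hb := hX u y hyf
    have h1 := D.sub_mem (DSub_map hO hg hga hb) hb
    rw [hgx, eichLin_apply, one_smul, hP.mul, hP.mul, hu, hyw₀, hyf', mul_one, mul_zero, zero_smul, sub_zero,
      hP.zero, zero_mul, zero_smul, sub_zero, one_smul, add_sub_cancel_left] at h1
    exact h1
  have e : x = (∑ i, pure (Pi.single i 1) (TensorMax.row x i - γ (TensorMax.row x i) f • f')) +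
      pure (eta hP f x) f' := by
    rw [← pureR_apply f' (eta hP f x), pi_eq_sum_univ' (eta hP f x), map_sum, ← Finset.sum_add_distrib]
    conv_lhs => rw [sum_rows x]
    refine Finset.sum_congr rfl fun i _ => ?_
    rw [map_smul, pureR_apply, eta_apply, ← pure_smul_right, ← pure_add_right, sub_add_cancel]
  rw [e]
  refine Submodule.add_mem _ (Submodule.sum_mem _ fun i _ => hX _ _ ?_) (hz _ ?_)
  · rw [SympTools.sub_left hh, hh.smul, hf'f, mul_one, sub_self]
  · rw [← form_pure hP]; exact hx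

/-- all Eichler elements lie in `M` -/
theorem eich_all {v w : Fin k × Fin n → F} (hv : Q v = 0) (hvw : B v w = 0) : w ∈ DS Q M v := by
  have hP := hO.pair
  have hk := hO.hk
  rcases eq_or_ne v 0 with rfl | hv0
  · refine ⟨1, one_mem M, fun x => ?_⟩
    rw [Units.val_one, one_mulVec, eichLin_apply]
    simp
  obtain ⟨d, f, hne⟩ : ∃ d f, B v (pure d f) ≠ 0 := by
    by_contra hc
    push Not at hc
    refine hv0 (hP.nd.1 v fun y => ?_)
    rw [QuadraticMap.polarBilin_apply_apply, sum_rows y, QuadraticMap.polar_comm, polar_sum_left hP]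
    exact Finset.sum_eq_zero fun i _ => by rw [QuadraticMap.polar_comm]; exact hc _ _
  set d₁ := (B v (pure d f))⁻¹ • d with hd₁
  have hva : B v (pure d₁ f) = 1 := by
    rw [hd₁, pure_smul_left, QuadraticMap.polar_smul_right, smul_eq_mul, inv_mul_cancel₀ hne]
  have hd₁0 : d₁ ≠ 0 := fun e => by rw [e, pure_zero_left, QuadraticMap.polar_zero_right] at hva; exact zero_ne_one hva
  have hf0 : f ≠ 0 := fun e => by rw [e, pure_zero_right, QuadraticMap.polar_zero_right] at hva; exact zero_ne_one hva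
  obtain ⟨d', -, hd'⟩ := exists_partner hP.left hd₁0
  obtain ⟨f', -, hf'⟩ := exists_partner hP.right hf0
  set a := pure d₁ f
  set v₀ := pure d' f' with hv₀
  have hv₀a : B v₀ a = 1 := by rw [hv₀, hP.mul, hd', hf', mul_one]
  have hb := perp_le hO hR hd₁0 hf0 (x := v - v₀) (by rw [QuadraticMap.polar_sub_left, hva, hv₀a, sub_self])
  obtain ⟨g, hg, hgx⟩ := hb.2 1
  rw [one_smul] at hgx
  have hgv : (Units.val g) *ᵥ v₀ = v := by
    rw [hgx, eichLin_apply, hv₀a, one_smul, mul_one, add_sub_cancel, sub_sub, ← add_smul]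
    have h1 : Q v₀ + Q (v - v₀) + B v₀ (v - v₀) = Q v := by rw [← map_add', add_sub_cancel]
    rw [hv, hP.zero, zero_add, add_comm] at h1
    rw [h1, zero_smul, sub_zero]
  -- transport
  set w₀ := (Units.val g⁻¹) *ᵥ w with hw₀
  have hd'0 : d' ≠ 0 := fun e => by rw [e, zero_left hP.left] at hd'; exact zero_ne_one hd'
  have hf'0 : f' ≠ 0 := fun e => by rw [e, zero_left hP.right] at hf'; exact zero_ne_one hf'
  have hperp : B w₀ v₀ = 0 := by
    rw [← polar_M hO hg, hw₀, mulVec_inv_cancel, hgv, QuadraticMap.polar_comm, hvw]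
  have h2 := (perp_le hO hR hd'0 hf'0 (x := w₀) hperp).2 1
  rw [one_smul] at h2
  have h3 := DS_map hO hg h2
  rw [← hv₀, hgv, hw₀, mulVec_inv_cancel] at h3
  exact h3

omit hR in
/-- root elements of the first kind give root elements of the second kind -/
theorem root_of_central {d v : Uv} {f : Wv} (hd : d ≠ 0) (hf : f ≠ 0) (hvd : β v d = 0)
    (hv : v ∉ Submodule.span F {d}) (hm : pure v f ∈ DS Q M (pure d f)) : HasRoot γ Q M := by
  have hP := hO.pair
  have hh := hP.right
  have hβ := hP.left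
  -- the slices for all pure vectors
  have hperp : ∀ {d z : Uv} {f : Wv}, B (pure d f) (pure z f) = 0 := fun {d z f} => by
    rw [hP.mul, hh.alt, mul_zero]
  have hslice : ∀ {d v : Uv} {f : Wv}, β v d = 0 → v ∉ Submodule.span F {d} → pure v f ∈ DS Q M (pure d f) →
      ∀ z, β z d = 0 → pure z f ∈ DSub hO (hP.zero d f) := by
    intro d v f hvd hv hm z hz
    obtain ⟨z₀, hz₀, hz₀v⟩ := exists_perp_value hβ hv
    obtain ⟨g, hg, hgx⟩ := hm
    have hneg : -pure v f ∈ DS Q M (pure d f) := ⟨g⁻¹, inv_mem hg, fun x => mulVec_inj g (by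
      rw [mulVec_inv_cancel, hgx, eichLin_add (hP.zero d f) hperp (by rw [QuadraticMap.polar_neg_right, hperp, neg_zero]),
        add_neg_cancel, eichLin_zero])⟩
    suffices hh' : ∀ z, β z d = 0 → β v z ≠ 0 → pure z f ∈ DSub hO (hP.zero d f) by
      by_cases h1 : β v z = 0
      · have hne : β v z₀ ≠ 0 := by rw [hβ.skew, hz₀v]; exact neg_ne_zero.2 one_ne_zero
        have h2 := (DSub hO (hP.zero d f)).sub_mem (hh' (z + z₀) (by rw [hβ.add, hz, hz₀, add_zero])
          (by rw [add_right hβ, h1, zero_add]; exact hne)) (hh' z₀ hz₀ hne)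
        rwa [pure_add_left, add_sub_cancel_right] at h2
      · exact hh' z hz h1
    intro z hz hvz
    refine ⟨hperp, fun t => ?_⟩
    obtain ⟨s, hs, hsx⟩ := exists_tv hβ z (t / β v z)
    have hm' := DS_map hO (left_mem hO (Subgroup.subset_closure hs)) ⟨g, hg, hgx⟩
    rw [kr_pure, kr_pure, hsx, hsx, Units.val_one, one_mulVec, comm_zero hβ hz, mul_zero, zero_smul, add_zero] at hm'
    have h2 := DS_add hO (hP.zero d f) hperp (by rw [QuadraticMap.polar_neg_right, hperp, neg_zero]) hm' hneg
    rw [pure_add_left, add_neg_cancel_comm, pure_smul_left, div_mul_cancel₀ _ hvz] at h2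
    exact h2
  obtain ⟨z, hzd, hzv⟩ := exists_perp_value hβ hv
  have hz0 : z ≠ 0 := fun e => by rw [e, zero_left hβ] at hzv; exact zero_ne_one hzv
  have hv0 : v ≠ 0 := fun e => hv (e ▸ zero_mem _)
  have hzmem := hslice hvd hv hm z hzd
  have hdv : d ∉ Submodule.span F {v} := fun hm' => by
    obtain ⟨c, hc⟩ := Submodule.mem_span_singleton.1 hm'
    rcases eq_or_ne c 0 with rfl | hc0
    · exact hd (by rw [← hc, zero_smul])
    · exact hv (Submodule.mem_span_singleton.2 ⟨c⁻¹, by rw [← hc, inv_smul_smul₀ hc0]⟩)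
  have hall : ∀ w, γ f w = 1 → pure d w ∈ DSub hO (hP.zero d f) := by
    intro w hw
    have hw0 : w ≠ 0 := fun e => by rw [e, zero_right hh] at hw; exact zero_ne_one hw
    -- the pair at `w`
    obtain ⟨a, ha, had⟩ := exists_move hβ hd hv0
    obtain ⟨b, hb, hbf⟩ := exists_move hh hf hw0
    have hm' := DS_map hO (mul_mem (left_mem hO ha) (right_mem hO hb)) hm
    rw [kr_mul, mul_one, one_mul, kr_pure, kr_pure, had, hbf] at hm'
    have hv2 : (Units.val a) *ᵥ v ∉ Submodule.span F {v} := fun hm'' => by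
      obtain ⟨c, hc⟩ := Submodule.mem_span_singleton.1 hm''
      rw [← had, ← mulVec_smul] at hc
      exact hv (Submodule.mem_span_singleton.2 ⟨c, (mulVec_inj a hc).trans had⟩)
    have hv3 : β ((Units.val a) *ᵥ v) v = 0 := by
      conv_lhs => arg 2; rw [← had]
      rw [group_isometry hβ ha, hvd]
    obtain ⟨g, hg, hgx⟩ := (hslice hv3 hv2 hm' d (comm_zero hβ hvd)).2 1
    have hga : (Units.val g) *ᵥ pure d f = pure d f := by
      rw [hgx, eichLin_apply, one_smul, hP.mul, hP.mul, comm_zero hβ hvd, hβ.alt]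
      simp
    have h1 := (DSub hO (hP.zero d f)).sub_mem (DSub_map hO hg hga hzmem) hzmem
    rw [hgx, eichLin_apply, one_smul, hP.mul, hP.mul, hzv, hw, hzd, mul_one, zero_mul, zero_smul, sub_zero,
      hP.zero, zero_mul, zero_smul, sub_zero, one_smul, add_sub_cancel_left] at h1
    exact h1
  obtain ⟨f', hff', -⟩ := exists_partner hh hf
  have hf'1 : γ f (-f') = 1 := by rw [SympTools.neg_right hh, hff', neg_neg]
  obtain ⟨w', hw'f, hw'⟩ : ∃ w, γ w f = 0 ∧ w ∉ Submodule.span F {f} := by
    by_contra hc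
    push Not at hc
    have hle : LinearMap.ker (SympTools.form hh f) ≤ Submodule.span F {f} := fun z hz => hc z hz
    have h1 := LinearMap.finrank_range_add_finrank_ker (SympTools.form hh f)
    have h2 := Submodule.finrank_le (LinearMap.range (SympTools.form hh f))
    have h3 := Submodule.finrank_mono hle
    rw [Module.finrank_self] at h2
    rw [finrank_span_singleton hf] at h3
    rw [Module.finrank_fintype_fun_eq_card, Fintype.card_fin] at h1
    have := hO.hn
    omega
  have h2 := (DSub hO (hP.zero d f)).sub_mem (hall (-f' + w') (by rw [add_right hh, hf'1, comm_zero hh hw'f, add_zero]))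
    (hall _ hf'1)
  rw [pure_add_right, add_sub_cancel_left] at h2
  obtain ⟨g, hg, hgx⟩ := h2.2 1
  exact ⟨d, f, w', hd, hf, hw'f, hw', g, hg, fun x => by rw [hgx, one_smul]⟩

end Cfsg.Agent.Forms.Max.TensorRes.SympPlus
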