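import Cfsg.Agent.Lib.Forms.Max.Tensor.SympDichotomy

/-!
# The stabiliser of `U ⊗ f` in an overgroup without root elements consists of Kronecker products
-/

set_option autoImplicit false
set_option linter.unusedSectionVars false

namespace Cfsg.Agent.Forms.Max.TensorRes.SympPlus

open Matrix Cfsg.Agent.Aschbacher Cfsg.Agent.Forms.Max.TensorMax Cfsg.Agent.Forms.Max.SympTools
  Cfsg.Agent.Classical.Orth Cfsg.Agent.Forms.Max.TensorRes
open Cfsg.Agent.Forms.Max.TensorRes.Unitary (pure_add_left pure_smul_left pure_add_right pure_smul_right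
  pure_zero_left pure_zero_right pure_ne_zero pureR pureR_apply InR Cen)

variable {F : Type*} [Field F] [Fintype F] {k n : ℕ}
variable {β : (Fin k → F) → (Fin k → F) → F} {γ : (Fin n → F) → (Fin n → F) → F}
  {Q : QuadraticForm F (Fin k × Fin n → F)}

local notation "B" => QuadraticMap.polar Q
local notation "Uv" => (Fin k → F)
local notation "Wv" => (Fin n → F)

variable {M : Subgroup (GL (Fin k × Fin n) F)} (hO : Over β γ Q M) (hno : ¬ HasRoot γ Q M)
  (hex : (∃ c : F, c ≠ 0 ∧ c ≠ 1) ∨ 3 ≤ k)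
include hO hno hex

theorem toGL {m : ℕ} (T : (Fin m → F) →ₗ[F] (Fin m → F)) (hT : Function.Injective T) :
    ∃ a : GL (Fin m) F, ∀ x, (Units.val a) *ᵥ x = T x := by
  have hu : IsUnit (LinearMap.toMatrix' T) := Matrix.mulVec_injective_iff_isUnit.1 fun x y e => hT (by
    simpa [LinearMap.toMatrix'_mulVec] using e)
  exact ⟨hu.unit, fun x => by rw [IsUnit.unit_spec, LinearMap.toMatrix'_mulVec]⟩

/-- elements stabilising `U ⊗ f` are Kronecker products -/
theorem kron_of_stab {f : Wv} (hf0 : f ≠ 0) {g : GL (Fin k × Fin n) F} (hg : g ∈ M)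
    (hx : ∀ u, ∃ u', (Units.val g) *ᵥ pure u f = pure u' f) : g ∈ Cfsg.Geo.kroneckerSubgroup k n F := by
  have hP := hO.pair
  have hh := hP.right
  have hβ := hP.left
  obtain ⟨f', hff', hf'f⟩ := exists_partner hh hf0
  have hff'' : γ f (-f') = 1 := by rw [SympTools.neg_right hh, hff', neg_neg]
  let A : Uv →ₗ[F] Uv := (eta hP (-f')).comp ((Matrix.toLin' (Units.val g)).comp (pureR f))
  have hA : ∀ u, (Units.val g) *ᵥ pure u f = pure (A u) f := by
    intro u
    obtain ⟨u', hu'⟩ := hx u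
    have e : A u = u' := by
      show eta hP (-f') ((Matrix.toLin' (Units.val g)) (pure u f)) = u'
      rw [Matrix.toLin'_apply, hu', eta_pure, hff'', one_smul]
    rw [hu', e]
  have hAinj : Function.Injective A := (injective_iff_map_eq_zero A).2 fun u hu => by
    by_contra h0
    have h1 := hA u
    rw [hu, pure_zero_left] at h1
    exact mulVec_ne_zero g (pure_ne_zero h0 hf0) h1
  have hAsurj := LinearMap.injective_iff_surjective.1 hAinj
  have hstab : ∀ y, eta hP f y = 0 → eta hP f ((Units.val g) *ᵥ y) = 0 := fun y hy =>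
    eta_eq_zero hP fun v => by
      obtain ⟨v', rfl⟩ := hAsurj v
      rw [← hA, polar_M hO hg, form_pure hP, hy, SympTools.zero_left hβ]
  have hgi : ∀ u, ∃ u', (Units.val g⁻¹) *ᵥ pure u f = pure u' f := fun u => by
    obtain ⟨u', rfl⟩ := hAsurj u
    exact ⟨u', by rw [← hA, inv_mulVec_cancel]⟩
  have hginv : ∀ y, eta hP f y = 0 → eta hP f ((Units.val g⁻¹) *ᵥ y) = 0 := fun y hy =>
    eta_eq_zero hP fun v => by
      rw [← polar_M hO hg, mulVec_inv_cancel, hA, form_pure hP, hy, SympTools.zero_left hβ]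
  -- conjugates of Siegel elements of the second factor
  have hq : ∀ w₀, γ w₀ f = 0 → ∃ φ : Wv →ₗ[F] F, ∀ u w, γ w f = 0 → ∀ i,
      φ (TensorMax.row ((Units.val g) *ᵥ pure u w) i) = γ w w₀ * A u i := by
    intro w₀ hw₀
    obtain ⟨s, hs, hsx⟩ := exists_siegel hh (comm_zero hh hw₀)
    have hqM := right_mem hO hs
    have hsw : ∀ w, γ w f = 0 → (Units.val s) *ᵥ w = w + γ w w₀ • f := fun w hw => by
      rw [hsx, hw, zero_smul, add_zero]
    have hsf : (Units.val s) *ᵥ f = f := by rw [hsw f (hh.alt f), comm_zero hh hw₀, zero_smul, add_zero]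
    have hqx : ∀ u, (Units.val (kr (1 : GL (Fin k) F) s)) *ᵥ pure u f = pure u f := fun u => by
      rw [kr_pure, hsf, Units.val_one, one_mulVec]
    have hqy : ∀ y, eta hP f y = 0 → (Units.val (kr (1 : GL (Fin k) F) s)) *ᵥ y = y + pure (eta hP w₀ y) f :=
      fun y hy => TensorMax.ext_row fun i => by
        rw [kr_coe, Units.val_one, row_one_kron, hsw _ ((eta_zero_iff hP).1 hy i)]
        show _ = TensorMax.row y i + TensorMax.row (pure (eta hP w₀ y) f) i
        rw [row_pure, eta_apply]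
    set d := g * kr 1 s * g⁻¹ with hd
    have hdM : d ∈ M := mul_mem (mul_mem hg hqM) (inv_mem hg)
    have hdR : InR γ f d := by
      refine ⟨fun u => ?_, fun u w hw => ?_⟩
      · obtain ⟨u', hu'⟩ := hgi u
        rw [hd, mulVec_mul_GL, mulVec_mul_GL, hu', hqx, ← hu', mulVec_inv_cancel]
      · have hy : eta hP f ((Units.val g⁻¹) *ᵥ pure u w) = 0 := hginv _ (by rw [eta_pure, hw, zero_smul])
        refine ⟨A (eta hP w₀ ((Units.val g⁻¹) *ᵥ pure u w)), ?_⟩
        rw [hd, mulVec_mul_GL, mulVec_mul_GL, hqy _ hy, mulVec_add, mulVec_inv_cancel, hA]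
    obtain ⟨a, b, hab⟩ := exists_kr (kron_of_InR hO hno hex hf0 hdM hdR)
    set c := γ ((Units.val b) *ᵥ f) (-f') with hc
    have ha : ∀ u, c • ((Units.val a) *ᵥ u) = u := fun u => by
      have h1 := congrArg (eta hP (-f')) (hdR.1 u)
      rwa [hab, kr_pure, eta_pure, eta_pure, hff'', one_smul] at h1
    obtain ⟨i₀⟩ : Nonempty (Fin k) := ⟨⟨0, by have := hO.hk; omega⟩⟩
    have hc0 : c ≠ 0 := fun e => by
      have h1 := congrFun (ha (Pi.single i₀ 1)) i₀
      rw [e, zero_smul, Pi.zero_apply, Pi.single_eq_same] at h1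
      exact zero_ne_one h1
    have hdpure : ∀ u w, (Units.val d) *ᵥ pure u w = pure u (c⁻¹ • ((Units.val b) *ᵥ w)) := fun u w => by
      rw [hab, kr_pure, show (Units.val a) *ᵥ u = c⁻¹ • u by
        conv_rhs => rw [← ha u]
        rw [inv_smul_smul₀ hc0], pure_smul_left, pure_smul_right]
    let φ : Wv →ₗ[F] F :=
      (SympTools.form hh (-f')).comp (c⁻¹ • Matrix.toLin' (Units.val b) - LinearMap.id)
    refine ⟨φ, fun u w hw i => ?_⟩
    have hy : eta hP f (pure u w) = 0 := by rw [eta_pure, hw, zero_smul]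
    have e := mulVec_mul_GL d g (pure u w)
    rw [show d * g = g * kr 1 s by rw [hd, inv_mul_cancel_right], mulVec_mul_GL, hqy _ hy, eta_pure,
      mulVec_add, hA, map_smul] at e
    have e2 := congrArg (fun z => γ (TensorMax.row z i) (-f')) e
    have hrow : TensorMax.row ((Units.val d) *ᵥ ((Units.val g) *ᵥ pure u w)) i =
        c⁻¹ • ((Units.val b) *ᵥ TensorMax.row ((Units.val g) *ᵥ pure u w) i) := by
      conv_lhs => rw [sum_rows ((Units.val g) *ᵥ pure u w), mulVec_sum, row_sum]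
      rw [Finset.sum_eq_single i]
      · rw [hdpure, row_pure, Pi.single_eq_same, one_smul]
      · intro j _ hj; rw [hdpure, row_pure, Pi.single_eq_of_ne (Ne.symm hj), zero_smul]
      · simp
    rw [hrow, show TensorMax.row ((Units.val g) *ᵥ pure u w + pure (γ w w₀ • A u) f) i =
      TensorMax.row ((Units.val g) *ᵥ pure u w) i + TensorMax.row (pure (γ w w₀ • A u) f) i from rfl, row_pure,
      hh.add, hh.smul (((γ w w₀) • A u) i), hff'', mul_one, Pi.smul_apply, smul_eq_mul] at e2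
    show γ (c⁻¹ • ((Units.val b) *ᵥ TensorMax.row ((Units.val g) *ᵥ pure u w) i) - TensorMax.row ((Units.val g) *ᵥ pure u w) i) (-f') = _
    rw [SympTools.sub_left hh, ← e2]
    ring
  choose φ hφ using hq
  have hsep : ∀ z, γ z f = 0 → (∀ w₀ hw₀, φ w₀ hw₀ z = 0) → z ∈ Submodule.span F {f} := by
    intro z hz hzero
    by_contra hzs
    obtain ⟨i₀⟩ : Nonempty (Fin k) := ⟨⟨0, by have := hO.hk; omega⟩⟩
    set y := (Units.val g⁻¹) *ᵥ pure (Pi.single i₀ 1) z with hy
    have hy0 : eta hP f y = 0 := hginv _ (by rw [eta_pure, hz, zero_smul])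
    have hyz : ∀ w₀, γ w₀ f = 0 → eta hP w₀ y = 0 := by
      intro w₀ hw₀
      have hsum : A (eta hP w₀ y) = 0 := by
        funext i
        have h1 : ∑ j, φ w₀ hw₀ (TensorMax.row ((Units.val g) *ᵥ pure (Pi.single j 1) (TensorMax.row y j)) i) =
            φ w₀ hw₀ (TensorMax.row (pure (Pi.single i₀ 1) z) i) := by
          rw [← map_sum, ← row_sum, ← mulVec_sum, ← sum_rows, hy, mulVec_inv_cancel]
        rw [row_pure, map_smul, hzero w₀ hw₀, smul_zero] at h1
        rw [pi_eq_sum_univ' (eta hP w₀ y), map_sum, Finset.sum_apply, Pi.zero_apply, ← h1]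
        refine Finset.sum_congr rfl fun j _ => ?_
        rw [hφ w₀ hw₀ _ _ ((eta_zero_iff hP).1 hy0 j), map_smul, Pi.smul_apply, smul_eq_mul]
        rfl
      exact hAinj (hsum.trans (map_zero A).symm)
    obtain ⟨u, hu⟩ := exists_of_perp hP hyz
    have h2 : pure (Pi.single i₀ 1) z = pure (A u) f := by rw [← hA, ← hu, hy, mulVec_inv_cancel]
    have h3 := congrArg (fun x => TensorMax.row x i₀) h2
    simp only [row_pure, Pi.single_eq_same, one_smul] at h3
    exact hzs (h3 ▸ Submodule.smul_mem _ _ (Submodule.mem_span_singleton_self f))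
  -- the action on the quotient
  have hk0 : 0 < k := by have := hO.hk; omega
  obtain ⟨u₁, hu₁⟩ := hAsurj (Pi.single (⟨0, hk0⟩ : Fin k) 1)
  let C : Wv →ₗ[F] Wv :=
    (comb (Pi.single (⟨0, hk0⟩ : Fin k) 1)).comp ((Matrix.toLin' (Units.val g)).comp (pureL u₁))
  have hCrow : ∀ w, C w = TensorMax.row ((Units.val g) *ᵥ pure u₁ w) ⟨0, hk0⟩ := fun w => by
    show ∑ i, _ • TensorMax.row _ i = _
    rw [Finset.sum_eq_single (⟨0, hk0⟩ : Fin k)]
    · rw [Pi.single_eq_same, one_smul, LinearMap.comp_apply, Matrix.toLin'_apply, pureL_apply]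
    · intro j _ hj; rw [Pi.single_eq_of_ne hj, zero_smul]
    · simp
  have hCf : ∀ w, γ w f = 0 → γ (C w) f = 0 := fun w hw => by
    rw [hCrow]
    exact (eta_zero_iff hP).1 (hstab _ (by rw [eta_pure, hw, zero_smul])) _
  have hCphi : ∀ w, γ w f = 0 → ∀ w₀ hw₀, φ w₀ hw₀ (C w) = γ w w₀ := fun w hw w₀ hw₀ => by
    rw [hCrow, hφ w₀ hw₀ u₁ w hw, hu₁, Pi.single_eq_same, mul_one]
  have hmod : ∀ u w, γ w f = 0 → ∃ x, (Units.val g) *ᵥ pure u w = pure (A u) (C w) + pure x f := by
    intro u w hw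
    set y := (Units.val g) *ᵥ pure u w - pure (A u) (C w) with hy
    have hy' : ∀ i, TensorMax.row y i ∈ Submodule.span F {f} := fun i => by
      have e : TensorMax.row y i = TensorMax.row ((Units.val g) *ᵥ pure u w) i - A u i • C w := rfl
      refine hsep _ ?_ fun w₀ hw₀ => ?_
      · rw [e, SympTools.sub_left hh, hh.smul, hCf w hw, mul_zero, sub_zero]
        exact (eta_zero_iff hP).1 (hstab _ (by rw [eta_pure, hw, zero_smul])) i
      · rw [e, map_sub, map_smul, hφ w₀ hw₀ u w hw, hCphi w hw w₀ hw₀, smul_eq_mul]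
        ring
    obtain ⟨x, hx⟩ := exists_pure_of_row hy'
    exact ⟨x, by rw [← hx, hy, add_sub_cancel]⟩
  -- similitudes
  have hform : ∀ u u' w w', γ w f = 0 → γ w' f = 0 →
      β (A u) (A u') * γ (C w) (C w') = β u u' * γ w w' := by
    intro u u' w w' hw hw'
    obtain ⟨x, hx⟩ := hmod u w hw
    obtain ⟨x', hx'⟩ := hmod u' w' hw'
    have h1 := polar_M hO hg (pure u w) (pure u' w')
    rw [hP.mul, hx, hx', QuadraticMap.polar_add_left, QuadraticMap.polar_add_right, QuadraticMap.polar_add_right,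
      hP.mul, hP.mul, hP.mul, hP.mul, hCf w hw, comm_zero hh (hCf w' hw'), hh.alt] at h1
    linear_combination h1
  obtain ⟨w₁, hw₁, hw₁f⟩ : ∃ w, γ w f = 0 ∧ w ∉ Submodule.span F {f} := by
    by_contra hc
    push Not at hc
    have hle : LinearMap.ker (SympTools.form hh f) ≤ Submodule.span F {f} := fun z hz => hc z hz
    have h1 := LinearMap.finrank_range_add_finrank_ker (SympTools.form hh f)
    have h2 := Submodule.finrank_le (LinearMap.range (SympTools.form hh f))
    have h3 := Submodule.finrank_mono hle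
    rw [Module.finrank_self] at h2
    rw [finrank_span_singleton hf0] at h3
    rw [Module.finrank_fintype_fun_eq_card, Fintype.card_fin] at h1
    have := hO.hn
    omega
  obtain ⟨w₂, hw₂, hw₂₁⟩ := exists_perp_value hh hw₁f
  have hu₀ : (Pi.single (⟨0, hk0⟩ : Fin k) (1 : F) : Uv) ≠ 0 := fun e => by simpa using congrFun e ⟨0, hk0⟩
  obtain ⟨u₂, hu₂⟩ := exists_value_one hβ hu₀
  set u₃ : Uv := Pi.single (⟨0, hk0⟩ : Fin k) (1 : F)
  set m := γ (C w₂) (C w₁) with hm
  have hm0 : m ≠ 0 := fun e => by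
    have h1 := hform u₂ u₃ w₂ w₁ hw₂ hw₁
    rw [← hm, e, mul_zero, hu₂, hw₂₁, mul_one] at h1
    exact zero_ne_one h1
  set μ := m⁻¹ with hμ
  have hμ0 : μ ≠ 0 := inv_ne_zero hm0
  have hAβ : ∀ u u', β (A u) (A u') = μ * β u u' := fun u u' => by
    rw [hμ, eq_inv_mul_iff_mul_eq₀ hm0, mul_comm, hm, hform u u' w₂ w₁ hw₂ hw₁, hw₂₁, mul_one]
  have hCγ : ∀ w w', γ w f = 0 → γ w' f = 0 → γ (C w) (C w') = μ⁻¹ * γ w w' := fun w w' hw hw' => by
    have h1 := hform u₂ u₃ w w' hw hw'
    rw [hAβ, hu₂, mul_one, one_mul] at h1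
    rw [eq_inv_mul_iff_mul_eq₀ hμ0]
    exact h1
  -- the Kronecker part
  let pr : Wv →ₗ[F] Wv :=
    LinearMap.id + (SympTools.form hh f').smulRight f - (SympTools.form hh f).smulRight f'
  have hpr : ∀ x, pr x = x + γ x f' • f - γ x f • f' := fun x => rfl
  let bl : Wv →ₗ[F] Wv :=
    -(SympTools.form hh f').smulRight f + μ⁻¹ • (SympTools.form hh f).smulRight f' +
      (LinearMap.id + (SympTools.form hh f').smulRight f).comp (C.comp pr)
  have hbl : ∀ x, bl x = -(γ x f' • f) + μ⁻¹ • γ x f • f' + (C (pr x) + γ (C (pr x)) f' • f) := fun x => rfl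
  have hprf : ∀ x, γ (pr x) f = 0 := fun x => by
    rw [hpr, SympTools.sub_left hh, hh.add, hh.smul, hh.smul, hh.alt, hf'f]; ring
  have hprf' : ∀ x, γ (pr x) f' = 0 := fun x => by
    rw [hpr, SympTools.sub_left hh, hh.add, hh.smul, hh.smul, hff', hh.alt]; ring
  have hblγ : ∀ x y, γ (bl x) (bl y) = μ⁻¹ * γ x y := by
    intro x y
    have hXf : ∀ x, γ (C (pr x) + γ (C (pr x)) f' • f) f = 0 := fun x => by
      rw [hh.add, hh.smul, hCf _ (hprf x), hh.alt, mul_zero, add_zero]
    have hXf' : ∀ x, γ (C (pr x) + γ (C (pr x)) f' • f) f' = 0 := fun x => by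
      rw [hh.add, hh.smul, hff', mul_neg_one, add_neg_cancel]
    have hXY : γ (C (pr x) + γ (C (pr x)) f' • f) (C (pr y) + γ (C (pr y)) f' • f) = μ⁻¹ * γ (pr x) (pr y) := by
      simp only [hh.add, add_right hh, hh.smul, smul_right hh, hCf _ (hprf x),
        comm_zero hh (hCf _ (hprf y)), hh.alt, hCγ _ _ (hprf x) (hprf y)]
      ring
    have ex : x = pr x + -(γ x f' • f) + γ x f • f' := by rw [hpr]; abel
    have ey : y = pr y + -(γ y f' • f) + γ y f • f' := by rw [hpr]; abel
    rw [hbl, hbl]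
    conv_rhs => rw [ex, ey]
    rw [hh.add, add_right hh (C (pr x) + γ (C (pr x)) f' • f), hXY]
    simp only [hh.add, add_right hh, hh.smul, smul_right hh, ← neg_smul, hh.alt, hff', hf'f,
      hXf x, hXf' x, comm_zero hh (hXf y), comm_zero hh (hXf' y), hprf x, hprf' x, comm_zero hh (hprf y),
      comm_zero hh (hprf' y), hCf _ (hprf x), comm_zero hh (hCf _ (hprf y)), hh.skew f' (C (pr y))]
    ring
  have hbinj : Function.Injective bl := (injective_iff_map_eq_zero bl).2 fun x hx => hh.nd x fun y => by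
    have := hblγ y x
    rw [hx, SympTools.zero_right hh] at this
    exact comm_zero hh ((mul_eq_zero.1 this.symm).resolve_left (inv_ne_zero hμ0))
  obtain ⟨a, ha⟩ := toGL hO hno hex A hAinj
  obtain ⟨b, hb⟩ := toGL hO hno hex bl hbinj
  have hkiso := kr_iso hP (mul_inv_cancel₀ hμ0) (fun u u' => by rw [ha, ha]; exact hAβ u u')
      (fun w w' => by rw [hb, hb]; exact hblγ w w')
  have hblf : bl f = f := by
    rw [hbl, show pr f = 0 by rw [hpr, hff', hh.alt, zero_smul, neg_one_smul, add_neg_cancel, sub_zero], hff',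
      hh.alt, map_zero, SympTools.zero_left hh]
    simp
  obtain ⟨t, ht⟩ : ∃ t : F, C f = t • f := by
    have h1 := hCrow f
    rw [hA, row_pure] at h1
    exact ⟨_, h1⟩
  set r := (kr a b)⁻¹ * g with hr
  have hrR : InR γ f r := by
    refine ⟨fun u => mulVec_inj (kr a b) ?_, fun u w hw => ?_⟩
    · rw [← mulVec_mul_GL, hr, mul_inv_cancel_left, hA, kr_pure, ha, hb, hblf]
    obtain ⟨x, hx⟩ := hmod u w hw
    have hblw : bl w = C w + (γ w f' * t - γ w f' + γ (C (pr w)) f') • f := by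
      have e : pr w = w + γ w f' • f := by rw [hpr, hw, zero_smul, sub_zero]
      rw [hbl, hw, zero_smul, smul_zero, add_zero]
      nth_rewrite 1 [e]
      rw [map_add, map_smul, ht]
      module
    obtain ⟨x', hx'⟩ := hAsurj (x - (γ w f' * t - γ w f' + γ (C (pr w)) f') • A u)
    refine ⟨x', mulVec_inj (kr a b) ?_⟩
    rw [← mulVec_mul_GL, hr, mul_inv_cancel_left, hx, mulVec_add, kr_pure, kr_pure, ha, hb, hblw, ha, hb, hblf,
      hx', pure_add_right, pure_smul_right, sub_eq_add_neg x, pure_add_left, ← neg_smul, pure_smul_left]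
    module
  -- the radical element lies in `Ω`
  have hrQ : ∀ x, Q ((Units.val r) *ᵥ x) = Q x := fun x => by
    rw [← hkiso, ← mulVec_mul_GL, hr, mul_inv_cancel_left, map_M hO hg]
  have hrΩ : r ∈ Cfsg.Geo.omegaGL ⇑Q := by
    refine Orth.omega_of_radical hP.nd (card_large hO) (X := sliceR f) ?_ hrQ ?_ ?_
    · rintro _ ⟨u, rfl⟩; exact hP.zero u f
    · rintro _ ⟨u, rfl⟩; rw [pureR_apply]; exact hrR.1 u
    · intro z hz
      have hz0 : eta hP f z = 0 := eta_eq_zero hP fun u => hz _ ⟨u, pureR_apply _ _⟩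
      conv => arg 2; rw [sum_rows z, mulVec_sum, ← Finset.sum_sub_distrib]
      refine Submodule.sum_mem _ fun i _ => ?_
      obtain ⟨x, hx⟩ := hrR.2 (Pi.single i 1) _ ((eta_zero_iff hP).1 hz0 i)
      exact ⟨x, by rw [pureR_apply, hx, add_sub_cancel_left]⟩
  have hge : g = kr a b * r := by rw [hr, mul_inv_cancel_left]
  have hkM : kr a b ∈ M := hO.ge ⟨kr_mem_kron a b, by
    rw [show kr a b = g * r⁻¹ by rw [hge, mul_inv_cancel_right]]
    exact Subgroup.mul_mem _ (hO.le hg) (Subgroup.inv_mem _ hrΩ)⟩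
  have hrK := kron_of_InR hO hno hex hf0 (mul_mem (inv_mem hkM) hg) hrR
  rw [hge]
  exact mul_mem (kr_mem_kron a b) hrK

end Cfsg.Agent.Forms.Max.TensorRes.SympPlus
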