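import Cfsg.Agent.Lib.Forms.Max.Linear
import Cfsg.Agent.Lib.Forms.Max.Tensor.Basic

/-!
# Elementary geometry of a symplectic space: transvections and Siegel elements
-/

set_option autoImplicit false
set_option linter.unusedSectionVars false

namespace Cfsg.Agent.Forms.Max.SympTools

open Matrix Cfsg.Agent.Aschbacher

variable {ι : Type} [Fintype ι] [DecidableEq ι] {F : Type*} [Field F] [Finite F]

/-- a non-degenerate alternating form -/
structure Symp (h : (ι → F) → (ι → F) → F) : Prop where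
  add : ∀ x y v, h (x + y) v = h x v + h y v
  smul : ∀ (c : F) x v, h (c • x) v = c * h x v
  alt : ∀ v, h v v = 0
  skew : ∀ v w, h v w = -h w v
  nd : ∀ v, (∀ x, h v x = 0) → v = 0

variable {h : (ι → F) → (ι → F) → F} (hh : Symp h)
include hh

theorem add_right (x v w : ι → F) : h x (v + w) = h x v + h x w := by
  rw [hh.skew, hh.add, hh.skew v x, hh.skew w x]; ring

theorem smul_right (c : F) (x v : ι → F) : h x (c • v) = c * h x v := by
  rw [hh.skew, hh.smul, hh.skew v x]; ring

theorem zero_left (x : ι → F) : h 0 x = 0 := by simpa using hh.smul 0 0 x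

theorem zero_right (x : ι → F) : h x 0 = 0 := by simpa using smul_right hh 0 x 0

theorem sub_left (x y v : ι → F) : h (x - y) v = h x v - h y v :=
  eq_sub_of_add_eq (by rw [← hh.add, sub_add_cancel])

theorem sub_right (x v w : ι → F) : h x (v - w) = h x v - h x w :=
  eq_sub_of_add_eq (by rw [← add_right hh, sub_add_cancel])

theorem neg_right (x v : ι → F) : h x (-v) = -h x v := by simpa using smul_right hh (-1) x v

theorem comm_zero {x y : ι → F} (e : h x y = 0) : h y x = 0 := by rw [hh.skew, e, neg_zero]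

/-- the functional `x ↦ h x w` -/
def form (w : ι → F) : (ι → F) →ₗ[F] F where
  toFun x := h x w
  map_add' a b := hh.add a b w
  map_smul' c a := hh.smul c a w

theorem form_apply (w x : ι → F) : form hh w x = h x w := rfl

theorem right_ext {a b : ι → F} (e : ∀ x, h x a = h x b) : a = b := by
  refine sub_eq_zero.1 (hh.nd _ fun x => ?_)
  rw [hh.skew, sub_right hh, e, sub_self, neg_zero]

theorem exists_repr (φ : (ι → F) →ₗ[F] F) : ∃ w, ∀ x, h x w = φ x := by
  have hinj : Function.Injective (fun (w : ι → F) (i : ι) => h (Pi.single i 1) w) := fun a b e =>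
    right_ext hh fun x => by
      have : form hh a = form hh b :=
        (Pi.basisFun F ι).ext fun i => by simpa [form] using congrFun e i
      exact LinearMap.congr_fun this x
  obtain ⟨w, hw⟩ := Finite.injective_iff_surjective.1 hinj fun i => φ (Pi.single i 1)
  refine ⟨w, fun x => ?_⟩
  have : form hh w = φ := (Pi.basisFun F ι).ext fun i => by simpa [form] using congrFun hw i
  exact LinearMap.congr_fun this x

/-- a vector with product one with `v`, orthogonal to a subspace -/
theorem exists_value {S : Submodule F (ι → F)} {v : ι → F} (hv : v ∉ S) :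
    ∃ x, (∀ s ∈ S, h x s = 0) ∧ h x v = 1 := by
  obtain ⟨φ, hφS, hφv⟩ := exists_row_of_not_mem hv
  obtain ⟨w, hw⟩ := exists_repr hh
    { toFun := fun x => φ ⬝ᵥ x
      map_add' := fun a b => dotProduct_add φ a b
      map_smul' := fun t a => dotProduct_smul t φ a }
  have hw' : ∀ x, h x w = φ ⬝ᵥ x := hw
  refine ⟨-w, fun s hs => ?_, ?_⟩
  · rw [hh.skew, neg_right hh, hw', hφS s hs, neg_zero, neg_zero]
  · rw [hh.skew, neg_right hh, hw', hφv, neg_neg]

theorem exists_value_one {v : ι → F} (hv : v ≠ 0) : ∃ x, h x v = 1 := by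
  obtain ⟨x, -, hx⟩ := exists_value hh (S := ⊥) (v := v) (by simpa using hv)
  exact ⟨x, hx⟩

theorem exists_perp_value {u v : ι → F} (hv : v ∉ Submodule.span F {u}) : ∃ x, h x u = 0 ∧ h x v = 1 := by
  obtain ⟨x, hx, hxv⟩ := exists_value hh hv
  exact ⟨x, hx u (Submodule.mem_span_singleton_self u), hxv⟩

theorem exists_pair_value {u u' v : ι → F} (hv : v ∉ Submodule.span F {u, u'}) :
    ∃ x, h x u = 0 ∧ h x u' = 0 ∧ h x v = 1 := by
  obtain ⟨x, hx, hxv⟩ := exists_value hh hv
  exact ⟨x, hx u (Submodule.subset_span (by simp)), hx u' (Submodule.subset_span (by simp)), hxv⟩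

theorem exists_partner {e : ι → F} (he : e ≠ 0) : ∃ f, h e f = -1 ∧ h f e = 1 := by
  obtain ⟨f, hf⟩ := exists_value_one hh he
  exact ⟨f, by rw [hh.skew, hf], hf⟩

/-- transvections -/
def tvSet (h : (ι → F) → (ι → F) → F) : Set (GL ι F) :=
  {g | ∃ (v : ι → F) (c : F), ∀ x, (Units.val g) *ᵥ x = x + (c * h x v) • v}

theorem exists_tv (v : ι → F) (c : F) :
    ∃ g ∈ tvSet h, ∀ x, (Units.val g) *ᵥ x = x + (c * h x v) • v := by
  obtain ⟨φ, hφ⟩ := exists_row (c • form hh v)
  have hφ' : ∀ x, φ ⬝ᵥ x = c * h x v := fun x => hφ x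
  have h0 : φ ⬝ᵥ v = 0 := by rw [hφ', hh.alt, mul_zero]
  have key : ∀ x, (Units.val (trv v φ h0)) *ᵥ x = x + (c * h x v) • v := fun x => by
    rw [trv_mulVec, hφ']
  exact ⟨trv v φ h0, ⟨v, c, key⟩, key⟩

theorem tv_isometry {g : GL ι F} (hg : g ∈ tvSet h) (x y : ι → F) :
    h ((Units.val g) *ᵥ x) ((Units.val g) *ᵥ y) = h x y := by
  obtain ⟨v, c, hgx⟩ := hg
  rw [hgx, hgx]
  simp only [hh.add, add_right hh, hh.smul, smul_right hh, hh.alt, hh.skew v y]
  ring

omit hh in
/-- the group generated by the transvections -/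
def tvGroup (h : (ι → F) → (ι → F) → F) : Subgroup (GL ι F) := Subgroup.closure (tvSet h)

theorem group_isometry {g : GL ι F} (hg : g ∈ tvGroup h) :
    ∀ x y, h ((Units.val g) *ᵥ x) ((Units.val g) *ᵥ y) = h x y := by
  induction hg using Subgroup.closure_induction with
  | mem g hg => exact tv_isometry hh hg
  | one => intro x y; rw [Units.val_one, one_mulVec, one_mulVec]
  | mul a b _ _ ha hb => intro x y; rw [mulVec_mul_GL, mulVec_mul_GL, ha, hb]
  | inv a _ ha => intro x y; rw [← ha, mulVec_inv_cancel, mulVec_inv_cancel]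

/-- the Siegel element of two orthogonal vectors -/
theorem exists_siegel {a b : ι → F} (hab : h a b = 0) :
    ∃ g ∈ tvGroup h, ∀ x, (Units.val g) *ᵥ x = x + h x a • b + h x b • a := by
  obtain ⟨A, hA, hAx⟩ := exists_tv hh a (-1)
  obtain ⟨B, hB, hBx⟩ := exists_tv hh b (-1)
  obtain ⟨S, hS, hSx⟩ := exists_tv hh (a + b) 1
  refine ⟨S * (A * B), mul_mem (Subgroup.subset_closure hS)
    (mul_mem (Subgroup.subset_closure hA) (Subgroup.subset_closure hB)), fun x => ?_⟩
  rw [mulVec_mul_GL, mulVec_mul_GL, hBx, hAx (x + (-1 * h x b) • b), hSx]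
  simp only [hh.add, add_right hh, hh.smul, hh.alt, hab, comm_zero hh hab]
  module

theorem exists_move₁ {u v : ι → F} (huv : h u v ≠ 0) : ∃ g ∈ tvGroup h, (Units.val g) *ᵥ u = v := by
  obtain ⟨g, hg, hgx⟩ := exists_tv hh (v - u) (h u v)⁻¹
  refine ⟨g, Subgroup.subset_closure hg, ?_⟩
  rw [hgx, sub_right hh, hh.alt, sub_zero, inv_mul_cancel₀ huv, one_smul, add_sub_cancel]

/-- transvections are transitive on non-zero vectors -/
theorem exists_move {u v : ι → F} (hu : u ≠ 0) (hv : v ≠ 0) : ∃ g ∈ tvGroup h, (Units.val g) *ᵥ u = v := by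
  obtain ⟨x, hxu, hxv⟩ : ∃ x, h u x ≠ 0 ∧ h x v ≠ 0 := by
    obtain ⟨a, ha⟩ := exists_value_one hh hu
    obtain ⟨b, hb⟩ := exists_value_one hh hv
    have hua : h u a = -1 := by rw [hh.skew, ha]
    have hbv : h b v = 1 := hb
    by_cases h1 : h u b = 0
    · by_cases h2 : h a v = 0
      · exact ⟨a + b, by rw [add_right hh, hua, h1, add_zero]; exact neg_ne_zero.2 one_ne_zero,
          by rw [hh.add, h2, hbv, zero_add]; exact one_ne_zero⟩
      · exact ⟨a, by rw [hua]; exact neg_ne_zero.2 one_ne_zero, h2⟩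
    · exact ⟨b, h1, by rw [hbv]; exact one_ne_zero⟩
  obtain ⟨g₁, hg₁, e₁⟩ := exists_move₁ hh hxu
  obtain ⟨g₂, hg₂, e₂⟩ := exists_move₁ hh hxv
  exact ⟨g₂ * g₁, mul_mem hg₂ hg₁, by rw [mulVec_mul_GL, e₁, e₂]⟩

end Cfsg.Agent.Forms.Max.SympTools
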