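import Cfsg.Agent.Lib.Forms.Max.Tensor.UnitarySpread

/-!
# An overgroup of a unitary tensor stabiliser preserves the decomposition or contains all transvections
-/

set_option autoImplicit false
set_option linter.unusedSectionVars false

namespace Cfsg.Agent.Forms.Max.TensorRes.Unitary

open Matrix Cfsg.Agent.Aschbacher Cfsg.Agent.Forms.Max.TensorMax Cfsg.Agent.Forms.Max.UnitaryInLinear
  Cfsg.Agent.Forms.Max.HermTools

variable {F : Type*} [Field F] [Fintype F] {k n : ℕ}
variable {σ : F →+* F} {β : (Fin k → F) → (Fin k → F) → F} {γ : (Fin n → F) → (Fin n → F) → F}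
  {Φ : (Fin k × Fin n → F) → (Fin k × Fin n → F) → F}

local notation "Uv" => (Fin k → F)
local notation "Wv" => (Fin n → F)

/-- the transvections of the second factor -/
def roots (σ : F →+* F) (γ : Wv → Wv → F) : Set (GL (Fin n) F) :=
  {t | t ∈ isoSL γ ∧ ∃ f : Wv, f ≠ 0 ∧ γ f f = 0 ∧ ∃ c : F, c ≠ 0 ∧ c + σ c = 0 ∧
    ∀ x, (Units.val t) *ᵥ x = x + (c * γ x f) • f}

variable {M : Subgroup (GL (Fin k × Fin n) F)} (hO : Over σ β γ Φ M)
  (hex : (∃ c : F, σ c = c ∧ c ≠ 0 ∧ c ≠ 1) ∨ 3 ≤ k)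
  (hno : ∀ u f, u ≠ 0 → β u u = 0 → f ≠ 0 → γ f f = 0 → pure u f ∉ centres σ Φ M)
include hO hex hno

theorem exists_root {w : Wv} : ∃ t ∈ roots σ γ, (Units.val t) *ᵥ w = w := by
  have hh := hO.pair.right
  obtain ⟨f, hf, hf0, hff⟩ := exists_iso hh (S := LinearMap.ker (UnitaryInLinear.form hh w)) (by
    have h1 := LinearMap.finrank_range_add_finrank_ker (UnitaryInLinear.form hh w)
    have h2 := Submodule.finrank_le (LinearMap.range (UnitaryInLinear.form hh w))
    rw [Module.finrank_self] at h2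
    rw [Module.finrank_fintype_fun_eq_card, Fintype.card_fin] at h1
    have := hO.hn
    omega)
  obtain ⟨c, hc0, hc⟩ := exists_skew hh
  obtain ⟨t, ht, htx⟩ := exists_tv hh hff (trace_zero_of hh hc)
  refine ⟨t, ⟨ht, f, hf0, hff, c, hc0, trace_zero_of hh hc, htx⟩, ?_⟩
  rw [htx, comm_zero hh (show γ f w = 0 from hf), mul_zero, zero_smul, add_zero]

theorem exists_root_perp {s : Wv} (hs0 : s ≠ 0) (hss : γ s s = 0) :
    ∃ t ∈ roots σ γ, ∀ x, γ x s = 0 → (Units.val t) *ᵥ x = x := by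
  have hh := hO.pair.right
  obtain ⟨c, hc0, hc⟩ := exists_skew hh
  obtain ⟨t, ht, htx⟩ := exists_tv hh hss (trace_zero_of hh hc)
  exact ⟨t, ⟨ht, s, hs0, hss, c, hc0, trace_zero_of hh hc, htx⟩, fun x hx => by
    rw [htx, hx, mul_zero, zero_smul, add_zero]⟩

theorem roots_spec (p : ℕ) [Fact p.Prime] [CharP F p] : Roots p M (roots σ γ) := by
  have hP := hO.pair
  have hh := hP.right
  have hmov : ∀ {t : GL (Fin n) F} {f : Wv} {c : F}, f ≠ 0 → c ≠ 0 →
      (∀ x, (Units.val t) *ᵥ x = x + (c * γ x f) • f) →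
      mov (Units.val t) = Submodule.span F {f} := by
    intro t f c hf0 hc0 htx
    refine le_antisymm (fun v hv => ?_) ((Submodule.span_singleton_le_iff_mem _ _).2 ?_)
    · obtain ⟨y, rfl⟩ := mem_mov.1 hv
      rw [htx, add_sub_cancel_left]
      exact Submodule.smul_mem _ _ (Submodule.mem_span_singleton_self f)
    · obtain ⟨x, hx⟩ := exists_value_one hh hf0
      exact mem_mov.2 ⟨c⁻¹ • x, by
        rw [htx, add_sub_cancel_left, hh.smul, hx, mul_one, mul_inv_cancel₀ hc0, one_smul]⟩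
  refine ⟨fun t ht => kr_mem_M hO.toCore (one_mem _) ht.1, ?_, ?_, ?_⟩
  · rintro t ⟨-, f, -, hff, c, -, -, htx⟩
    refine ⟨1, ?_⟩
    rw [pow_one]
    refine fixer_pow p (S := Submodule.span F {f}) ⟨fun x hx => ?_, fun x => ?_⟩
    · obtain ⟨a, rfl⟩ := Submodule.mem_span_singleton.1 hx
      rw [htx, hh.smul, hff, mul_zero, mul_zero, zero_smul, add_zero]
    · rw [htx, add_sub_cancel_left]
      exact Submodule.smul_mem _ _ (Submodule.mem_span_singleton_self f)
  · rintro t ⟨-, f, hf0, -, c, hc0, -, htx⟩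
    rw [hmov hf0 hc0 htx, finrank_span_singleton hf0]
  rintro g hg t ⟨-, f, hf0, hff, c, hc0, -, htx⟩ b hb
  have himg : UT k (mov (Units.val b)) = img g (UT k (Submodule.span F {f})) := by
    rw [← mov_one_kron, ← Units.val_one, ← kr_coe, ← hb, mov_conj, kr_coe, Units.val_one, mov_one_kron,
      hmov hf0 hc0 htx]
  have hdim : Module.finrank F (mov (Units.val b)) = 1 := by
    have h1 : Module.finrank F (UT k (mov (Units.val b))) = k := by
      rw [himg, finrank_img, finrank_UT, finrank_span_singleton hf0, mul_one]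
    rw [finrank_UT] at h1
    exact Nat.eq_of_mul_eq_mul_left (by have := hO.hk; omega) (h1.trans (mul_one k).symm)
  obtain ⟨⟨f₁, hf₁m⟩, hf₁0, hf₁⟩ := finrank_eq_one_iff'.1 hdim
  have hf₁0' : f₁ ≠ 0 := fun e => hf₁0 (Subtype.ext e)
  have hline : ∀ u, ∃ u', (Units.val g) *ᵥ pure u f = pure u' f₁ := fun u => by
    have h1 : (Units.val g) *ᵥ pure u f ∈ UT k (mov (Units.val b)) :=
      himg ▸ mulVec_mem_img (pure_mem_UT u (Submodule.mem_span_singleton_self f))
    refine exists_pure_of_row fun i => ?_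
    obtain ⟨a, ha⟩ := hf₁ ⟨_, h1 i⟩
    exact Submodule.mem_span_singleton.2 ⟨a, congrArg Subtype.val ha⟩
  have hf₁f₁ : γ f₁ f₁ = 0 := by
    by_contra hne
    obtain ⟨i⟩ : Nonempty (Fin k) := ⟨⟨0, by have := hO.hk; omega⟩⟩
    have hall : ∀ u', β u' u' = 0 := fun u' => by
      have h1 : pure u' f₁ ∈ img g (UT k (Submodule.span F {f})) := himg ▸ pure_mem_UT u' hf₁m
      obtain ⟨z, hz, hgz⟩ := mem_img.1 h1
      obtain ⟨u, rfl⟩ := exists_pure_of_row hz
      have h2 := iso_M hO.toCore hg (pure u f) (pure u f)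
      rw [hgz, hP.mul, hP.mul, hff, mul_zero] at h2
      exact (mul_eq_zero.1 h2).resolve_right hne
    have hne' : (Pi.single i (1 : F) : Uv) ≠ 0 := fun e => by simpa using congrFun e i
    exact hne' (hP.left.nd _ fun x =>
      polar_zero hP.left (S := ⊤) (fun y _ => hall y) trivial trivial)
  obtain ⟨h, hh', a, ha, -⟩ := exists_move hh hf₁f₁ hff hf₁0' hf0
  have hm := kr_mem_M hO.toCore (one_mem (isoSL β)) hh'
  have hk1 := kron_of_stab hO hex hno hf0 hff (g := kr 1 h * g) (mul_mem hm hg) fun u => by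
    obtain ⟨u', hu'⟩ := hline u
    exact ⟨a • u', by rw [mulVec_mul_GL, hu', kr_pure, ha, Units.val_one, one_mulVec, pure_smul_right,
      pure_smul_left]⟩
  exact (Subgroup.mul_mem_cancel_left _ (kr_mem_kron 1 h)).1 hk1

/-- a vector whose rows have a common isotropic orthogonal is the image of a pure vector only if pure -/
theorem pure_image {g : GL (Fin k × Fin n) F} (hg : g ∈ M) {u : Uv} {w : Wv} {s : Wv} (hs0 : s ≠ 0)
    (hss : γ s s = 0) (hs : eta hO.pair s ((Units.val g) *ᵥ pure u w) = 0) :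
    ∃ u' w', (Units.val g) *ᵥ pure u w = pure u' w' := by
  obtain ⟨p, hp⟩ := CharP.exists F
  haveI : Fact p.Prime := ⟨(CharP.char_is_prime_or_zero F p).resolve_right (CharP.char_ne_zero_of_finite F p)⟩
  obtain ⟨t, ht, htw⟩ := exists_root hO hex hno (w := w)
  obtain ⟨r, hr, hrx⟩ := exists_root_perp hO hex hno hs0 hss
  exact pure_of_fixed (by have := hO.hk; omega) hO.hkn (roots_spec hO hex hno p) hg ht htw hr
    fun i => hrx _ ((eta_zero_iff hO.pair).1 hs i)

/-- images of few rows -/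
theorem pure_image_of_span {g : GL (Fin k × Fin n) F} (hg : g ∈ M) {u : Uv} {w : Wv} {ι : Type} [Fintype ι]
    (v : ι → Wv) (hι : Fintype.card ι + 2 ≤ n)
    (hv : ∀ i, TensorMax.row ((Units.val g) *ᵥ pure u w) i ∈ Submodule.span F (Set.range v)) :
    ∃ u' w', (Units.val g) *ᵥ pure u w = pure u' w' := by
  have hh := hO.pair.right
  let L : Wv →ₗ[F] (ι → F) := LinearMap.pi fun j => UnitaryInLinear.form hh (v j)
  obtain ⟨s, hs, hs0, hss⟩ := exists_iso hh (S := LinearMap.ker L) (by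
    have h1 := LinearMap.finrank_range_add_finrank_ker L
    have h2 := Submodule.finrank_le (LinearMap.range L)
    rw [Module.finrank_fintype_fun_eq_card] at h1 h2
    rw [Fintype.card_fin] at h1
    omega)
  refine pure_image hO hex hno hg hs0 hss ((eta_zero_iff hO.pair).2 fun i => ?_)
  obtain ⟨c, hc⟩ := (Submodule.mem_span_range_iff_exists_fun F).1 (hv i)
  rw [← hc]
  have e : γ (∑ j, c j • v j) s = ∑ j, γ (c j • v j) s := map_sum (UnitaryInLinear.form hh s) _ _
  rw [e]
  exact Finset.sum_eq_zero fun j _ => by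
    rw [hh.smul, comm_zero hh (show γ s (v j) = 0 from congrFun hs j), mul_zero]

/-- the second factor vectors with pure images -/
theorem exists_submodule {g : GL (Fin k × Fin n) F} (hg : g ∈ M) (e : Uv) (hn4 : 4 ≤ n) :
    ∃ B₀ : Submodule F Wv, ∀ w, w ∈ B₀ ↔ ∃ u' w', (Units.val g) *ᵥ pure e w = pure u' w' := by
  refine ⟨{ carrier := {w | ∃ u' w', (Units.val g) *ᵥ pure e w = pure u' w'}
            zero_mem' := ⟨0, 0, by rw [pure_zero_right, mulVec_zero, pure_zero_right]⟩
            add_mem' := ?_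
            smul_mem' := ?_ }, fun w => Iff.rfl⟩
  · rintro a b ⟨u₁, w₁, h₁⟩ ⟨u₂, w₂, h₂⟩
    refine pure_image_of_span hO hex hno hg (ι := Fin 2) ![w₁, w₂] (by rw [Fintype.card_fin]; omega) fun i => ?_
    rw [pure_add_right, mulVec_add, h₁, h₂,
      show TensorMax.row (pure u₁ w₁ + pure u₂ w₂) i =
        TensorMax.row (pure u₁ w₁) i + TensorMax.row (pure u₂ w₂) i from rfl, row_pure, row_pure]
    exact add_mem (Submodule.smul_mem _ _ (Submodule.subset_span ⟨0, rfl⟩))
      (Submodule.smul_mem _ _ (Submodule.subset_span ⟨1, rfl⟩))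
  · rintro c a ⟨u₁, w₁, h₁⟩
    exact ⟨u₁, c • w₁, by rw [pure_smul_right, mulVec_smul, h₁, pure_smul_right]⟩

/-- overgroups without pure centres consist of Kronecker products -/
theorem le_kron (hn4 : 4 ≤ n) : M ≤ Cfsg.Geo.kroneckerSubgroup k n F := by
  have hP := hO.pair
  have hh := hP.right
  have hβ := hP.left
  have hk := hO.hk
  have hkn := hO.hkn
  intro g hg
  by_cases hbig : k + 2 ≤ n
  · refine mem_kronecker hk hkn fun u w => pure_image_of_span hO hex hno hg
      (fun i : Fin k => TensorMax.row ((Units.val g) *ᵥ pure u w) i) (by rw [Fintype.card_fin]; omega)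
      fun i => Submodule.subset_span ⟨i, rfl⟩
  have hn1 : n = k + 1 := by omega
  obtain ⟨e, hee⟩ : ∃ e, β e e ≠ 0 := by
    by_contra hc
    push Not at hc
    obtain ⟨i⟩ : Nonempty (Fin k) := ⟨⟨0, by omega⟩⟩
    have hne' : (Pi.single i (1 : F) : Uv) ≠ 0 := fun e => by simpa using congrFun e i
    exact hne' (hβ.nd _ fun x => polar_zero hβ (S := ⊤) (fun y _ => hc y) trivial trivial)
  have he0 : e ≠ 0 := fun h0 => hee (by rw [h0, zero_left hβ])
  obtain ⟨d, hd⟩ : ∃ d, ∀ g ∈ M, ∀ B₀ : Submodule F Wv,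
      (∀ w, w ∈ B₀ ↔ ∃ u' w', (Units.val g) *ᵥ pure e w = pure u' w') →
      g ∉ Cfsg.Geo.kroneckerSubgroup k n F → Module.finrank F B₀ ≤ d :=
    ⟨n, fun g _ B₀ _ _ => (Submodule.finrank_le B₀).trans (by rw [Module.finrank_fintype_fun_eq_card, Fintype.card_fin])⟩
  clear hbig
  induction d using Nat.strong_induction_on generalizing g with
  | _ d ih =>
  by_contra hgK
  classical
  obtain ⟨B₀, hB₀⟩ := exists_submodule hO hex hno hg e hn4
  -- choose an element with the largest space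
  by_cases hall : ∃ g' ∈ M, g' ∉ Cfsg.Geo.kroneckerSubgroup k n F ∧ ∃ B₁ : Submodule F Wv,
      (∀ w, w ∈ B₁ ↔ ∃ u' w', (Units.val g') *ᵥ pure e w = pure u' w') ∧ Module.finrank F B₁ = d
  swap
  · push Not at hall
    have h0 : Module.finrank F B₀ ≠ d := hall g hg hgK B₀ hB₀
    have h1 := hd g hg B₀ hB₀ hgK
    exact hgK (ih (d - 1) (by omega) hg fun g' hg' B₁ hB₁ hK₁ => by
      have h2 := hd g' hg' B₁ hB₁ hK₁
      have h3 := hall g' hg' hK₁ B₁ hB₁
      omega)
  clear hg hgK hB₀ B₀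
  obtain ⟨g, hg, hgK, B₀, hB₀, hB₀d⟩ := hall
  let img' : Wv →ₗ[F] (Fin k × Fin n → F) := (Matrix.toLin' (Units.val g)).comp (pureL e)
  have himg : ∀ w, img' w = (Units.val g) *ᵥ pure e w := fun w => rfl
  have hinj : Function.Injective img' := (injective_iff_map_eq_zero img').2 fun w hw => by
    by_contra hw0
    exact mulVec_ne_zero g (pure_ne_zero he0 hw0) hw
  -- every isotropic vector kills the rows of a pure image
  have hmeet : ∀ s, s ≠ 0 → γ s s = 0 → ∃ w ∈ B₀, w ≠ 0 ∧ eta hP s (img' w) = 0 := by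
    intro s hs0 hss
    obtain ⟨w, hw, hw0⟩ := Submodule.exists_mem_ne_zero_of_ne_bot
      (p := LinearMap.ker ((eta hP s).comp img')) fun h0 => by
        have h1 := LinearMap.finrank_range_of_inj (LinearMap.ker_eq_bot.1 h0)
        have h2 := Submodule.finrank_le (LinearMap.range ((eta hP s).comp img'))
        rw [h1, Module.finrank_fintype_fun_eq_card, Module.finrank_fintype_fun_eq_card, Fintype.card_fin,
          Fintype.card_fin] at h2
        omega
    exact ⟨w, (hB₀ w).2 (pure_image hO hex hno hg hs0 hss hw), hw0, hw⟩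
  -- two independent pure images
  obtain ⟨s₀, hs₀0, hs₀⟩ := exists_iso_top hh (by rw [Fintype.card_fin]; omega)
  obtain ⟨w₁, hw₁, hw₁0, -⟩ := hmeet s₀ hs₀0 hs₀
  obtain ⟨a, b₁, hab₁⟩ := (hB₀ w₁).1 hw₁
  have hpne : ∀ {w u v}, w ≠ 0 → img' w = pure u v → u ≠ 0 ∧ v ≠ 0 := fun {w u v} hw0 h =>
    ⟨fun h0 => hw0 (hinj (by rw [map_zero, h, h0, pure_zero_left])),
      fun h0 => hw0 (hinj (by rw [map_zero, h, h0, pure_zero_right]))⟩
  obtain ⟨ha0, hb₁0⟩ := hpne hw₁0 hab₁
  obtain ⟨w₂, a₂, b₂, hw₂, hab₂, ha₂0, hb₂⟩ : ∃ w a₂ b₂, w ∈ B₀ ∧ img' w = pure a₂ b₂ ∧ a₂ ≠ 0 ∧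
      b₂ ∉ Submodule.span F {b₁} := by
    by_contra hc
    push Not at hc
    have hall' : ∀ s, γ s s = 0 → γ s b₁ = 0 := fun s hss => by
      rcases eq_or_ne s 0 with rfl | hs0
      · exact zero_left hh _
      obtain ⟨w, hw, hw0, hws⟩ := hmeet s hs0 hss
      obtain ⟨u, v, huv⟩ := (hB₀ w).1 hw
      obtain ⟨hu0, hv0⟩ := hpne hw0 huv
      obtain ⟨c, hc'⟩ := Submodule.mem_span_singleton.1 (hc w u v hw huv hu0)
      rw [show img' w = pure u v from huv, eta_pure, smul_eq_zero, or_iff_left hu0, ← hc', hh.smul] at hws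
      exact comm_zero hh ((mul_eq_zero.1 hws).resolve_left fun h0 => hv0 (by rw [← hc', h0, zero_smul]))
    have htop := span_iso hh (by rw [Fintype.card_fin]; omega) (T := LinearMap.ker (UnitaryInLinear.form hh b₁))
      hall'
    exact hb₁0 (hh.nd b₁ fun x => comm_zero hh
      (show x ∈ LinearMap.ker (UnitaryInLinear.form hh b₁) by rw [htop]; trivial))
  have ha₂ : a₂ ∈ Submodule.span F {a} := by
    obtain ⟨u, v, huv⟩ := (hB₀ _).1 (B₀.add_mem hw₁ hw₂)
    rw [← himg, map_add, show img' w₁ = pure a b₁ from hab₁, show img' w₂ = pure a₂ b₂ from hab₂] at huv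
    exact (sum_pure_pure ha0 hb₁0 huv).resolve_right hb₂
  obtain ⟨c₂, hc₂⟩ := Submodule.mem_span_singleton.1 ha₂
  have hc₂0 : c₂ ≠ 0 := fun h0 => ha₂0 (by rw [← hc₂, h0, zero_smul])
  -- a common first entry
  obtain ⟨ρ, -, hρ⟩ := exists_row_of_not_mem (S := (⊥ : Submodule F Uv)) (v := a) (by simpa using ha0)
  let bw : Wv →ₗ[F] Wv := (comb ρ).comp img'
  have hbw : ∀ w ∈ B₀, img' w = pure a (bw w) := by
    intro w hw
    obtain ⟨u, v, huv⟩ := (hB₀ w).1 hw
    replace huv : img' w = pure u v := huv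
    have hu : ∃ v', img' w = pure a v' := by
      rcases eq_or_ne v 0 with rfl | hv0
      · exact ⟨0, by rw [huv, pure_zero_right, pure_zero_right]⟩
      suffices hmem : u ∈ Submodule.span F {a} by
        obtain ⟨c, rfl⟩ := Submodule.mem_span_singleton.1 hmem
        exact ⟨c • v, by rw [huv, pure_smul_left, pure_smul_right]⟩
      by_contra hu
      obtain ⟨u₁, v₁, h₁⟩ := (hB₀ _).1 (B₀.add_mem hw₁ hw)
      rw [← himg, map_add, show img' w₁ = pure a b₁ from hab₁, huv] at h₁
      obtain ⟨u₂, v₂, h₂⟩ := (hB₀ _).1 (B₀.add_mem hw₂ hw)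
      rw [← himg, map_add, show img' w₂ = pure a₂ b₂ from hab₂, huv, ← hc₂, pure_smul_left,
        ← pure_smul_right] at h₂
      have hb₂0 : c₂ • b₂ ≠ 0 := smul_ne_zero hc₂0 fun h0 => hb₂ (h0 ▸ zero_mem _)
      obtain ⟨x, hx⟩ := Submodule.mem_span_singleton.1 ((sum_pure_pure ha0 hb₁0 h₁).resolve_left hu)
      obtain ⟨y, hy⟩ := Submodule.mem_span_singleton.1 ((sum_pure_pure ha0 hb₂0 h₂).resolve_left hu)
      have hy0 : y * c₂ ≠ 0 := mul_ne_zero (fun h0 => hv0 (by rw [← hy, h0, zero_smul])) hc₂0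
      refine hb₂ (Submodule.mem_span_singleton.2 ⟨(y * c₂)⁻¹ * x, ?_⟩)
      rw [mul_smul, hx, ← hy, smul_smul y, inv_smul_smul₀ hy0]
    obtain ⟨v', hv'⟩ := hu
    rw [hv']
    show _ = pure a (comb ρ (img' w))
    rw [hv', comb_pure, hρ, one_smul]
  have hρ0 : ρ ≠ 0 := fun h0 => by rw [h0, zero_dotProduct] at hρ; exact zero_ne_one hρ
  -- a dependence between the rows
  have hdep : ∀ (x : Fin k × Fin n → F) (δ : Uv), δ ≠ 0 → comb δ x = 0 → ∃ i₀, ∀ i,
      TensorMax.row x i ∈ Submodule.span F (Set.range fun j : {j : Fin k // j ≠ i₀} => TensorMax.row x j) := by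
    intro x δ hδ hx
    obtain ⟨i₀, hi₀⟩ := Function.ne_iff.1 hδ
    refine ⟨i₀, fun i => ?_⟩
    rcases eq_or_ne i i₀ with rfl | hi
    swap
    · exact Submodule.subset_span ⟨⟨i, hi⟩, rfl⟩
    have hsum : δ i • TensorMax.row x i = -∑ j ∈ Finset.univ.erase i, δ j • TensorMax.row x j := by
      rw [eq_neg_iff_add_eq_zero, Finset.add_sum_erase _ (fun j => δ j • TensorMax.row x j) (Finset.mem_univ i)]
      exact hx
    rw [← inv_smul_smul₀ hi₀ (TensorMax.row x i), hsum]
    exact Submodule.smul_mem _ _ (neg_mem (Submodule.sum_mem _ fun j hj =>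
      Submodule.smul_mem _ _ (Submodule.subset_span ⟨⟨j, (Finset.mem_erase.1 hj).1⟩, rfl⟩)))
  by_cases htop : B₀ = ⊤
  · refine hgK (mem_kronecker hk hkn fun u w => ?_)
    have hbwinj : Function.Injective bw := (injective_iff_map_eq_zero bw).2 fun y hy => hinj (by
      rw [map_zero, hbw y (htop ▸ trivial), hy, pure_zero_right])
    have hbwsurj := LinearMap.injective_iff_surjective.1 hbwinj
    set c := β u e / β e e with hc
    set u' := u - c • e with hu'
    have hu'e : β u' e = 0 := by rw [hu', sub_left hβ, hβ.smul, hc, div_mul_cancel₀ _ hee, sub_self]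
    set x := (Units.val g) *ᵥ pure u' w with hx
    set δ : Uv := fun i => β (Pi.single i 1) a with hδ
    have hδ0 : δ ≠ 0 := fun h0 => ha0 (hβ.nd a fun y => comm_zero hβ (by
      have e1 : β y a = ∑ i, β (y i • Pi.single i (1 : F)) a := by
        conv_lhs => rw [pi_eq_sum_univ' y]
        exact map_sum (UnitaryInLinear.form hβ a) _ _
      rw [e1]
      exact Finset.sum_eq_zero fun i _ => by
        rw [hβ.smul, show β (Pi.single i (1 : F)) a = 0 from congrFun h0 i, mul_zero]))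
    have hcomb : comb δ x = 0 := hh.nd _ fun v => by
      obtain ⟨y, rfl⟩ := hbwsurj v
      have h1 := iso_M hO.toCore hg (pure u' w) (pure e y)
      rw [show (Units.val g) *ᵥ pure e y = img' y from rfl, hbw y (htop ▸ trivial), form_pure hP, hP.mul, hu'e,
        zero_mul] at h1
      have e1 : β (eta hP (bw y) x) a = γ (comb δ x) (bw y) := by
        rw [show comb δ x = ∑ i, δ i • TensorMax.row x i from rfl,
          show γ (∑ i, δ i • TensorMax.row x i) (bw y) = ∑ i, γ (δ i • TensorMax.row x i) (bw y) from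
          map_sum (UnitaryInLinear.form hh (bw y)) _ _, pi_eq_sum_univ' (eta hP (bw y) x),
          show β (∑ i, eta hP (bw y) x i • Pi.single i (1 : F)) a =
            ∑ i, β (eta hP (bw y) x i • Pi.single i (1 : F)) a from map_sum (UnitaryInLinear.form hβ a) _ _]
        exact Finset.sum_congr rfl fun i _ => by rw [hβ.smul, hh.smul, mul_comm]; rfl
      rw [← e1]; exact h1
    obtain ⟨i₀, hi₀⟩ := hdep x δ hδ0 hcomb
    obtain ⟨u₁, v₁, h₁⟩ := pure_image_of_span hO hex hno hg (u := u') (w := w)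
      (fun j : {j : Fin k // j ≠ i₀} => TensorMax.row x j)
      (by simp only [ne_eq, Fintype.card_subtype_compl, Fintype.card_subtype_eq, Fintype.card_fin]; omega) hi₀
    refine pure_image_of_span hO hex hno hg ![v₁, c • bw w] (by rw [Fintype.card_fin]; omega) fun i => ?_
    have e1 : (Units.val g) *ᵥ pure u w = pure u₁ v₁ + pure a (c • bw w) := by
      rw [← h₁, pure_smul_right, ← hbw w (htop ▸ trivial), himg, ← mulVec_smul, ← mulVec_add, ← pure_smul_left,
        ← pure_add_left, hu', sub_add_cancel]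
    rw [e1, show TensorMax.row (pure u₁ v₁ + pure a (c • bw w)) i =
      TensorMax.row (pure u₁ v₁) i + TensorMax.row (pure a (c • bw w)) i from rfl, row_pure, row_pure]
    exact add_mem (Submodule.smul_mem _ _ (Submodule.subset_span ⟨0, rfl⟩))
      (Submodule.smul_mem _ _ (Submodule.subset_span ⟨1, rfl⟩))
  obtain ⟨S, hS⟩ := B₀.exists_isCompl
  -- the orthogonal of the pure part
  let B := B₀.map bw
  let R : Submodule F Wv :=
    { carrier := {r | ∀ b ∈ B, γ b r = 0}
      zero_mem' := fun b _ => zero_right hh b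
      add_mem' := fun {r r'} h h' b hb => by rw [add_right hh, h b hb, h' b hb, add_zero]
      smul_mem' := fun c r h b hb => by rw [smul_right hh, h b hb, mul_zero] }
  have hval : ∀ y ∈ S, y ≠ 0 → ∃ r ∈ R, γ r r = 0 ∧ eta hP r (img' y) = a := by
    intro y hy hy0
    have hyB : y ∉ B₀ := fun h => hy0 (Submodule.disjoint_def.1 hS.disjoint y h hy)
    set x := img' y
    set w₀ := comb ρ x with hw₀
    obtain ⟨i₀, hi₀⟩ := hdep (x - pure a w₀) ρ hρ0 (by rw [map_sub, comb_pure, hρ, one_smul, sub_self])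
    let L : Wv →ₗ[F] ({j : Fin k // j ≠ i₀} → F) :=
      LinearMap.pi fun j => UnitaryInLinear.form hh (TensorMax.row (x - pure a w₀) j)
    obtain ⟨r, hr, hr0, hrr⟩ := exists_iso hh (S := LinearMap.ker L) (by
      have h1 := LinearMap.finrank_range_add_finrank_ker L
      have h2 := Submodule.finrank_le (LinearMap.range L)
      rw [Module.finrank_fintype_fun_eq_card] at h1 h2
      simp only [ne_eq, Fintype.card_subtype_compl, Fintype.card_subtype_eq, Fintype.card_fin] at h1 h2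
      omega)
    have hx0 : eta hP r (x - pure a w₀) = 0 := (eta_zero_iff hP).2 fun i => by
      obtain ⟨c, hc⟩ := (Submodule.mem_span_range_iff_exists_fun F).1 (hi₀ i)
      rw [← hc, show γ (∑ j, c j • TensorMax.row (x - pure a w₀) j) r = ∑ j, γ (c j • TensorMax.row (x - pure a w₀) j) r
        from map_sum (UnitaryInLinear.form hh r) _ _]
      exact Finset.sum_eq_zero fun j _ => by
        rw [hh.smul, comm_zero hh (show γ r (TensorMax.row (x - pure a w₀) j) = 0 from congrFun hr j), mul_zero]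
    have hxr : eta hP r x = γ w₀ r • a := by
      rw [map_sub, eta_pure, sub_eq_zero] at hx0; exact hx0
    have hne : γ w₀ r ≠ 0 := fun h0 => hyB ((hB₀ y).2 (pure_image hO hex hno hg hr0 hrr
      (show eta hP r x = 0 by rw [hxr, h0, zero_smul])))
    have hrR : ∀ w ∈ B₀, γ (bw w) r = 0 := fun w hw => by
      by_contra hwr
      set c := γ w₀ r / γ (bw w) r with hc
      have h1 : eta hP r (img' (y - c • w)) = 0 := by
        rw [map_sub, map_smul, map_sub, map_smul, hbw w hw, eta_pure, show eta hP r (img' y) = _ from hxr,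
          smul_smul, hc, div_mul_cancel₀ _ hwr, sub_self]
      have h2 : y - c • w ∈ B₀ := (hB₀ _).2 (pure_image hO hex hno hg hr0 hrr h1)
      exact hyB (by simpa using B₀.add_mem h2 (B₀.smul_mem c hw))
    refine ⟨σ (γ w₀ r)⁻¹ • r, ?_, by rw [hh.smul, smul_right hh, hrr, mul_zero, mul_zero], ?_⟩
    · rintro b ⟨w, hw, rfl⟩
      rw [smul_right hh, hrR w hw, mul_zero]
    · funext i
      rw [eta_apply, smul_right hh, hh.inv, show γ (TensorMax.row x i) r = (γ w₀ r • a) i from congrFun hxr i,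
        Pi.smul_apply, smul_eq_mul, ← mul_assoc, inv_mul_cancel₀ hne, one_mul]
  -- all vectors of the orthogonal are isotropic
  have hcard : Nat.card S = Nat.card R := by
    let Φr : R → (B.dualAnnihilator : Submodule F (Module.Dual F Wv)) := fun r =>
      ⟨UnitaryInLinear.form hh (r : Wv), (Submodule.mem_dualAnnihilator _).2 fun b hb => r.2 b hb⟩
    have hbij : Function.Bijective Φr := by
      refine ⟨fun r r' h => Subtype.ext (right_ext hh fun x => LinearMap.congr_fun (congrArg Subtype.val h) x),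
        fun φ => ?_⟩
      obtain ⟨r, hr⟩ := exists_repr hh (φ : Module.Dual F Wv)
      exact ⟨⟨r, fun b hb => by rw [hr]; exact (Submodule.mem_dualAnnihilator _).1 φ.2 b hb⟩,
        Subtype.ext (LinearMap.ext fun x => hr x)⟩
    have hB : Module.finrank F B = Module.finrank F B₀ := by
      have e := LinearMap.finrank_range_of_inj (f := bw.domRestrict B₀) (fun p q h => Subtype.ext (hinj (by
        rw [hbw _ p.2, hbw _ q.2]; exact congrArg _ h)))
      rw [LinearMap.range_domRestrict] at e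
      exact e
    rw [Nat.card_eq_of_bijective Φr hbij, Module.natCard_eq_pow_finrank (K := F),
      Module.natCard_eq_pow_finrank (K := F) (V := B.dualAnnihilator)]
    congr 1
    have h1 := Subspace.finrank_add_finrank_dualAnnihilator_eq B
    have h2 := Submodule.finrank_add_eq_of_isCompl hS
    omega
  have hex' : ∀ y : S, ∃ r : R, γ (r : Wv) r = 0 ∧ ((y : Wv) ≠ 0 → eta hP (r : Wv) (img' y) = a) ∧
      ((y : Wv) = 0 → r = 0) := by
    intro y
    by_cases hy0 : (y : Wv) = 0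
    · exact ⟨0, zero_left hh _, fun h => absurd hy0 h, fun _ => rfl⟩
    · obtain ⟨r, hrR, hrr, hr⟩ := hval y y.2 hy0
      exact ⟨⟨r, hrR⟩, hrr, fun _ => hr, fun h => absurd h hy0⟩
  choose ψ hψ using hex'
  have hψinj : Function.Injective ψ := by
    intro y y' h
    by_contra hne
    have hz : ∀ y : S, (ψ y : Wv) = 0 → (y : Wv) = 0 := fun y h0 => by
      by_contra hy0
      have h1 := (hψ y).2.1 hy0
      rw [h0] at h1
      exact ha0 (h1.symm.trans (funext fun i => zero_right hh _))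
    by_cases hy0 : (y : Wv) = 0
    · have e1 : (ψ y' : Wv) = 0 := by rw [← h, (hψ y).2.2 hy0]; rfl
      exact hne (Subtype.ext (hy0.trans (hz y' e1).symm))
    have hy'0 : (y' : Wv) ≠ 0 := fun h0 => hy0 (hz y (by rw [h, (hψ y').2.2 h0]; rfl))
    have hr0 : (ψ y : Wv) ≠ 0 := fun h0 => hy0 (hz y h0)
    have h1 : eta hP (ψ y : Wv) (img' ((y : Wv) - y')) = 0 := by
      rw [map_sub, map_sub, (hψ y).2.1 hy0, congrArg Subtype.val h, (hψ y').2.1 hy'0, sub_self]
    have h2 : (y : Wv) - y' ∈ B₀ := (hB₀ _).2 (pure_image hO hex hno hg hr0 (hψ y).1 h1)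
    exact hne (Subtype.ext (sub_eq_zero.1 (Submodule.disjoint_def.1 hS.disjoint _ h2 (S.sub_mem y.2 y'.2))))
  have hψsurj : Function.Surjective ψ := (hψinj.bijective_of_nat_card_le hcard.ge).2
  have hRiso : ∀ r ∈ R, γ r r = 0 := fun r hr => by
    obtain ⟨y, hy⟩ := hψsurj ⟨r, hr⟩
    have := (hψ y).1
    rwa [hy] at this
  have hRB : ∀ r ∈ R, r ∈ B := fun r hr => by
    by_contra hrB
    obtain ⟨φ, hφ, hφr⟩ := exists_row_of_not_mem hrB
    obtain ⟨z, hz⟩ := exists_repr hh
      { toFun := fun x => φ ⬝ᵥ x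
        map_add' := dotProduct_add φ
        map_smul' := fun t x => dotProduct_smul t φ x }
    have hz' : ∀ x, γ x z = φ ⬝ᵥ x := hz
    have h1 := polar_zero hh hRiso hr (y := z) (fun b hb => by rw [hz', hφ b hb])
    rw [hz', hφr] at h1
    exact one_ne_zero h1
  -- enlarge the pure part
  obtain ⟨y, hy, hy0⟩ := Submodule.exists_mem_ne_zero_of_ne_bot (p := S) fun h0 => htop (by
    have := hS.sup_eq_top
    rwa [h0, sup_bot_eq] at this)
  obtain ⟨r, hrR, hrr, hr⟩ := hval y hy hy0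
  have hr0 : r ≠ 0 := fun h0 => ha0 (by rw [← hr, h0]; exact funext fun i => zero_right hh _)
  obtain ⟨wr, hwr, hwrr⟩ := hRB r hrR
  obtain ⟨c, hc0, hc⟩ := exists_skew hh
  obtain ⟨t, ht, htx⟩ := exists_tv hh hrr (trace_zero_of hh hc)
  have htT : t ∈ roots σ γ := ⟨ht, r, hr0, hrr, c, hc0, trace_zero_of hh hc, htx⟩
  have hfix : ∀ x, (Units.val (kr (1 : GL (Fin k) F) t)) *ᵥ x = x + c • pure (eta hP r x) r := fun x =>
    TensorMax.ext_row fun i => by
      rw [kr_coe, Units.val_one, row_one_kron, htx]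
      show _ = TensorMax.row x i + c • (γ (TensorMax.row x i) r • r)
      rw [smul_smul]
  set g₀ := g⁻¹ * kr 1 t * g with hg₀
  have hg₀M : g₀ ∈ M := mul_mem (mul_mem (inv_mem hg) (kr_mem_M hO.toCore (one_mem (isoSL β)) ht)) hg
  have hg₀e : ∀ w, (Units.val g₀) *ᵥ pure e w = (Units.val g⁻¹) *ᵥ (img' w + c • pure (eta hP r (img' w)) r) :=
    fun w => by rw [hg₀, mulVec_mul_GL, mulVec_mul_GL, hfix, himg]
  obtain ⟨B₁, hB₁⟩ := exists_submodule hO hex hno hg₀M e hn4
  have hle : B₀ ≤ B₁ := fun w hw => (hB₁ w).2 ⟨e, w, by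
    rw [hg₀e, show eta hP r (img' w) = 0 by
      rw [hbw w hw, eta_pure, hrR _ ⟨w, hw, rfl⟩, zero_smul], pure_zero_left, smul_zero, add_zero, himg,
      inv_mulVec_cancel]⟩
  have hyB₁ : y ∈ B₁ := (hB₁ y).2 ⟨e, y + c • wr, by
    rw [hg₀e, hr, show pure a r = img' wr by rw [hbw wr hwr, hwrr], ← map_smul, ← map_add, himg, inv_mulVec_cancel]⟩
  have hlt : B₀ < B₁ := lt_of_le_of_ne hle fun h =>
    hy0 (Submodule.disjoint_def.1 hS.disjoint y (h ▸ hyB₁) hy)
  have hg₀K : g₀ ∈ Cfsg.Geo.kroneckerSubgroup k n F := by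
    by_contra hK
    have h1 := hd g₀ hg₀M B₁ hB₁ hK
    have h2 := Submodule.finrank_lt_finrank_of_lt hlt
    omega
  obtain ⟨p, hp⟩ := CharP.exists F
  haveI : Fact p.Prime := ⟨(CharP.char_is_prime_or_zero F p).resolve_right (CharP.char_ne_zero_of_finite F p)⟩
  have h3 := kron_of_conj (by omega) hkn (roots_spec hO hex hno p) (inv_mem hg) htT (by rw [inv_inv]; exact hg₀K)
  exact hgK (by simpa using inv_mem h3)

end Cfsg.Agent.Forms.Max.TensorRes.Unitary
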