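import Cfsg.Agent.Lib.Forms.Max.Tensor.UnitaryThree
import Cfsg.Agent.Lib.Forms.Max.Factor
import Cfsg.Agent.Lib.Forms.Max.UnitaryBase
import Cfsg.Agent.Lib.Forms.Max.SubfieldLinear

/-!
# Stabilisers of tensor decompositions are maximal in the special unitary groups
-/

set_option autoImplicit false
set_option linter.unusedSectionVars false

namespace Cfsg.Agent.Forms.Max.TensorRes.Unitary

open Matrix Cfsg.Agent.Aschbacher Cfsg.Agent.Forms.Max.TensorMax Cfsg.Agent.Forms.Max.UnitaryInLinear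
  Cfsg.Agent.Forms.Max.HermTools

variable {F : Type*} [Field F] [Fintype F] {k m : ℕ}
variable {σ : F →+* F} {β : (Fin k → F) → (Fin k → F) → F} {γ : (Fin m → F) → (Fin m → F) → F}
  {Φ : (Fin k × Fin m → F) → (Fin k × Fin m → F) → F}

/-- an overgroup consists of Kronecker products or contains all transvections -/
theorem kron_or_all {M : Subgroup (GL (Fin k × Fin m) F)} (hO : Over σ β γ Φ M)
    (hex : (∃ c : F, σ c = c ∧ c ≠ 0 ∧ c ≠ 1) ∨ 3 ≤ k) :
    M ≤ Cfsg.Geo.kroneckerSubgroup k m F ∨ ∀ v, Φ v v = 0 → v ∈ centres σ Φ M := by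
  by_cases h : ∃ u f, u ≠ 0 ∧ β u u = 0 ∧ f ≠ 0 ∧ γ f f = 0 ∧ pure u f ∈ centres σ Φ M
  swap
  · push Not at h
    by_cases hm4 : 4 ≤ m
    · exact Or.inl (le_kron hO hex h hm4)
    · have := hO.hk; have := hO.hkn
      exact Or.inl (le_kron_three hO h (by omega) (by omega) hex)
  obtain ⟨u₀, f₀, hu₀, huu, hf₀, hff, hc⟩ := h
  refine Or.inr fun v hv => centres_all hO (fun u f hu hf => ?_) hv
  have hP := hO.pair
  have hzero : (0 : Fin k × Fin m → F) ∈ centres σ Φ M :=
    ⟨zero_left hP.whole 0, fun g c _ hg => by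
      have : g = 1 := gl_ext fun x => by rw [hg, smul_zero, add_zero, Units.val_one, one_mulVec]
      exact this ▸ one_mem M⟩
  rcases eq_or_ne u 0 with rfl | hu0
  · rwa [pure_zero_left]
  rcases eq_or_ne f 0 with rfl | hf0
  · rwa [pure_zero_right]
  obtain ⟨a, ha, c, hac, hc0⟩ := exists_move hP.left huu hu hu₀ hu0
  obtain ⟨b, hb, d, hbd, hd0⟩ := exists_move hP.right hff hf hf₀ hf0
  have h1 := centres_smul hO (c * d)⁻¹ (centres_map hO (kr_mem_M hO.toCore ha hb) hc)
  rwa [kr_pure, hac, hbd, pure_smul_left, pure_smul_right, smul_smul c d, inv_smul_smul₀ (mul_ne_zero hc0 hd0)] at h1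

theorem not_le_kron (hP : Pair σ β γ Φ) (hk : 2 ≤ k) (hkm : k < m) :
    ¬ isoSL Φ ≤ Cfsg.Geo.kroneckerSubgroup k m F := fun hle => by
  obtain ⟨u, hu0, huu⟩ := exists_iso_top hP.left (by rw [Fintype.card_fin]; exact hk)
  obtain ⟨f, hf0, hff⟩ := exists_iso_top hP.right (by rw [Fintype.card_fin]; omega)
  obtain ⟨c, hc0, hc⟩ := exists_skew hP.whole
  have hv0 : pure u f ≠ 0 := pure_ne_zero hu0 hf0
  obtain ⟨g, hg, hgx⟩ := exists_tv hP.whole (v := pure u f) (by rw [hP.mul, huu, zero_mul])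
    (trace_zero_of hP.whole hc)
  have hmov : mov (Units.val g) = Submodule.span F {pure u f} := by
    refine le_antisymm (fun v hv => ?_) ((Submodule.span_singleton_le_iff_mem _ _).2 ?_)
    · obtain ⟨y, rfl⟩ := mem_mov.1 hv
      rw [hgx, add_sub_cancel_left]
      exact Submodule.smul_mem _ _ (Submodule.mem_span_singleton_self _)
    · obtain ⟨x, hx⟩ := exists_value_one hP.whole hv0
      exact mem_mov.2 ⟨c⁻¹ • x, by
        rw [hgx, add_sub_cancel_left, hP.whole.smul, hx, mul_one, mul_inv_cancel₀ hc0, one_smul]⟩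
  obtain ⟨a, b, hab⟩ := exists_kr (hle hg)
  obtain ⟨b', hb'⟩ := exists_of_small (by omega) (a := a) (b := b) (by
    rw [← hab, hmov, finrank_span_singleton hv0]; omega)
  have h1 : Module.finrank F (mov (Units.val g)) = k * Module.finrank F (mov (Units.val b')) := by
    rw [hab, hb', kr_coe, Units.val_one, mov_one_kron, finrank_UT]
  rw [hmov, finrank_span_singleton hv0] at h1
  have := Nat.eq_one_of_mul_eq_one_right h1.symm
  omega

/-- the tensor stabilisers in `SU_n` -/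
theorem tensor_maximal {n q : ℕ} (hF : Fintype.card F = q ^ 2) (hk : 2 ≤ k) (hkm : k < m) (hm : 3 ≤ m)
    (hex : ¬ (k = 2 ∧ q = 2)) (e : Fin n ≃ Fin k × Fin m) (P : GL (Fin n) F)
    {f₁ : (Fin k → F) → (Fin k → F) → F} {f₂ : (Fin m → F) → (Fin m → F) → F}
    (hf₁ : Cfsg.Geo.IsUnitaryFormPow q f₁) (hf₂ : Cfsg.Geo.IsUnitaryFormPow q f₂)
    (hT : Cfsg.Geo.IsTensorFormStructure (fun x : F => x ^ q) (Cfsg.hermForm n F q) f₁ f₂ e P) :
    Cfsg.Geo.IsMaximalIn (Cfsg.GU n F q ⊓ Cfsg.Geo.specialLinear (Fin n) F)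
      (Cfsg.Geo.tensorProductSubgroup k m e P ⊓ (Cfsg.GU n F q ⊓ Cfsg.Geo.specialLinear (Fin n) F)) := by
  let s := HermStd.qHom hF
  have hs : ∀ x : F, s x = x ^ q := fun x => rfl
  have mkHerm : ∀ {r : ℕ} {f : (Fin r → F) → (Fin r → F) → F}, Cfsg.Geo.IsUnitaryFormPow q f → Herm s f :=
    fun {r f} hf => ⟨HermStd.qHom_ne_id hF, HermStd.qHom_qHom hF, hf.add_left, hf.smul_left, hf.herm, fun v hv => by
      by_contra h0
      obtain ⟨⟨x, hx⟩, y, hy⟩ := hf.nondegenerate v h0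
      first
        | exact hx (hv x)
        | exact hy (hv y)⟩
  have hβ₁ := mkHerm hf₁
  have hγ := mkHerm hf₂
  obtain ⟨κ, hκ0, hval⟩ := hT
  let Ψ : (Fin k × Fin m → F) → (Fin k × Fin m → F) → F := fun x y =>
    Cfsg.hermForm n F q ((Units.val P) *ᵥ (x ∘ e)) ((Units.val P) *ᵥ (y ∘ e))
  have hgram : ∀ {r : ℕ} {f : (Fin r → F) → (Fin r → F) → F}, Herm s f →
      ∀ x y, Cfsg.Geo.formOfGram (fun x : F => x ^ q) (Cfsg.Geo.gramMatrix f) x y = f x y := fun {r f} hf x y =>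
    Factor.formOfGram_gram s hf.add hf.smul (add_right hf) (fun c v w => smul_right hf c v w) x y
  have hΨ : ∀ u w u' w', Ψ (pure u w) (pure u' w') = κ * (f₁ u u' * f₂ w w') := by
    intro u w u' w'
    show Cfsg.hermForm n F q _ _ = _
    rw [hval, ← hgram hβ₁, ← hgram hγ]
    congr 1
    exact Factor.formOfGram_pure s _ _ u u' w w'
  have hH : Herm s Ψ := by
    refine ⟨HermStd.qHom_ne_id hF, HermStd.qHom_qHom hF, fun x y v => ?_, fun c x v => ?_, fun v w => ?_,
      fun v hv => ?_⟩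
    · show Cfsg.hermForm n F q _ _ = _
      rw [show (x + y) ∘ e = x ∘ e + y ∘ e from rfl, mulVec_add, Classical.Unitary.H_add_left]
    · show Cfsg.hermForm n F q _ _ = _
      rw [show (c • x) ∘ e = c • (x ∘ e) from rfl, mulVec_smul, Classical.Unitary.H_smul_left]
    · exact (Classical.Unitary.H_conj hF _ _).symm
    · have h1 : (Units.val P) *ᵥ (v ∘ e) = 0 := Classical.Unitary.eq_zero_of_H hF fun z => by
        have := hv (((Units.val P⁻¹) *ᵥ z) ∘ e.symm)
        change Cfsg.hermForm n F q _ _ = 0 at this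
        rwa [Function.comp_assoc, Equiv.symm_comp_self, Function.comp_id, mulVec_inv_cancel] at this
      funext a
      have h2 := congrFun (mulVec_inj P (h1.trans (mulVec_zero _).symm)) (e.symm a)
      simpa using h2
  obtain ⟨u₀, hu₀⟩ : ∃ u, f₁ u u ≠ 0 := by
    by_contra hc
    push Not at hc
    obtain ⟨i⟩ : Nonempty (Fin k) := ⟨⟨0, by omega⟩⟩
    have hne' : (Pi.single i (1 : F) : Fin k → F) ≠ 0 := fun e => by simpa using congrFun e i
    exact hne' (hβ₁.nd _ fun x => polar_zero hβ₁ (S := ⊤) (fun y _ => hc y) trivial trivial)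
  obtain ⟨w₀, hw₀⟩ : ∃ w, f₂ w w ≠ 0 := by
    by_contra hc
    push Not at hc
    obtain ⟨i⟩ : Nonempty (Fin m) := ⟨⟨0, by omega⟩⟩
    have hne' : (Pi.single i (1 : F) : Fin m → F) ≠ 0 := fun e => by simpa using congrFun e i
    exact hne' (hγ.nd _ fun x => polar_zero hγ (S := ⊤) (fun y _ => hc y) trivial trivial)
  have hκ : s κ = κ := by
    have h1 := self_fixed hH (pure u₀ w₀)
    rw [hΨ, map_mul, map_mul, self_fixed hβ₁, self_fixed hγ] at h1
    exact mul_right_cancel₀ (mul_ne_zero hu₀ hw₀) h1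
  have hβ : Herm s (fun u v => κ * f₁ u v) := by
    refine ⟨hβ₁.ne_id, hβ₁.inv, fun x y v => ?_, fun c x v => ?_, fun v w => ?_, fun v hv => hβ₁.nd v fun x => ?_⟩
    · show κ * f₁ (x + y) v = _; rw [hβ₁.add, mul_add]
    · show κ * f₁ (c • x) v = c * (κ * f₁ x v); rw [hβ₁.smul]; ring
    · show κ * f₁ v w = s (κ * f₁ w v); rw [map_mul, hκ, ← hβ₁.herm]
    · exact (mul_eq_zero.1 (hv x)).resolve_left hκ0
  have hP : Pair s (fun u v => κ * f₁ u v) f₂ Ψ :=
    ⟨hβ, hγ, hH, fun u w u' w' => by rw [hΨ]; ring⟩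
  have hex' : (∃ c : F, s c = c ∧ c ≠ 0 ∧ c ≠ 1) ∨ 3 ≤ k := by
    by_contra hc
    push Not at hc
    obtain ⟨hc, hk3⟩ := hc
    refine hex ⟨by omega, ?_⟩
    have hq : 1 < q := HermStd.one_lt_q hF
    -- the fixed field has two elements
    obtain ⟨g, hg⟩ := IsCyclic.exists_generator (α := Fˣ)
    have ho : orderOf g = q ^ 2 - 1 := by
      rw [orderOf_eq_card_of_forall_mem_zpowers hg, Nat.card_units, Nat.card_eq_fintype_card, hF]
    set c := ((g ^ (q + 1) : Fˣ) : F) with hcd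
    have hcs : s c = c := by
      rw [hs, hcd, ← Units.val_pow_eq_pow_val]
      refine congrArg Units.val ?_
      rw [← pow_mul, pow_eq_pow_iff_modEq, ho]
      have e1 : (q + 1) * q = (q + 1) + (q ^ 2 - 1) := by
        have : 1 ≤ q ^ 2 := Nat.one_le_pow _ _ (by omega)
        have : (q + 1) * q = q ^ 2 + q := by ring
        omega
      rw [e1]
      exact Nat.add_modEq_right
    have h1 : g ^ (q + 1) = 1 := Units.ext (hc c hcs (Units.ne_zero _))
    have h2 := Nat.le_of_dvd (by omega) (orderOf_dvd_of_pow_eq_one h1)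
    rw [ho] at h2
    by_contra hq2
    have : 3 * q ≤ q ^ 2 := by
      rw [sq]; exact Nat.mul_le_mul_right q (by omega)
    omega
  let φ : GL (Fin k × Fin m) F ≃* GL (Fin n) F := (Cfsg.Geo.glReindex e.symm).trans (MulAut.conj P)
  have hφ : ∀ (g : GL (Fin k × Fin m) F) x,
      (Units.val (φ g)) *ᵥ ((Units.val P) *ᵥ (x ∘ e)) = (Units.val P) *ᵥ (((Units.val g) *ᵥ x) ∘ e) := by
    intro g x
    have h1 : glCoord e P (φ g) = g := by
      apply φ.injective
      exact conj_glReindex_glCoord e P (φ g)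
    conv_rhs => rw [← h1]
    exact (glCoord_mulVec e P (φ g) x).symm
  have hcoord : ∀ z, ∃ x, z = (Units.val P) *ᵥ (x ∘ e) := fun z =>
    ⟨((Units.val P⁻¹) *ᵥ z) ∘ e.symm, by
      rw [Function.comp_assoc, Equiv.symm_comp_self, Function.comp_id, mulVec_inv_cancel]⟩
  have hdet : ∀ g, (Units.val (φ g)).det = (Units.val g).det := fun g => by
    show ((P * Cfsg.Geo.glReindex e.symm g * P⁻¹ : GL (Fin n) F) : Matrix (Fin n) (Fin n) F).det = _
    rw [Units.val_mul, Units.val_mul, Matrix.det_units_conj]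
    exact Matrix.det_reindexAlgEquiv F F e.symm _
  have hmap : (isoSL Ψ).map φ.toMonoidHom = Cfsg.GU n F q ⊓ Cfsg.Geo.specialLinear (Fin n) F := by
    ext g
    constructor
    · rintro ⟨x, hx, rfl⟩
      refine Forms.Max.Unitary.mem_SUn.2 ⟨fun u v => ?_, (hdet x).trans hx.2⟩
      obtain ⟨a, rfl⟩ := hcoord u
      obtain ⟨b, rfl⟩ := hcoord v
      show Cfsg.hermForm n F q ((Units.val (φ x)) *ᵥ _) ((Units.val (φ x)) *ᵥ _) = _
      rw [hφ x a, hφ x b]
      exact hx.1 a b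
    · intro hg
      refine ⟨φ.symm g, ⟨fun a b => ?_, ?_⟩, φ.apply_symm_apply g⟩
      · show Cfsg.hermForm n F q _ _ = Cfsg.hermForm n F q _ _
        rw [← hφ (φ.symm g) a, ← hφ (φ.symm g) b, φ.apply_symm_apply]
        exact (Forms.Max.Unitary.mem_SUn.1 hg).1 _ _
      · rw [← hdet, φ.apply_symm_apply]
        exact (Forms.Max.Unitary.mem_SUn.1 hg).2
  have hcore : Cfsg.Geo.IsMaximalIn (isoSL Ψ) (Cfsg.Geo.kroneckerSubgroup k m F ⊓ isoSL Ψ) := by
    refine isMaximalIn_of inf_le_right (fun h => not_le_kron hP hk hkm fun g hg => (h hg).1)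
      fun M hM hMK g hgM hg => ?_
    have hO : Over s (fun u v => κ * f₁ u v) f₂ Ψ M := ⟨⟨hP, hMK, hM, hk⟩, hkm, hm⟩
    rcases kron_or_all hO hex' with h | h
    · exact absurd ⟨h hgM, hMK hgM⟩ hg
    rw [← Subgroup.map_le_map_iff_of_injective (f := φ.toMonoidHom) φ.injective, hmap]
    have hn : n = k * m := by
      have := Fintype.card_congr e
      simpa using this
    have hn4 : 4 ≤ n := by rw [hn]; nlinarith
    refine Forms.Max.Unitary.SUn_le_of_tv hF (by omega) (by omega) fun g' v c hv hc hg' => ?_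
    obtain ⟨v', rfl⟩ := hcoord v
    refine ⟨φ.symm g', (h v' hv).2 _ c (by rw [hs]; exact hc) fun x => ?_, φ.apply_symm_apply g'⟩
    have h1 := hφ (φ.symm g') x
    rw [φ.apply_symm_apply, hg', ← mulVec_smul, ← mulVec_add] at h1
    have h2 := mulVec_inj P h1
    funext a
    have h3 := congrFun h2 (e.symm a)
    simp only [Function.comp_apply, Pi.add_apply, Pi.smul_apply, Equiv.apply_symm_apply] at h3
    simp only [Pi.add_apply, Pi.smul_apply]
    exact h3.symm
  have h := SubfieldLinear.isMaximalIn_map φ hcore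
  rw [Subgroup.map_inf _ _ _ φ.injective, hmap] at h
  convert h using 2
  rw [Cfsg.Geo.tensorProductSubgroup, Subgroup.map_map]
  rfl

end Cfsg.Agent.Forms.Max.TensorRes.Unitary
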