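import Cfsg.Agent.Lib.Forms.Max.Tensor.UnitaryCentral

/-!
# A non-scalar central element of the radical yields a transvection with pure centre
-/

set_option autoImplicit false
set_option linter.unusedSectionVars false

namespace Cfsg.Agent.Forms.Max.TensorRes.Unitary

open Matrix Cfsg.Agent.Aschbacher Cfsg.Agent.Forms.Max.TensorMax Cfsg.Agent.Forms.Max.UnitaryInLinear
  Cfsg.Agent.Forms.Max.HermTools

variable {F : Type*} [Field F] [Fintype F] {k n : ℕ}
variable {σ : F →+* F} {β : (Fin k → F) → (Fin k → F) → F} {γ : (Fin n → F) → (Fin n → F) → F}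
  {Φ : (Fin k × Fin n → F) → (Fin k × Fin n → F) → F}

local notation "Uv" => (Fin k → F)

/-- the centres of the transvections in `M` -/
def centres {ι : Type} [Fintype ι] [DecidableEq ι] (σ : F →+* F) (Φ : (ι → F) → (ι → F) → F)
    (M : Subgroup (GL ι F)) : Set (ι → F) :=
  {v | Φ v v = 0 ∧ ∀ (g : GL ι F) (c : F), c + σ c = 0 →
    (∀ x, (Units.val g) *ᵥ x = x + (c * Φ x v) • v) → g ∈ M}

variable {M : Subgroup (GL (Fin k × Fin n) F)} (hO : Core σ β γ Φ M)
  {f f' : Fin n → F} (hff : γ f f = 0) (hff' : γ f f' = 1) (hf'f : γ f' f = 1)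
include hO hff hff' hf'f

/-- a skew map all of whose isotropic vectors are killed is scalar -/
theorem exists_nonzero_value {K : Uv →ₗ[F] Uv} (hK : InK γ M f K) (hns : ∀ μ : F, ∃ u, K u ≠ μ • u) :
    ∃ u, u ≠ 0 ∧ β u u = 0 ∧ β (K u) u ≠ 0 := by
  have hβ := hO.pair.left
  by_contra hc
  push Not at hc
  have hiso : ∀ u, β u u = 0 → β (K u) u = 0 := fun u hu => by
    rcases eq_or_ne u 0 with rfl | h0
    · rw [map_zero, zero_left hβ]
    · exact hc u h0 hu
  have hskew := InK.skew hO hff hff' hf'f hK
  have hsw : ∀ x y, β (K x) y = -σ (β (K y) x) := fun x y => by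
    rw [← hβ.herm x (K y)]; linear_combination hskew x y
  obtain ⟨e, he0, hee⟩ := exists_iso_top hβ (by rw [Fintype.card_fin]; exact hO.hk)
  obtain ⟨g, hgg, heg, hge⟩ := exists_partner hβ he0 hee
  obtain ⟨s, hs0, hs⟩ := exists_skew hβ
  set μ := β (K e) g with hμ
  have hKee := hiso e hee
  have hKgg := hiso g hgg
  -- the trace of `μ` vanishes
  have hμs : σ μ = -μ := by
    have h := hiso (e + s • g) (by
      simp only [hβ.add, add_right hβ, hβ.smul, smul_right hβ, hee, hgg, heg, hge]
      linear_combination hs)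
    simp only [map_add, map_smul, hβ.add, add_right hβ, hβ.smul, smul_right hβ, hKee, hKgg, hs, hsw g e,
      ← hμ] at h
    have h' : s * (σ μ + μ) = 0 := by linear_combination -h
    exact eq_neg_of_add_eq_zero_left ((mul_eq_zero.1 h').resolve_left hs0)
  have hKge : β (K g) e = μ := by rw [hsw g e, ← hμ, hμs, neg_neg]
  obtain ⟨l, hl⟩ : ∃ l : F, σ l ≠ l := by
    by_contra h
    push Not at h
    exact hβ.ne_id (RingHom.ext h)
  -- orthogonal to the plane the map acts as `μ`
  have hperp : ∀ y, β y e = 0 → β y g = 0 →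
      β (K y) e = 0 ∧ β (K y) g = 0 ∧ β (K y) y = μ * β y y := by
    intro y hye hyg
    obtain ⟨a, ha⟩ := exists_trace_eq hβ (self_fixed hβ y)
    have key : ∀ (x z : Uv), β x x = 0 → β z z = 0 → β x z = 1 → β z x = 1 → β (K x) x = 0 → β (K z) z = 0 →
        β (K x) z = μ → β (K z) x = μ → ∀ y : Uv, β y x = 0 → β y z = 0 → ∀ a : F, a + σ a + β y y = 0 →
        σ a * (β (K y) x) - a * σ (β (K y) x) + (β (K y) z - σ (β (K y) z)) +
          (β (K y) y - μ * β y y) = 0 := by
      intro x z hxx hzz hxz hzx hKx hKz hKxz hKzx y hyx hyz a ha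
      have h := hiso (y + a • x + z) (by
        simp only [hβ.add, add_right hβ, hβ.smul, smul_right hβ, hxx, hzz, hxz, hzx, hyx, hyz,
          comm_zero hβ hyx, comm_zero hβ hyz]
        linear_combination ha)
      simp only [map_add, map_smul, hβ.add, add_right hβ, hβ.smul, smul_right hβ, hKx, hKz, hKxz, hKzx,
        hsw x y, hsw z y] at h
      linear_combination h - μ * ha
    have h1 := key e g hee hgg heg hge hKee hKgg hμ.symm hKge y hye hyg a ha
    have h2 := key e g hee hgg heg hge hKee hKgg hμ.symm hKge y hye hyg (a + s) (by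
      rw [map_add, hs]; linear_combination ha)
    have h3 := key g e hgg hee hge heg hKgg hKee hKge hμ.symm y hyg hye a ha
    have h4 := key g e hgg hee hge heg hKgg hKee hKge hμ.symm y hyg hye (a + s) (by
      rw [map_add, hs]; linear_combination ha)
    rw [map_add, hs] at h2 h4
    -- the traces of both cross terms vanish for all multiples
    have hcross : ∀ x : F, (-s) * x - s * σ x = 0 → σ x = -x := fun x hx => by
      have h' : s * (σ x + x) = 0 := by linear_combination -hx
      exact eq_neg_of_add_eq_zero_left ((mul_eq_zero.1 h').resolve_left hs0)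
    have te : σ (β (K y) e) = -β (K y) e := hcross _ (by linear_combination h2 - h1)
    have tg : σ (β (K y) g) = -β (K y) g := hcross _ (by linear_combination h4 - h3)
    -- scale
    obtain ⟨b, hb⟩ := exists_trace_eq hβ (self_fixed hβ (l • y))
    have hly : β (l • y) e = 0 ∧ β (l • y) g = 0 :=
      ⟨by rw [hβ.smul, hye, mul_zero], by rw [hβ.smul, hyg, mul_zero]⟩
    have h5 := key e g hee hgg heg hge hKee hKgg hμ.symm hKge (l • y) hly.1 hly.2 b hb
    have h6 := key e g hee hgg heg hge hKee hKgg hμ.symm hKge (l • y) hly.1 hly.2 (b + s) (by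
      rw [map_add, hs]; linear_combination hb)
    have h7 := key g e hgg hee hge heg hKgg hKee hKge hμ.symm (l • y) hly.2 hly.1 b hb
    have h8 := key g e hgg hee hge heg hKgg hKee hKge hμ.symm (l • y) hly.2 hly.1 (b + s) (by
      rw [map_add, hs]; linear_combination hb)
    rw [map_add, hs] at h6 h8
    have tle : σ (β (K (l • y)) e) = -β (K (l • y)) e := hcross _ (by linear_combination h6 - h5)
    have tlg : σ (β (K (l • y)) g) = -β (K (l • y)) g := hcross _ (by linear_combination h8 - h7)
    rw [map_smul, hβ.smul, map_mul] at tle tlg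
    have ze : β (K y) e = 0 := by
      have h' : (l - σ l) * β (K y) e = 0 := by linear_combination tle - σ l * te
      exact (mul_eq_zero.1 h').resolve_left (sub_ne_zero.2 (Ne.symm hl))
    have zg : β (K y) g = 0 := by
      have h' : (l - σ l) * β (K y) g = 0 := by linear_combination tlg - σ l * tg
      exact (mul_eq_zero.1 h').resolve_left (sub_ne_zero.2 (Ne.symm hl))
    refine ⟨ze, zg, ?_⟩
    rw [ze, zg] at h1
    simp only [map_zero, mul_zero, sub_zero, zero_add] at h1
    linear_combination h1
  set P := LinearMap.ker (UnitaryInLinear.form hβ e) ⊓ LinearMap.ker (UnitaryInLinear.form hβ g) with hPdef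
  have hmem : ∀ {y}, y ∈ P ↔ β y e = 0 ∧ β y g = 0 := fun {y} => Iff.rfl
  have hPv : ∀ x ∈ P, ∀ y ∈ P, β (K x) y = μ * β x y := by
    intro x hx y hy
    set D : Uv → Uv → F := fun x y => β (K x) y - μ * β x y with hD
    have hdiag : ∀ z ∈ P, D z z = 0 := fun z hz => by
      rw [hD]; exact sub_eq_zero.2 (hperp z (hmem.1 hz).1 (hmem.1 hz).2).2.2
    have h1 := hdiag _ (P.add_mem hx hy)
    have h2 := hdiag _ (P.add_mem (P.smul_mem l hx) hy)
    have d1 := hdiag x hx
    have d2 := hdiag y hy
    simp only [hD, map_add, map_smul, hβ.add, add_right hβ, hβ.smul, smul_right hβ] at h1 h2 d1 d2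
    have h' : (l - σ l) * (β (K x) y - μ * β x y) = 0 := by
      linear_combination h2 - σ l * h1 - (l * σ l - σ l) * d1 - (1 - σ l) * d2
    exact sub_eq_zero.1 ((mul_eq_zero.1 h').resolve_left (sub_ne_zero.2 (Ne.symm hl)))
  obtain ⟨u₀, hu₀⟩ := hns μ
  have hdec : ∀ x, x - β x g • e - β x e • g ∈ P := fun x => hmem.2
    ⟨by simp [sub_left hβ, hβ.smul, hee, hge], by simp [sub_left hβ, hβ.smul, hgg, heg]⟩
  refine hu₀ (sub_eq_zero.1 (hβ.nd _ fun x => ?_))
  set p := u₀ - β u₀ g • e - β u₀ e • g
  set r := x - β x g • e - β x e • g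
  have hpe : β p e = 0 := (hmem.1 (hdec u₀)).1
  have hpg : β p g = 0 := (hmem.1 (hdec u₀)).2
  have hre : β r e = 0 := (hmem.1 (hdec x)).1
  have hrg : β r g = 0 := (hmem.1 (hdec x)).2
  obtain ⟨hKpe, hKpg, -⟩ := hperp p hpe hpg
  have hKer : β (K e) r = 0 := by rw [hsw, (hperp r hre hrg).1, map_zero, neg_zero]
  have hKgr : β (K g) r = 0 := by rw [hsw, (hperp r hre hrg).2.1, map_zero, neg_zero]
  have eu : u₀ = p + β u₀ g • e + β u₀ e • g := by simp only [p]; abel
  have ex : x = r + β x g • e + β x e • g := by simp only [r]; abel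
  rw [eu, ex]
  simp only [map_add, map_smul, sub_left hβ, hβ.add, add_right hβ, hβ.smul, smul_right hβ, hKee, hKgg, hKge,
    ← hμ, hKer, hKgr, hKpe, hKpg, hPv p (hdec u₀) r (hdec x), hee, hgg, heg, hge, hpe, hpg,
    comm_zero hβ hre, comm_zero hβ hrg]
  ring

/-- a transvection with pure centre -/
theorem exists_centre (hex : (∃ c : F, σ c = c ∧ c ≠ 0 ∧ c ≠ 1) ∨ 3 ≤ k) (hf0 : f ≠ 0)
    {K : Uv →ₗ[F] Uv} (hK : InK γ M f K) (hns : ∀ μ : F, ∃ u, K u ≠ μ • u) :
    ∃ u, u ≠ 0 ∧ β u u = 0 ∧ pure u f ∈ centres σ Φ M := by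
  have hP := hO.pair
  have hβ := hP.left
  obtain ⟨u, hu0, huu, hω⟩ := exists_nonzero_value hO hff hff' hf'f hK hns
  set ω := β (K u) u with hωd
  obtain ⟨τ, hτ0, hτ⟩ := exists_skew hβ
  have hskew := InK.skew hO hff hff' hf'f hK
  have hωs : σ ω = -ω := by
    rw [hωd, ← hβ.herm u (K u)]; linear_combination hskew u u
  let E : Uv →ₗ[F] Uv := (UnitaryInLinear.form hβ u).smulRight u
  have hE : ∀ v, E v = β v u • u := fun v => rfl
  let C₁ : Uv →ₗ[F] Uv := ((UnitaryInLinear.form hβ u).comp K).smulRight u - (UnitaryInLinear.form hβ u).smulRight (K u)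
  have hC₁ : ∀ v, C₁ v = β (K v) u • u - β v u • K u := fun v => rfl
  -- conjugation by a transvection
  have hconj : ∀ s : F, σ s = -s → InK γ M f (K + s • C₁ - (s * s * ω) • E) := by
    intro s hs
    obtain ⟨a, ha, hax⟩ := exists_tv hβ huu (trace_zero_of hβ hs)
    refine InK.conj hO hff hff' hf'f hK ha fun v => ?_
    simp only [LinearMap.sub_apply, LinearMap.add_apply, LinearMap.smul_apply, hC₁, hE, hax, map_add, map_smul,
      hβ.add, hβ.smul, huu, ← hωd, mul_zero, add_zero]
    module
  -- a multiple of `E`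
  suffices h : ∃ t : F, t ≠ 0 ∧ InK γ M f (t • E) by
    obtain ⟨t, ht0, htE⟩ := h
    have hts : σ t = -t := by
      obtain ⟨x, hx⟩ := exists_value_one hβ hu0
      have := InK.skew hO hff hff' hf'f htE x x
      simp only [LinearMap.smul_apply, hE, hβ.smul, smul_right hβ, hx, map_one, mul_one, one_mul] at this
      rw [show β u x = 1 by rw [hβ.herm, hx, map_one]] at this
      linear_combination this
    refine ⟨u, hu0, huu, by rw [hP.mul, huu, zero_mul], fun g c hc hg => ?_⟩
    have hcs : σ (c / t) = c / t := by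
      rw [map_div₀, hts, eq_neg_of_add_eq_zero_right hc, neg_div_neg_eq]
    obtain ⟨d, hd, hdE⟩ := InK.smul hO hff hff' hf'f htE hcs
    have e : g = d := Units.ext (Matrix.ext_of_mulVec_single fun i => by
      have e : Pi.single i (1 : F) = pure (Pi.single i.1 (1 : F)) (Pi.single i.2 (1 : F)) := funext fun a => by
        obtain ⟨a₁, a₂⟩ := a
        obtain ⟨i₁, i₂⟩ := i
        simp only [TensorMax.pure, Pi.single_apply, Prod.mk.injEq]
        by_cases h1 : a₁ = i₁ <;> by_cases h2 : a₂ = i₂ <;> simp [h1, h2]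
      rw [e, hg, hdE, LinearMap.smul_apply, LinearMap.smul_apply, hE, hP.mul, smul_smul, smul_smul,
        div_mul_cancel₀ _ ht0, pure_smul_left, smul_smul]
      congr 2
      ring)
    exact e ▸ hd
  rcases hex with ⟨c, hc, hc0, hc1⟩ | hk3
  · refine ⟨(c - c * c) * (τ * τ) * ω, ?_, ?_⟩
    · refine mul_ne_zero (mul_ne_zero (fun h => ?_) (mul_ne_zero hτ0 hτ0)) hω
      rcases mul_eq_zero.1 (show c * (1 - c) = 0 by linear_combination h) with h' | h'
      · exact hc0 h'
      · exact hc1 (sub_eq_zero.1 h').symm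
    have h1 := InK.add hO hff hff' hf'f (hconj (c * τ) (by rw [map_mul, hc, hτ, mul_neg]))
      (InK.neg hO hff hff' hf'f hK)
    have h2 := InK.add hO hff hff' hf'f (hconj τ hτ) (InK.neg hO hff hff' hf'f hK)
    have h3 := InK.add hO hff hff' hf'f h1 (InK.neg hO hff hff' hf'f (InK.smul hO hff hff' hf'f h2 hc))
    convert h3 using 1
    refine LinearMap.ext fun v => ?_
    simp only [LinearMap.add_apply, LinearMap.neg_apply, LinearMap.sub_apply, LinearMap.smul_apply]
    module
  by_cases hc : ∃ c : F, σ c = c ∧ c ≠ 0 ∧ c ≠ 1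
  · obtain ⟨c, hc, hc0, hc1⟩ := hc
    refine ⟨(c - c * c) * (τ * τ) * ω, ?_, ?_⟩
    · refine mul_ne_zero (mul_ne_zero (fun h => ?_) (mul_ne_zero hτ0 hτ0)) hω
      rcases mul_eq_zero.1 (show c * (1 - c) = 0 by linear_combination h) with h' | h'
      · exact hc0 h'
      · exact hc1 (sub_eq_zero.1 h').symm
    have h1 := InK.add hO hff hff' hf'f (hconj (c * τ) (by rw [map_mul, hc, hτ, mul_neg]))
      (InK.neg hO hff hff' hf'f hK)
    have h2 := InK.add hO hff hff' hf'f (hconj τ hτ) (InK.neg hO hff hff' hf'f hK)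
    have h3 := InK.add hO hff hff' hf'f h1 (InK.neg hO hff hff' hf'f (InK.smul hO hff hff' hf'f h2 hc))
    convert h3 using 1
    refine LinearMap.ext fun v => ?_
    simp only [LinearMap.add_apply, LinearMap.neg_apply, LinearMap.sub_apply, LinearMap.smul_apply]
    module
  -- two elements in the fixed field
  push Not at hc
  have hone : ∀ c : F, σ c = c → c ≠ 0 → c = 1 := hc
  have h2 : (1 : F) + 1 = 0 := by
    by_contra h
    have := hone (1 + 1) (by rw [map_add, map_one]) h
    exact one_ne_zero (α := F) (by linear_combination this)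
  have hneg : ∀ x : F, -x = x := fun x => by linear_combination -x * h2
  have hskfix : ∀ x : F, σ x = -x → σ x = x := fun x hx => by rw [hx, hneg]
  have hω1 : ω = 1 := hone ω (hskfix ω hωs) hω
  -- first step: a map supported on a plane through `u`
  let D : Uv → (Uv →ₗ[F] Uv) := fun v₀ =>
    (UnitaryInLinear.form hβ v₀).smulRight u + (UnitaryInLinear.form hβ u).smulRight v₀
  have hD : ∀ v₀ v, D v₀ v = β v v₀ • u + β v u • v₀ := fun v₀ v => rfl
  set y := K u with hy
  have hyu : β y u = 1 := by rw [hy, ← hωd, hω1]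
  have huy : β u y = 1 := by rw [hβ.herm, hyu, map_one]
  have h1 : InK γ M f (D y + E) := by
    have h1 := InK.add hO hff hff' hf'f (hconj 1 (by rw [map_one, hneg])) (InK.neg hO hff hff' hf'f hK)
    convert h1 using 1
    refine LinearMap.ext fun v => ?_
    simp only [LinearMap.add_apply, LinearMap.neg_apply, LinearMap.sub_apply, LinearMap.smul_apply, hD, hE, hC₁,
      one_smul, mul_one, hω1]
    have e : β v y = β (K v) u := by
      rw [hy]; linear_combination (hskew v u) - β (K v) u * h2
    rw [e]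
    have e' : -β v u = β v u := hneg _
    match_scalars <;> first | linear_combination (0 : F) | linear_combination (β v u) * h2 | linear_combination -(β v u) * h2
  -- a vector orthogonal to the plane
  obtain ⟨z, hzu, hzy, hzz⟩ : ∃ z, β z u = 0 ∧ β z y = 0 ∧ β z z = 1 := by
    set P := LinearMap.ker (UnitaryInLinear.form hβ u) ⊓ LinearMap.ker (UnitaryInLinear.form hβ y) with hPd
    have hmem : ∀ {z}, z ∈ P ↔ β z u = 0 ∧ β z y = 0 := fun {z} => Iff.rfl
    set r := β y y with hr
    have hdec : ∀ x, x - β x u • (y - r • u) - β x y • u ∈ P := fun x => hmem.2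
      ⟨by simp [sub_left hβ, hβ.smul, huu, hyu], by simp [sub_left hβ, hβ.smul, huy, ← hr]⟩
    by_contra hno
    push Not at hno
    have hall : ∀ z ∈ P, β z z = 0 := fun z hz => by
      by_contra h0
      exact hno z (hmem.1 hz).1 (hmem.1 hz).2 (hone _ (self_fixed hβ z) h0)
    have hzero : ∀ z ∈ P, z = 0 := fun z hz => hβ.nd z fun x => by
      have e : x = (x - β x u • (y - r • u) - β x y • u) + (β x u • (y - r • u) + β x y • u) := by abel
      rw [e, add_right hβ, polar_zero hβ hall hz (hdec x), add_right hβ, smul_right hβ, smul_right hβ,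
        sub_right hβ, smul_right hβ, (hmem.1 hz).1, (hmem.1 hz).2]
      ring
    have hd : 1 ≤ Module.finrank F P := by
      have e : P = LinearMap.ker ((UnitaryInLinear.form hβ u).prod (UnitaryInLinear.form hβ y)) := by
        rw [hPd, LinearMap.ker_prod]
      have h1 := LinearMap.finrank_range_add_finrank_ker
        ((UnitaryInLinear.form hβ u).prod (UnitaryInLinear.form hβ y))
      have h2 := Submodule.finrank_le
        (LinearMap.range ((UnitaryInLinear.form hβ u).prod (UnitaryInLinear.form hβ y)))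
      rw [Module.finrank_prod, Module.finrank_self] at h2
      rw [Module.finrank_fintype_fun_eq_card, Fintype.card_fin] at h1
      rw [e]; omega
    rw [(Submodule.eq_bot_iff P).2 hzero, finrank_bot] at hd
    omega
  -- differences of conjugates
  have hstep : ∀ t : F, t ≠ 0 → InK γ M f (E + D (t • z)) := by
    intro t ht
    obtain ⟨b, hb⟩ := exists_trace_eq hβ (self_fixed hβ (t • z))
    obtain ⟨a, ha, hax⟩ := exists_siegel hβ huu (show β u (t • z) = 0 by
      rw [smul_right hβ, comm_zero hβ hzu, mul_zero]) hb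
    have htr : b + σ b = 1 := by
      have h1 : β (t • z) (t • z) = 1 := hone _ (self_fixed hβ _) (by
        rw [hβ.smul, smul_right hβ, hzz, mul_one]; exact mul_ne_zero ht (by simpa using ht))
      rw [h1] at hb
      linear_combination hb - h2
    have hau : (Units.val a) *ᵥ u = u := by
      rw [hax, huu, smul_right hβ, comm_zero hβ hzu]; simp
    have hay : (Units.val a) *ᵥ y = y + t • z + b • u := by
      rw [hax, hyu, one_smul, mul_one, smul_right hβ, comm_zero hβ hzy, mul_zero, neg_zero, zero_add]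
    have h3 : InK γ M f (D (y + t • z + b • u) + E) := by
      refine InK.conj hO hff hff' hf'f h1 ha fun v => ?_
      simp only [LinearMap.add_apply, hD, hE, mulVec_add, mulVec_smul, hau, ← hay]
      rw [ha.1 v y]
      have e : β ((Units.val a) *ᵥ v) u = β v u := by
        conv_lhs => rw [← hau]
        exact ha.1 v u
      rw [e]
    have h4 := InK.add hO hff hff' hf'f h3 (InK.neg hO hff hff' hf'f h1)
    convert h4 using 1
    refine LinearMap.ext fun v => ?_
    simp only [LinearMap.add_apply, LinearMap.neg_apply, hD, hE, add_right hβ, smul_right hβ]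
    match_scalars <;> first | linear_combination (0 : F) | linear_combination (β v u) * htr | linear_combination -(β v u) * htr
  obtain ⟨l, hl⟩ : ∃ l : F, σ l ≠ l := by
    by_contra h
    push Not at h
    exact hβ.ne_id (RingHom.ext h)
  have hl0 : l ≠ 0 := fun e => hl (by rw [e, map_zero])
  have hl1 : 1 + l ≠ 0 := fun e => hl (by
    rw [show l = -1 by linear_combination e, map_neg, map_one])
  refine ⟨1, one_ne_zero, ?_⟩
  have h3 := InK.add hO hff hff' hf'f (InK.add hO hff hff' hf'f (hstep 1 one_ne_zero) (hstep l hl0)) (hstep _ hl1)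
  convert h3 using 1
  refine LinearMap.ext fun v => ?_
  simp only [LinearMap.add_apply, LinearMap.smul_apply, hD, hE, smul_right hβ, add_smul, add_right hβ, map_add,
    map_one, one_mul, one_smul]
  match_scalars <;> first | linear_combination -(β v u + β v z + σ l * β v z) * h2 | linear_combination -(β v u + l * β v u) * h2 | linear_combination (β v u + β v z + σ l * β v z) * h2 | linear_combination (β v u + l * β v u) * h2

end Cfsg.Agent.Forms.Max.TensorRes.Unitary
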