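import Cfsg.Agent.Lib.Forms.Max.Tensor.UnitaryStab

/-!
# One transvection with pure isotropic centre generates with the tensor stabiliser all transvections
-/

set_option autoImplicit false
set_option linter.unusedSectionVars false

namespace Cfsg.Agent.Forms.Max.TensorRes.Unitary

open Matrix Cfsg.Agent.Aschbacher Cfsg.Agent.Forms.Max.TensorMax Cfsg.Agent.Forms.Max.UnitaryInLinear
  Cfsg.Agent.Forms.Max.HermTools

variable {F : Type*} [Field F] [Fintype F] {k n : ℕ}
variable {σ : F →+* F} {β : (Fin k → F) → (Fin k → F) → F} {γ : (Fin n → F) → (Fin n → F) → F}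
  {Φ : (Fin k × Fin n → F) → (Fin k × Fin n → F) → F}

local notation "Uv" => (Fin k → F)
local notation "Wv" => (Fin n → F)
local notation "Vv" => (Fin k × Fin n → F)

/-- the second entries of the Siegel elements in `M` with first entry `a` -/
def DS (Φ : Vv → Vv → F) (M : Subgroup (GL (Fin k × Fin n) F)) (a : Vv) : Set Vv :=
  {b | ∃ (g : GL (Fin k × Fin n) F) (z : F), g ∈ M ∧ IsSiegel Φ g a b z}

/-- coordinates in a hyperbolic plane -/
theorem decomp_two {ι : Type} [Fintype ι] [DecidableEq ι] {σ : F →+* F} {h : (ι → F) → (ι → F) → F}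
    (hh : Herm σ h) (hι : Fintype.card ι = 2) {e g : ι → F} (hee : h e e = 0) (hgg : h g g = 0)
    (heg : h e g = 1) (hge : h g e = 1) (x : ι → F) : x = h x g • e + h x e • g := by
  let L := (UnitaryInLinear.form hh e).prod (UnitaryInLinear.form hh g)
  have hsurj : Function.Surjective L := fun p => ⟨p.1 • g + p.2 • e, by
    show (h _ e, h _ g) = p
    simp [hh.add, hh.smul, hee, hgg, heg, hge]⟩
  have h1 := LinearMap.finrank_range_add_finrank_ker L
  rw [LinearMap.range_eq_top.2 hsurj, finrank_top, Module.finrank_prod, Module.finrank_self,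
    Module.finrank_fintype_fun_eq_card, hι] at h1
  have hker : LinearMap.ker L = ⊥ := Submodule.finrank_eq_zero.1 (by omega)
  refine LinearMap.ker_eq_bot.1 hker ?_
  show (h x e, h x g) = (h _ e, h _ g)
  simp [hh.add, hh.smul, hee, hgg, heg, hge]

/-- the pole of a hyperbolic plane in dimension three -/
theorem exists_third {ι : Type} [Fintype ι] [DecidableEq ι] {σ : F →+* F} {h : (ι → F) → (ι → F) → F}
    (hh : Herm σ h) (hι : Fintype.card ι = 3) {f f' : ι → F} (hff : h f f = 0) (hf'0 : h f' f' = 0)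
    (hff' : h f f' = 1) (hf'f : h f' f = 1) : ∃ e, h e f = 0 ∧ h e f' = 0 ∧ h e e ≠ 0 ∧
      ∀ x, ∃ c : F, x = h x f' • f + h x f • f' + c • e := by
  let L := (UnitaryInLinear.form hh f).prod (UnitaryInLinear.form hh f')
  have hsurj : Function.Surjective L := fun p => ⟨p.1 • f' + p.2 • f, by
    show (h _ f, h _ f') = p
    simp [hh.add, hh.smul, hff, hf'0, hff', hf'f]⟩
  have h1 := LinearMap.finrank_range_add_finrank_ker L
  rw [LinearMap.range_eq_top.2 hsurj, finrank_top, Module.finrank_prod, Module.finrank_self,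
    Module.finrank_fintype_fun_eq_card, hι] at h1
  obtain ⟨⟨e, he⟩, he0, hgen⟩ := finrank_eq_one_iff'.1 (show Module.finrank F (LinearMap.ker L) = 1 by omega)
  have hef : h e f = 0 := congrArg Prod.fst (show L e = 0 from he)
  have hef' : h e f' = 0 := congrArg Prod.snd (show L e = 0 from he)
  have hdec : ∀ x, ∃ c : F, x = h x f' • f + h x f • f' + c • e := fun x => by
    obtain ⟨c, hc⟩ := hgen ⟨x - h x f' • f - h x f • f', by
      show (h _ f, h _ f') = (0, 0)
      simp [sub_left hh, hh.smul, hff, hf'0, hff', hf'f]⟩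
    refine ⟨c, ?_⟩
    rw [show c • e = x - h x f' • f - h x f • f' from congrArg Subtype.val hc]
    abel
  refine ⟨e, hef, hef', fun hee => he0 (Subtype.ext (hh.nd e fun x => ?_)), hdec⟩
  obtain ⟨c, hc⟩ := hdec x
  rw [hc, add_right hh, add_right hh, smul_right hh, smul_right hh, smul_right hh, hef, hef', hee]
  ring

variable {M : Subgroup (GL (Fin k × Fin n) F)} (hO : Over σ β γ Φ M)
include hO

theorem centres_map {g : GL (Fin k × Fin n) F} (hg : g ∈ M) {v : Vv} (hv : v ∈ centres σ Φ M) :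
    (Units.val g) *ᵥ v ∈ centres σ Φ M := by
  have hh := hO.pair.whole
  refine ⟨by rw [iso_M hO.toCore hg]; exact hv.1, fun t c hc ht => ?_⟩
  obtain ⟨s, -, hsx⟩ := exists_tv hh hv.1 hc
  have e : g * s * g⁻¹ = t := by
    rw [mul_inv_eq_iff_eq_mul]
    refine gl_ext fun x => ?_
    rw [mulVec_mul_GL, mulVec_mul_GL, hsx, ht, mulVec_add, mulVec_smul, iso_M hO.toCore hg]
  exact e ▸ mul_mem (mul_mem hg (hv.2 s c hc hsx)) (inv_mem hg)

theorem centres_smul {v : Vv} (t : F) (hv : v ∈ centres σ Φ M) : t • v ∈ centres σ Φ M := by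
  have hh := hO.pair.whole
  refine ⟨by rw [hh.smul, smul_right hh, hv.1, mul_zero, mul_zero], fun g c hc hg => ?_⟩
  refine hv.2 g (c * (σ t * t)) ?_ fun x => ?_
  · rw [map_mul, map_mul, hh.inv]
    linear_combination (σ t * t) * hc
  · rw [hg, smul_right hh, smul_smul]
    congr 2
    ring

theorem siegel_of_centres {a b : Vv} (hab : Φ a b = 0) (ha : a ∈ centres σ Φ M) (hb : b ∈ centres σ Φ M)
    (hs : a + b ∈ centres σ Φ M) {c : F} (hc : σ c = -c) : ∃ g ∈ M, IsSiegel Φ g a (c • b) 0 := by
  have hh := hO.pair.whole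
  have hc' : c + σ c = 0 := trace_zero_of hh hc
  have hn' : -c + σ (-c) = 0 := by rw [map_neg]; linear_combination -hc'
  obtain ⟨A, -, hAx⟩ := exists_tv hh ha.1 hn'
  obtain ⟨B, -, hBx⟩ := exists_tv hh hb.1 hn'
  obtain ⟨S, -, hSx⟩ := exists_tv hh hs.1 hc'
  refine ⟨S * (A * B), mul_mem (hs.2 S c hc' hSx) (mul_mem (ha.2 A _ hn' hAx) (hb.2 B _ hn' hBx)), fun x => ?_⟩
  rw [mulVec_mul_GL, mulVec_mul_GL, hBx, hAx (x + (-c * Φ x b) • b), hSx]
  simp only [hh.add, add_right hh, hh.smul, smul_right hh, comm_zero hh hab, hab, ha.1, hb.1, hc]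
  module

theorem DS_add {a b b' : Vv} (ha : Φ a a = 0) (hb : b ∈ DS Φ M a) (hb' : b' ∈ DS Φ M a)
    (hab : Φ a b = 0) (hab' : Φ a b' = 0) : b + b' ∈ DS Φ M a := by
  have hh := hO.pair.whole
  obtain ⟨g, z, hg, hgx⟩ := hb
  obtain ⟨g', z', hg', hgx'⟩ := hb'
  refine ⟨g * g', z + z' - Φ b' b, mul_mem hg hg', fun x => ?_⟩
  rw [mulVec_mul_GL, hgx' x, hgx]
  simp only [hh.add, add_right hh, hh.smul, ha, hab, comm_zero hh hab']
  module

theorem DS_map {a b : Vv} {g : GL (Fin k × Fin n) F} (hg : g ∈ M) (hb : b ∈ DS Φ M a) :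
    (Units.val g) *ᵥ b ∈ DS Φ M ((Units.val g) *ᵥ a) := by
  obtain ⟨s, z, hs, hsx⟩ := hb
  refine ⟨g * s * g⁻¹, z, mul_mem (mul_mem hg hs) (inv_mem hg), fun x => ?_⟩
  rw [mulVec_mul_GL, mulVec_mul_GL, hsx, mulVec_add, mulVec_add, mulVec_smul, mulVec_smul, mulVec_inv_cancel]
  have e : ∀ v, Φ ((Units.val g⁻¹) *ᵥ x) v = Φ x ((Units.val g) *ᵥ v) := fun v => by
    rw [← iso_M hO.toCore hg ((Units.val g⁻¹) *ᵥ x), mulVec_inv_cancel]
  rw [e, e]

theorem DS_zero {a : Vv} : (0 : Vv) ∈ DS Φ M a := by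
  refine ⟨1, 0, one_mem M, fun x => ?_⟩
  simp [zero_right hO.pair.whole]

/-- the submodule of second entries -/
def DSub {a : Vv} (ha : Φ a a = 0) : Submodule F Vv where
  carrier := {b | Φ a b = 0 ∧ ∀ t : F, t • b ∈ DS Φ M a}
  zero_mem' := ⟨zero_right hO.pair.whole a, fun t => by rw [smul_zero]; exact DS_zero hO⟩
  add_mem' {b b'} hb hb' := by
    have hh := hO.pair.whole
    refine ⟨by rw [add_right hh, hb.1, hb'.1, add_zero], fun t => ?_⟩
    rw [smul_add]
    exact DS_add hO ha (hb.2 t) (hb'.2 t) (by rw [smul_right hh, hb.1, mul_zero])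
      (by rw [smul_right hh, hb'.1, mul_zero])
  smul_mem' c b hb := ⟨by rw [smul_right hO.pair.whole, hb.1, mul_zero], fun t => by
    rw [smul_smul]; exact hb.2 _⟩

theorem DSub_map {a : Vv} (ha : Φ a a = 0) {g : GL (Fin k × Fin n) F} (hg : g ∈ M)
    (hga : (Units.val g) *ᵥ a = a) {b : Vv} (hb : b ∈ DSub hO ha) : (Units.val g) *ᵥ b ∈ DSub hO ha := by
  refine ⟨?_, fun t => ?_⟩
  · calc Φ a ((Units.val g) *ᵥ b) = Φ ((Units.val g) *ᵥ a) ((Units.val g) *ᵥ b) := by rw [hga]
      _ = 0 := by rw [iso_M hO.toCore hg]; exact hb.1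
  · have h1 := DS_map hO hg (hb.2 t)
    rwa [mulVec_smul, hga] at h1

variable (hC : ∀ u f, β u u = 0 → γ f f = 0 → pure u f ∈ centres σ Φ M)
include hC

/-- pure vectors of the orthogonal of `U ⊗ f` -/
theorem pure_perp_mem (hn4 : 4 ≤ n) {d : Uv} {f : Wv} (hd0 : d ≠ 0) (hdd : β d d = 0) (hf0 : f ≠ 0) (hff : γ f f = 0)
    (ha : Φ (pure d f) (pure d f) = 0) {u : Uv} {w : Wv} (hw : γ w f = 0) :
    pure u w ∈ DSub hO ha := by
  have hP := hO.pair
  have hh := hP.right
  have hβ := hP.left
  obtain ⟨c, hc0, hc⟩ := exists_skew hh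
  have hiso : ∀ {u w}, β u u = 0 → γ w f = 0 → γ w w = 0 → w ∉ Submodule.span F {f} →
      (u = d ∨ β u d ≠ 0) → pure u w ∈ DSub hO ha := by
    intro u w hu hw hww hwf hcase
    have hperp : Φ (pure d f) (pure u w) = 0 := by rw [hP.mul, comm_zero hh hw, mul_zero]
    refine ⟨hperp, fun t => ?_⟩
    set u' := (t / c) • u with hu'
    have hu'' : β u' u' = 0 := by rw [hu', hβ.smul, smul_right hβ, hu, mul_zero, mul_zero]
    have hperp' : Φ (pure d f) (pure u' w) = 0 := by
      rw [hu', pure_smul_left, smul_right hP.whole, hperp, mul_zero]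
    have hsum : pure d f + pure u' w ∈ centres σ Φ M := by
      rcases hcase with rfl | hud
      · rw [hu', pure_smul_left, ← pure_smul_right, ← pure_add_right]
        exact hC _ _ hu (by
          simp only [hh.add, add_right hh, hh.smul, smul_right hh, hff, hww, hw, comm_zero hh hw]; ring)
      rcases eq_or_ne t 0 with rfl | ht
      · rw [hu', zero_div, zero_smul, pure_zero_left, add_zero]; exact hC d f hdd hff
      obtain ⟨x, hxf, hxw⟩ := exists_perp_value hh hwf
      obtain ⟨r, hr⟩ := exists_trace_eq hh (self_fixed hh x)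
      set x' := x + r • w with hx'
      have hx'f : γ x' f = 0 := by rw [hx', hh.add, hh.smul, hxf, hw, mul_zero, add_zero]
      have hx'w : γ x' w = 1 := by rw [hx', hh.add, hh.smul, hxw, hww, mul_zero, add_zero]
      have hwx : γ w x = 1 := by rw [hh.herm, hxw, map_one]
      have hx'x' : γ x' x' = 0 := by
        simp only [hx', hh.add, add_right hh, hh.smul, smul_right hh, hxw, hwx, hww]
        linear_combination hr
      have hwx' : γ w x' = 1 := by rw [hh.herm, hx'w, map_one]
      have hu'd : β u' d ≠ 0 := by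
        rw [hu', hβ.smul]; exact mul_ne_zero (div_ne_zero ht hc0) hud
      obtain ⟨l, hl⟩ : ∃ l : F, σ l * (β u' d * c) = 1 := ⟨σ ((β u' d * c)⁻¹), by
        rw [hh.inv, inv_mul_cancel₀ (mul_ne_zero hu'd hc0)]⟩
      have hxx : γ (l • x') (l • x') = 0 := by rw [hh.smul, smul_right hh, hx'x', mul_zero, mul_zero]
      obtain ⟨g, hg, hgx⟩ := siegel_of_centres hO (a := pure d (l • x')) (b := pure d f)
        (by rw [hP.mul, hdd, zero_mul]) (hC _ _ hdd hxx) (hC _ _ hdd hff)
        (by
          rw [← pure_add_right]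
          exact hC _ _ hdd (by
            simp only [hh.add, add_right hh, hh.smul, smul_right hh, hff, hxx, hx'x', hx'f, comm_zero hh hx'f]
            ring)) hc
      have h1 := centres_map hO hg (hC u' w hu'' hww)
      rw [hgx, hP.mul, smul_right hP.whole, hP.mul, hw, smul_right hh, hwx', mul_one, mul_zero, mul_zero, neg_zero,
        zero_mul, add_zero, zero_smul, add_zero, smul_smul,
        show β u' d * σ l * c = 1 by rw [← hl]; ring, one_smul, add_comm] at h1
      exact h1
    obtain ⟨g, hg, hgx⟩ := siegel_of_centres hO hperp' (hC d f hdd hff) (hC u' w hu'' hww) hsum hc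
    refine ⟨g, 0, hg, ?_⟩
    have e : t • pure u w = c • pure u' w := by
      rw [hu', pure_smul_left, smul_smul, mul_div_cancel₀ _ hc0]
    rwa [e]
  -- all first entries
  have h1 : ∀ {w}, γ w f = 0 → γ w w = 0 → w ∉ Submodule.span F {f} → ∀ u, pure u w ∈ DSub hO ha := by
    intro w hw hww hwf u
    have e := span_nonorth hβ hd0 hdd (T := (DSub hO ha).comap (pureR w)) (hiso hdd hw hww hwf (Or.inl rfl))
      fun u hu hud => hiso hu hw hww hwf (Or.inr hud)
    have : u ∈ (DSub hO ha).comap (pureR w) := e ▸ Submodule.mem_top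
    exact this
  have h2 := span_perp hh (by rw [Fintype.card_fin]; exact hn4) hf0 hff (T := (DSub hO ha).comap (pureL u))
    fun w' hww hw' hwf => h1 hw' hww hwf u
  exact h2 (show w ∈ LinearMap.ker (UnitaryInLinear.form hh f) from hw)

/-- the whole orthogonal of a pure isotropic vector -/
theorem perp_le_four (hn4 : 4 ≤ n) {d : Uv} {f : Wv} (hd0 : d ≠ 0) (hdd : β d d = 0) (hf0 : f ≠ 0) (hff : γ f f = 0)
    (ha : Φ (pure d f) (pure d f) = 0) {x : Vv} (hx : Φ x (pure d f) = 0) : x ∈ DSub hO ha := by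
  have hP := hO.pair
  have hh := hP.right
  have hβ := hP.left
  obtain ⟨f', hf'0, hff', hf'f⟩ := exists_partner hh hf0 hff
  obtain ⟨d', hd'0, hdd', hd'd⟩ := exists_partner hβ hd0 hdd
  obtain ⟨c, hc0, hc⟩ := exists_skew hh
  have hX : ∀ u w, γ w f = 0 → pure u w ∈ DSub hO ha := fun u w hw => pure_perp_mem hO hC hn4 hd0 hdd hf0 hff ha hw
  have hf'ns : f' ∉ Submodule.span F {f} := fun hm => by
    obtain ⟨t, rfl⟩ := Submodule.mem_span_singleton.1 hm
    rw [hh.smul, hff, mul_zero] at hf'f
    exact zero_ne_one hf'f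
  -- all `d ⊗ (f' + μ f)` are centres
  have hmove : ∀ μ : F, pure d (f' + μ • f) ∈ centres σ Φ M := fun μ => by
    obtain ⟨w, hwf, hwf'⟩ := exists_perp_value hh hf'ns
    have hm : (-σ μ) • pure d' w ∈ DSub hO ha := Submodule.smul_mem _ _ (hX d' w hwf)
    obtain ⟨g, z, hg, hgx⟩ := hm.2 1
    have h1 := centres_map hO hg (hC d f' hdd hf'0)
    rw [one_smul] at hgx
    rw [hgx, hP.mul, hdd, zero_mul, zero_smul, add_zero, mul_zero, add_zero, smul_right hP.whole, hP.mul, hdd',
      show γ f' w = 1 by rw [hh.herm, hwf', map_one], map_neg, hh.inv, one_mul, mul_one, neg_neg,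
      ← pure_smul_right, ← pure_add_right] at h1
    exact h1
  have hdf : pure d f' ∈ DSub hO ha := by
    have hperp : Φ (pure d f) (pure d f') = 0 := by rw [hP.mul, hdd, zero_mul]
    refine ⟨hperp, fun t => ?_⟩
    have hsum : pure d f + pure d ((t / c) • f') ∈ centres σ Φ M := by
      rcases eq_or_ne t 0 with rfl | ht
      · rw [zero_div, zero_smul, pure_zero_right, add_zero]; exact hC d f hdd hff
      rw [← pure_add_right, show f + (t / c) • f' = (t / c) • (f' + (t / c)⁻¹ • f) by
        rw [smul_add, smul_inv_smul₀ (div_ne_zero ht hc0), add_comm], pure_smul_right]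
      exact centres_smul hO _ (hmove _)
    obtain ⟨g, hg, hgx⟩ := siegel_of_centres hO (by rw [hP.mul, hdd, zero_mul]) (hC d f hdd hff)
      (hC d ((t / c) • f') hdd (by rw [hh.smul, smul_right hh, hf'0, mul_zero, mul_zero])) hsum hc
    refine ⟨g, 0, hg, ?_⟩
    have e : t • pure d f' = c • pure d ((t / c) • f') := by
      rw [pure_smul_right, smul_smul, mul_div_cancel₀ _ hc0]
    rwa [e]
  have hzf : ∀ z, β z d = 0 → pure z f' ∈ DSub hO ha := by
    intro z hz
    set S := LinearMap.ker (UnitaryInLinear.form hh f) ⊓ LinearMap.ker (UnitaryInLinear.form hh f') with hS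
    obtain ⟨e, he, he0, hee⟩ := exists_iso hh (S := S) (by
      have e : S = LinearMap.ker ((UnitaryInLinear.form hh f).prod (UnitaryInLinear.form hh f')) := by
        rw [hS, LinearMap.ker_prod]
      have h1 := LinearMap.finrank_range_add_finrank_ker
        ((UnitaryInLinear.form hh f).prod (UnitaryInLinear.form hh f'))
      have h2 := Submodule.finrank_le
        (LinearMap.range ((UnitaryInLinear.form hh f).prod (UnitaryInLinear.form hh f')))
      rw [Module.finrank_prod, Module.finrank_self] at h2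
      rw [Module.finrank_fintype_fun_eq_card, Fintype.card_fin] at h1
      rw [e]; omega)
    have hef : γ e f = 0 := he.1
    have hef' : γ e f' = 0 := he.2
    have hens : e ∉ Submodule.span F {f} := fun hm => by
      obtain ⟨t, ht⟩ := Submodule.mem_span_singleton.1 hm
      rw [← ht, hh.smul, hff', mul_one] at hef'
      exact he0 (by rw [← ht, hef', zero_smul])
    obtain ⟨x₁, hx₁f, hx₁e⟩ := exists_perp_value hh hens
    set w := e + f with hwdef
    have hww : γ w w = 0 := by simp only [hwdef, hh.add, add_right hh, hee, hff, hef, comm_zero hh hef, add_zero]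
    have hwf : γ w f = 0 := by rw [hwdef, hh.add, hef, hff, add_zero]
    have hw0 : w ≠ 0 := fun h0 => hens (by
      rw [hwdef] at h0
      rw [eq_neg_of_add_eq_zero_left h0]; exact neg_mem (Submodule.mem_span_singleton_self f))
    have hyw : γ (f' - x₁) w = 0 := by
      simp only [hwdef, sub_left hh, add_right hh, comm_zero hh hef', hf'f, hx₁f, hx₁e]; ring
    have ha' : Φ (pure d' w) (pure d' w) = 0 := by rw [hP.mul, hd'0, zero_mul]
    have hd'ne : d' ≠ 0 := fun h0 => by rw [h0, zero_left hβ] at hd'd; exact zero_ne_one hd'd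
    obtain ⟨g, r, hg, hgx⟩ := (pure_perp_mem hO hC hn4 hd'ne hd'0 hw0 hww ha' (u := z) hyw).2 1
    rw [one_smul] at hgx
    have hga : (Units.val g) *ᵥ pure d f = pure d f := by
      rw [hgx, hP.mul, hP.mul, comm_zero hh hwf, comm_zero hβ hz]; simp
    obtain ⟨y0, hy0⟩ : ∃ r' : F, (Units.val g) *ᵥ pure d f' = pure d f' + pure z (f' - x₁) + r' • pure d' w := by
      refine ⟨-Φ (pure d f') (pure z (f' - x₁)) + r * Φ (pure d f') (pure d' w), ?_⟩
      rw [hgx, hP.mul d f' d' w, hdd', show γ f' w = 1 by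
        simp only [hwdef, add_right hh, comm_zero hh hef', hf'f, zero_add], one_mul, one_smul]
    have hgD : (Units.val g) *ᵥ pure d f' ∈ DSub hO ha := by
      refine ⟨?_, fun t => ?_⟩
      · calc Φ (pure d f) ((Units.val g) *ᵥ pure d f')
            = Φ ((Units.val g) *ᵥ pure d f) ((Units.val g) *ᵥ pure d f') := by rw [hga]
          _ = 0 := by rw [iso_M hO.toCore hg]; exact hdf.1
      · have h1 := DS_map hO hg (hdf.2 t)
        rwa [mulVec_smul, hga] at h1
    rw [hy0] at hgD
    have h1 : pure z (f' - x₁) ∈ DSub hO ha := by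
      have := (DSub hO ha).sub_mem ((DSub hO ha).sub_mem hgD hdf) ((DSub hO ha).smul_mem y0 (hX d' w hwf))
      convert this using 1
      abel
    have h2 := (DSub hO ha).add_mem h1 (hX z x₁ hx₁f)
    rwa [← pure_add_right, sub_add_cancel] at h2
  have e : x = (∑ i, pure (Pi.single i 1) (TensorMax.row x i - γ (TensorMax.row x i) f • f')) +
      pure (eta hP f x) f' := by
    rw [← pureR_apply f' (eta hP f x), pi_eq_sum_univ' (eta hP f x), map_sum, ← Finset.sum_add_distrib]
    conv_lhs => rw [sum_rows x]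
    refine Finset.sum_congr rfl fun i _ => ?_
    rw [map_smul, pureR_apply, eta_apply, ← pure_smul_right, ← pure_add_right, sub_add_cancel]
  rw [e]
  refine Submodule.add_mem _ (Submodule.sum_mem _ fun i _ => hX _ _ ?_) (hzf _ ?_)
  · rw [sub_left hh, hh.smul, hf'f, mul_one, sub_self]
  · rw [← form_pure hP]; exact hx

/-- a pure isotropic vector lies in its own space of second entries -/
theorem self_mem_DSub {d : Uv} {f : Wv} (hdd : β d d = 0) (hff : γ f f = 0)
    (ha : Φ (pure d f) (pure d f) = 0) : pure d f ∈ DSub hO ha := by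
  have hw := hO.pair.whole
  obtain ⟨c, hc0, hc⟩ := exists_skew hw
  refine ⟨ha, fun t => ?_⟩
  obtain ⟨g, hg, hgx⟩ := siegel_of_centres hO (b := (t / c) • pure d f)
    (by rw [smul_right hw, ha, mul_zero]) (hC d f hdd hff) (centres_smul hO _ (hC d f hdd hff))
    (by
      have h1 := centres_smul hO (1 + t / c) (hC d f hdd hff)
      rwa [add_smul, one_smul] at h1) hc
  rw [smul_smul, mul_div_cancel₀ _ hc0] at hgx
  exact ⟨g, 0, hg, hgx⟩

/-- the orthogonal of a pure isotropic vector for `k = 2`, `n = 3` -/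
theorem perp_le_three (hk2 : k = 2) (hn3 : n = 3) {d : Uv} {f : Wv} (hd0 : d ≠ 0) (hdd : β d d = 0) (hf0 : f ≠ 0)
    (hff : γ f f = 0) (ha : Φ (pure d f) (pure d f) = 0) {x : Vv} (hx : Φ x (pure d f) = 0) :
    x ∈ DSub hO ha := by
  have hP := hO.pair
  have hh := hP.right
  have hβ := hP.left
  obtain ⟨f', hf'0, hff', hf'f⟩ := exists_partner hh hf0 hff
  obtain ⟨d', hd'0, hdd', hd'd⟩ := exists_partner hβ hd0 hdd
  have hd'ne : d' ≠ 0 := fun h0 => by rw [h0, zero_left hβ] at hd'd; exact zero_ne_one hd'd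
  obtain ⟨e, hef, hef', hee, hdec⟩ := exists_third hh (by rw [Fintype.card_fin, hn3]) hff hf'0 hff' hf'f
  obtain ⟨c, hc0, hc⟩ := exists_skew hh
  -- the anisotropic point tensored with the same vector
  have hline : ∀ {d : Uv}, β d d = 0 → ∀ ha : Φ (pure d f) (pure d f) = 0, pure d e ∈ DSub hO ha := by
    intro d hdd ha
    have hperp : ∀ w, Φ (pure d f) (pure d w) = 0 := fun w => by rw [hP.mul, hdd, zero_mul]
    have hw' : ∀ w, γ w w = 0 → γ w f = 1 → ∀ t : F, σ t = -t → (c * t) • pure d w ∈ DS Φ M (pure d f) := by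
      intro w hww hwf t ht
      have hfw : γ f w = 1 := by rw [hh.herm, hwf, map_one]
      obtain ⟨g, hg, hgx⟩ := siegel_of_centres hO (hperp (t • w)) (hC d f hdd hff)
        (hC d (t • w) hdd (by rw [hh.smul, smul_right hh, hww, mul_zero, mul_zero]))
        (by
          rw [← pure_add_right]
          exact hC _ _ hdd (by
            simp only [hh.add, add_right hh, hh.smul, smul_right hh, hff, hww, hwf, hfw]
            linear_combination ht)) hc
      rw [pure_smul_right, smul_smul] at hgx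
      exact ⟨g, 0, hg, hgx⟩
    have h0 : ∀ t : F, t • pure d f ∈ DS Φ M (pure d f) := (self_mem_DSub hO hC hdd hff ha).2
    refine ⟨hperp e, fun ν => ?_⟩
    obtain ⟨μ, hμ⟩ := exists_trace_eq hh (self_fixed hh (ν • e))
    set w := f' + ν • e + μ • f with hw
    have hwf : γ w f = 1 := by simp [hw, hh.add, hh.smul, hff, hf'f, hef]
    have hww : γ w w = 0 := by
      simp only [hh.smul, smul_right hh] at hμ
      simp only [hw, hh.add, add_right hh, hh.smul, smul_right hh, hff, hf'0, hff', hf'f, hef, hef',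
        comm_zero hh hef, comm_zero hh hef']
      linear_combination hμ
    have hci : σ c⁻¹ = -c⁻¹ := by rw [map_inv₀, hc, inv_neg]
    have h1 := hw' w hww hwf c⁻¹ hci
    have h2 := hw' f' hf'0 hf'f (-c⁻¹) (by rw [map_neg, hci])
    rw [mul_inv_cancel₀ hc0, one_smul] at h1
    rw [mul_neg, mul_inv_cancel₀ hc0] at h2
    have hp : ∀ (r : F) w, Φ (pure d f) (r • pure d w) = 0 := fun r w => by
      rw [smul_right hP.whole, hperp, mul_zero]
    have h3 := DS_add hO ha h1 (DS_add hO ha h2 (h0 (-μ)) (hp _ _) (hp _ _)) (hperp w)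
      (by rw [add_right hP.whole, hp, hp, add_zero])
    convert h3 using 1
    rw [hw, pure_add_right, pure_add_right, pure_smul_right, pure_smul_right]
    module
  have hde := hline hdd ha
  have ha' : Φ (pure d' f) (pure d' f) = 0 := by rw [hP.mul, hd'0, zero_mul]
  obtain ⟨g, r, hg, hgx⟩ := (hline hd'0 ha').2 1
  rw [one_smul] at hgx
  have hga : (Units.val g) *ᵥ pure d f = pure d f := by
    rw [hgx, hP.mul, hP.mul, hff, comm_zero hh hef]; simp
  have hd'f : pure d' f ∈ DSub hO ha := by
    have h1 := (DSub hO ha).sub_mem (DSub_map hO ha hg hga hde) hde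
    rw [hgx, hP.mul d e d' f, hef, mul_zero, zero_smul, add_zero, mul_zero, add_zero, hP.mul, hdd', one_mul,
      add_sub_cancel_left] at h1
    have h2 := (DSub hO ha).smul_mem (-γ e e)⁻¹ h1
    rwa [inv_smul_smul₀ (neg_ne_zero.2 hee)] at h2
  have hmove : ∀ μ : F, pure d (f' + μ • f) ∈ centres σ Φ M := fun μ => by
    obtain ⟨g, z, hg, hgx⟩ := ((DSub hO ha).smul_mem (-σ μ) hd'f).2 1
    have h1 := centres_map hO hg (hC d f' hdd hf'0)
    rw [one_smul] at hgx
    rw [hgx, hP.mul, hdd, zero_mul, zero_smul, add_zero, mul_zero, add_zero, smul_right hP.whole, hP.mul, hdd',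
      hf'f, map_neg, hh.inv, one_mul, mul_one, neg_neg, ← pure_smul_right, ← pure_add_right] at h1
    exact h1
  have hdf : pure d f' ∈ DSub hO ha := by
    have hperp : Φ (pure d f) (pure d f') = 0 := by rw [hP.mul, hdd, zero_mul]
    refine ⟨hperp, fun t => ?_⟩
    have hsum : pure d f + pure d ((t / c) • f') ∈ centres σ Φ M := by
      rcases eq_or_ne t 0 with rfl | ht
      · rw [zero_div, zero_smul, pure_zero_right, add_zero]; exact hC d f hdd hff
      rw [← pure_add_right, show f + (t / c) • f' = (t / c) • (f' + (t / c)⁻¹ • f) by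
        rw [smul_add, smul_inv_smul₀ (div_ne_zero ht hc0), add_comm], pure_smul_right]
      exact centres_smul hO _ (hmove _)
    obtain ⟨g, hg, hgx⟩ := siegel_of_centres hO (by rw [hP.mul, hdd, zero_mul]) (hC d f hdd hff)
      (hC d ((t / c) • f') hdd (by rw [hh.smul, smul_right hh, hf'0, mul_zero, mul_zero])) hsum hc
    rw [pure_smul_right, smul_smul, mul_div_cancel₀ _ hc0] at hgx
    exact ⟨g, 0, hg, hgx⟩
  have hdd'f : ∀ u, pure u f ∈ DSub hO ha := fun u => by
    rw [decomp_two hβ (by rw [Fintype.card_fin, hk2]) hdd hd'0 hdd' hd'd u, pure_add_left, pure_smul_left,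
      pure_smul_left]
    exact add_mem (Submodule.smul_mem _ _ (self_mem_DSub hO hC hdd hff ha)) (Submodule.smul_mem _ _ hd'f)
  have hd'e : pure d' e ∈ DSub hO ha := by
    have h1 := (DSub hO ha).sub_mem (DSub_map hO ha hg hga hdf) hdf
    rw [hgx, hP.mul d f' d' f, hdd', hf'f, one_mul, one_smul, mul_one, add_assoc, add_sub_cancel_left] at h1
    exact (Submodule.add_mem_iff_left _ (Submodule.smul_mem _ _ hd'f)).1 h1
  have hue : ∀ u, pure u e ∈ DSub hO ha := fun u => by
    rw [decomp_two hβ (by rw [Fintype.card_fin, hk2]) hdd hd'0 hdd' hd'd u, pure_add_left, pure_smul_left,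
      pure_smul_left]
    exact add_mem (Submodule.smul_mem _ _ hde) (Submodule.smul_mem _ _ hd'e)
  choose cc hcc using fun i => hdec (TensorMax.row x i)
  have e1 : x = pure (eta hP f' x) f + pure (eta hP f x) f' + pure cc e := TensorMax.ext_row fun i => by
    conv_lhs => rw [hcc i]
    rfl
  have e2 : eta hP f x = β (eta hP f x) d' • d := by
    conv_lhs => rw [decomp_two hβ (by rw [Fintype.card_fin, hk2]) hdd hd'0 hdd' hd'd (eta hP f x),
      show β (eta hP f x) d = 0 by rw [← form_pure hP]; exact hx, zero_smul, add_zero]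
  rw [e1, e2, pure_smul_left]
  exact add_mem (add_mem (hdd'f _) (Submodule.smul_mem _ _ hdf)) (hue _)

/-- the whole orthogonal of a pure isotropic vector -/
theorem perp_le {d : Uv} {f : Wv} (hd0 : d ≠ 0) (hdd : β d d = 0) (hf0 : f ≠ 0) (hff : γ f f = 0)
    (ha : Φ (pure d f) (pure d f) = 0) {x : Vv} (hx : Φ x (pure d f) = 0) : x ∈ DSub hO ha := by
  by_cases hn4 : 4 ≤ n
  · exact perp_le_four hO hC hn4 hd0 hdd hf0 hff ha hx
  · have := hO.hk; have := hO.hkn
    exact perp_le_three hO hC (by omega) (by omega) hd0 hdd hf0 hff ha hx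

/-- all isotropic vectors are centres -/
theorem centres_all {v : Vv} (hv : Φ v v = 0) : v ∈ centres σ Φ M := by
  have hP := hO.pair
  have hw := hP.whole
  have hk := hO.hk
  have hn := hO.hn
  rcases eq_or_ne v 0 with rfl | hv0
  · rw [← pure_zero_left (0 : Wv)]
    exact hC 0 0 (zero_left hP.left 0) (zero_left hP.right 0)
  obtain ⟨d, f, hdd, hff, hne⟩ : ∃ d f, β d d = 0 ∧ γ f f = 0 ∧ Φ v (pure d f) ≠ 0 := by
    by_contra hc
    push Not at hc
    have h1 : ∀ f, γ f f = 0 → eta hP f v = 0 := fun f hf => hP.left.nd _ fun u => by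
      let T : Submodule F Uv :=
        { carrier := {u | β (eta hP f v) u = 0}
          zero_mem' := zero_right hP.left _
          add_mem' := fun {a b} (ha : _ = _) (hb : _ = _) => by
            show _ = _
            rw [add_right hP.left, ha, hb, add_zero]
          smul_mem' := fun t a (ha : _ = _) => by
            show _ = _
            rw [smul_right hP.left, ha, mul_zero] }
      have e := span_iso hP.left (by rw [Fintype.card_fin]; exact hk) (T := T) fun d hd => by
        show β (eta hP f v) d = 0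
        rw [← form_pure hP]; exact hc d f hd hf
      have : u ∈ T := e ▸ Submodule.mem_top
      exact this
    refine hv0 (TensorMax.ext_row fun i => ?_)
    have h2 : ∀ w, γ (TensorMax.row v i) w = 0 := fun w => by
      let T : Submodule F Wv :=
        { carrier := {w | γ (TensorMax.row v i) w = 0}
          zero_mem' := zero_right hP.right _
          add_mem' := fun {a b} (ha : _ = _) (hb : _ = _) => by
            show _ = _
            rw [add_right hP.right, ha, hb, add_zero]
          smul_mem' := fun t a (ha : _ = _) => by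
            show _ = _
            rw [smul_right hP.right, ha, mul_zero] }
      have e := span_iso hP.right (by rw [Fintype.card_fin]; omega) (T := T) fun w hw' =>
        (eta_zero_iff hP).1 (h1 w hw') i
      have : w ∈ T := e ▸ Submodule.mem_top
      exact this
    exact (hP.right.nd _ h2).trans (funext fun _ => rfl)
  obtain ⟨l, hl⟩ : ∃ l : F, σ l * Φ v (pure d f) = 1 :=
    ⟨σ ((Φ v (pure d f))⁻¹), by rw [hw.inv, inv_mul_cancel₀ hne]⟩
  set d₁ := l • d with hd₁
  have hva : Φ v (pure d₁ f) = 1 := by rw [hd₁, pure_smul_left, smul_right hw, hl]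
  have hd₁d₁ : β d₁ d₁ = 0 := by rw [hd₁, hP.left.smul, smul_right hP.left, hdd, mul_zero, mul_zero]
  have hf0 : f ≠ 0 := fun h0 => by
    rw [h0, pure_zero_right, zero_right hw] at hva; exact zero_ne_one hva
  have hd0 : d₁ ≠ 0 := fun h0 => by
    rw [h0, pure_zero_left, zero_right hw] at hva; exact zero_ne_one hva
  obtain ⟨f', hf'0, -, hf'f⟩ := exists_partner hP.right hf0 hff
  obtain ⟨d', hd'0, -, hd'd⟩ := exists_partner hP.left hd0 hd₁d₁
  set a := pure d₁ f with ha'
  set v₀ := pure d' f' with hv₀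
  have hv₀a : Φ v₀ a = 1 := by rw [hv₀, ha', hP.mul, hd'd, hf'f, mul_one]
  have ha : Φ a a = 0 := by rw [ha', hP.mul, hff, mul_zero]
  have hv₀v₀ : Φ v₀ v₀ = 0 := by rw [hv₀, hP.mul, hd'0, zero_mul]
  have hb := perp_le hO hC hd0 hd₁d₁ hf0 hff ha (x := v - v₀) (by rw [sub_left hw, hva, hv₀a, sub_self])
  obtain ⟨g, z, hg, hgx⟩ := hb.2 1
  rw [one_smul] at hgx
  -- the trace condition of the element
  have hgv : (Units.val g) *ᵥ v₀ = v + (-Φ v₀ (v - v₀) + z) • a := by
    rw [hgx, hv₀a, one_smul, mul_one]; abel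
  have hz : (-Φ v₀ (v - v₀) + z) + σ (-Φ v₀ (v - v₀) + z) = 0 := by
    have h1 := iso_M hO.toCore hg v₀ v₀
    have hav : Φ a v = 1 := by rw [hw.herm, hva, map_one]
    rw [hgv, hw.add, add_right hw, add_right hw, hw.smul, smul_right hw, smul_right hw, hw.smul, hva, hav, ha,
      hv, hv₀v₀] at h1
    linear_combination h1
  -- correct by a transvection
  obtain ⟨t, -, htx⟩ := exists_tv hw ha (c := -(-Φ v₀ (v - v₀) + z)) (by rw [map_neg]; linear_combination -hz)
  have htM : t ∈ M := (hC d₁ f hd₁d₁ hff).2 t _ (by rw [map_neg]; linear_combination -hz) htx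
  have h1 := centres_map hO (mul_mem htM hg) (hC d' f' hd'0 hf'0)
  rw [← hv₀, mulVec_mul_GL, hgv, htx, hw.add, hva, hw.smul, ha, mul_zero, add_zero, mul_one, add_assoc,
    ← add_smul, add_neg_cancel, zero_smul, add_zero] at h1
  exact h1

end Cfsg.Agent.Forms.Max.TensorRes.Unitary
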