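import Cfsg.Agent.Lib.Forms.Max.Tensor.UnitaryRank

/-!
# The stabiliser of `U ⊗ f` in a proper overgroup of a unitary tensor stabiliser
-/

set_option autoImplicit false
set_option linter.unusedSectionVars false

namespace Cfsg.Agent.Forms.Max.TensorRes.Unitary

open Matrix Cfsg.Agent.Aschbacher Cfsg.Agent.Forms.Max.TensorMax Cfsg.Agent.Forms.Max.UnitaryInLinear
  Cfsg.Agent.Forms.Max.HermTools

variable {F : Type*} [Field F] [Fintype F] {k n : ℕ}
variable {σ : F →+* F} {β : (Fin k → F) → (Fin k → F) → F} {γ : (Fin n → F) → (Fin n → F) → F}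
  {Φ : (Fin k × Fin n → F) → (Fin k × Fin n → F) → F}

local notation "Uv" => (Fin k → F)
local notation "Wv" => (Fin n → F)

variable {M : Subgroup (GL (Fin k × Fin n) F)}

/-- the radical meets `M` in Kronecker products -/
theorem Core.kron_of_InR (hO : Core σ β γ Φ M) (hex : (∃ c : F, σ c = c ∧ c ≠ 0 ∧ c ≠ 1) ∨ 3 ≤ k)
    {f : Wv} (hno : ∀ u, u ≠ 0 → β u u = 0 → pure u f ∉ centres σ Φ M)
    (hf0 : f ≠ 0) (hff : γ f f = 0) {g : GL (Fin k × Fin n) F} (hg : g ∈ M)
    (hR : InR γ f g) : g ∈ Cfsg.Geo.kroneckerSubgroup k n F := by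
  obtain ⟨f', -, hff', hf'f⟩ := exists_partner hO.pair.right hf0 hff
  refine (kron_or_central hO hff hff' hf'f hf0 hg hR).resolve_right ?_
  rintro ⟨K, hK, hns⟩
  obtain ⟨u, hu0, huu, hu⟩ := exists_centre hO hff hff' hf'f hex hf0 hK hns
  exact hno u hu0 huu hu

variable (hO : Over σ β γ Φ M)
include hO

variable (hex : (∃ c : F, σ c = c ∧ c ≠ 0 ∧ c ≠ 1) ∨ 3 ≤ k)
  (hno : ∀ u f, u ≠ 0 → β u u = 0 → f ≠ 0 → γ f f = 0 → pure u f ∉ centres σ Φ M)
include hex hno

/-- elements stabilising `U ⊗ f` are Kronecker products -/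
theorem kron_of_stab {f : Wv} (hf0 : f ≠ 0) (hff : γ f f = 0) {g : GL (Fin k × Fin n) F} (hg : g ∈ M)
    (hx : ∀ u, ∃ u', (Units.val g) *ᵥ pure u f = pure u' f) :
    g ∈ Cfsg.Geo.kroneckerSubgroup k n F := by
  have hP := hO.pair
  have hh := hP.right
  have hβ := hP.left
  obtain ⟨f', hf'0, hff', hf'f⟩ := exists_partner hh hf0 hff
  let A : Uv →ₗ[F] Uv := (eta hP f').comp ((Matrix.toLin' (Units.val g)).comp (pureR f))
  have hA : ∀ u, (Units.val g) *ᵥ pure u f = pure (A u) f := by
    intro u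
    obtain ⟨u', hu'⟩ := hx u
    have e : A u = u' := by
      show eta hP f' ((Matrix.toLin' (Units.val g)) (pure u f)) = u'
      rw [Matrix.toLin'_apply, hu', eta_pure, hff', one_smul]
    rw [hu', e]
  have hAinj : Function.Injective A := (injective_iff_map_eq_zero A).2 fun u hu => by
    by_contra h0
    have h1 := hA u
    rw [hu, pure_zero_left] at h1
    exact mulVec_ne_zero g (pure_ne_zero h0 hf0) h1
  have hAsurj := LinearMap.injective_iff_surjective.1 hAinj
  -- the orthogonal of `U ⊗ f` is stable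
  have hstab : ∀ y, eta hP f y = 0 → eta hP f ((Units.val g) *ᵥ y) = 0 := fun y hy =>
    eta_eq_zero hP fun v => by
      obtain ⟨v', rfl⟩ := hAsurj v
      rw [← hA, iso_M hO.toCore hg, form_pure hP, hy, zero_left hβ]
  have hgi : ∀ u, ∃ u', (Units.val g⁻¹) *ᵥ pure u f = pure u' f := fun u => by
    obtain ⟨u', rfl⟩ := hAsurj u
    exact ⟨u', by rw [← hA, inv_mulVec_cancel]⟩
  have hginv : ∀ y, eta hP f y = 0 → eta hP f ((Units.val g⁻¹) *ᵥ y) = 0 := fun y hy =>
    eta_eq_zero hP fun v => by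
      rw [← iso_M hO.toCore hg, mulVec_inv_cancel, hA, form_pure hP, hy, zero_left hβ]
  -- conjugates of Siegel elements of the second factor
  have hq : ∀ w₀, γ w₀ f = 0 → ∃ φ : Wv →ₗ[F] F, ∀ u w, γ w f = 0 → ∀ i,
      φ (TensorMax.row ((Units.val g) *ᵥ pure u w) i) = -γ w w₀ * A u i := by
    intro w₀ hw₀
    obtain ⟨b₀, hb₀⟩ := exists_trace_eq hh (self_fixed hh w₀)
    obtain ⟨s, hs, hsx⟩ := exists_siegel hh hff (comm_zero hh hw₀) hb₀
    have hqM := kr_mem_M hO.toCore (one_mem (isoSL β)) hs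
    have hsw : ∀ w, γ w f = 0 → (Units.val s) *ᵥ w = w + (-γ w w₀) • f := fun w hw => by
      rw [hsx, hw, mul_zero, add_zero, zero_smul, add_zero]
    have hsf : (Units.val s) *ᵥ f = f := by rw [hsx, hff, comm_zero hh hw₀]; simp
    have hqx : ∀ u, (Units.val (kr (1 : GL (Fin k) F) s)) *ᵥ pure u f = pure u f := fun u => by
      rw [kr_pure, hsf, Units.val_one, one_mulVec]
    have hqy : ∀ y, eta hP f y = 0 → (Units.val (kr (1 : GL (Fin k) F) s)) *ᵥ y = y - pure (eta hP w₀ y) f :=
      fun y hy => ext_row fun i => by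
        rw [kr_coe, Units.val_one, row_one_kron, hsw _ ((eta_zero_iff hP).1 hy i)]
        show _ = TensorMax.row y i - TensorMax.row (pure (eta hP w₀ y) f) i
        rw [row_pure, eta_apply, neg_smul, sub_eq_add_neg]
    set d := g * kr 1 s * g⁻¹ with hd
    have hdM : d ∈ M := mul_mem (mul_mem hg hqM) (inv_mem hg)
    have hdR : InR γ f d := by
      refine ⟨fun u => ?_, fun u w hw => ?_⟩
      · obtain ⟨u', hu'⟩ := hgi u
        rw [hd, mulVec_mul_GL, mulVec_mul_GL, hu', hqx, ← hu', mulVec_inv_cancel]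
      · have hy : eta hP f ((Units.val g⁻¹) *ᵥ pure u w) = 0 := hginv _ (by rw [eta_pure, hw, zero_smul])
        refine ⟨-A (eta hP w₀ ((Units.val g⁻¹) *ᵥ pure u w)), ?_⟩
        rw [hd, mulVec_mul_GL, mulVec_mul_GL, hqy _ hy, mulVec_sub, mulVec_inv_cancel, hA, sub_eq_add_neg,
          ← neg_one_smul F (pure _ f), ← pure_smul_left, neg_one_smul]
    obtain ⟨a, b, hab⟩ := exists_kr (hO.toCore.kron_of_InR hex (fun u h1 h2 => hno u f h1 h2 hf0 hff) hf0 hff hdM hdR)
    -- the first factor is a scalar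
    set c := γ ((Units.val b) *ᵥ f) f' with hc
    have ha : ∀ u, c • ((Units.val a) *ᵥ u) = u := fun u => by
      have h1 := congrArg (eta hP f') (hdR.1 u)
      rwa [hab, kr_pure, eta_pure, eta_pure, hff', one_smul] at h1
    obtain ⟨i₀⟩ : Nonempty (Fin k) := ⟨⟨0, by have := hO.hk; omega⟩⟩
    have hc0 : c ≠ 0 := fun e => by
      have h1 := congrFun (ha (Pi.single i₀ 1)) i₀
      rw [e, zero_smul, Pi.zero_apply, Pi.single_eq_same] at h1
      exact zero_ne_one h1
    have hdpure : ∀ u w, (Units.val d) *ᵥ pure u w = pure u (c⁻¹ • ((Units.val b) *ᵥ w)) := fun u w => by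
      rw [hab, kr_pure, show (Units.val a) *ᵥ u = c⁻¹ • u by
        conv_rhs => rw [← ha u]
        rw [inv_smul_smul₀ hc0], pure_smul_left, pure_smul_right]
    let φ : Wv →ₗ[F] F :=
      (UnitaryInLinear.form hh f').comp (c⁻¹ • Matrix.toLin' (Units.val b) - LinearMap.id)
    refine ⟨φ, fun u w hw i => ?_⟩
    have hy : eta hP f (pure u w) = 0 := by rw [eta_pure, hw, zero_smul]
    have e := mulVec_mul_GL d g (pure u w)
    rw [show d * g = g * kr 1 s by rw [hd, inv_mul_cancel_right], mulVec_mul_GL, hqy _ hy, eta_pure,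
      mulVec_sub, hA, map_smul] at e
    have e2 := congrArg (fun z => γ (TensorMax.row z i) f') e
    have hrow : TensorMax.row ((Units.val d) *ᵥ ((Units.val g) *ᵥ pure u w)) i =
        c⁻¹ • ((Units.val b) *ᵥ TensorMax.row ((Units.val g) *ᵥ pure u w) i) := by
      conv_lhs => rw [sum_rows ((Units.val g) *ᵥ pure u w), mulVec_sum, row_sum]
      rw [Finset.sum_eq_single i]
      · rw [hdpure, row_pure, Pi.single_eq_same, one_smul]
      · intro j _ hj; rw [hdpure, row_pure, Pi.single_eq_of_ne (Ne.symm hj), zero_smul]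
      · simp
    rw [hrow, show TensorMax.row ((Units.val g) *ᵥ pure u w - pure (γ w w₀ • A u) f) i =
      TensorMax.row ((Units.val g) *ᵥ pure u w) i - TensorMax.row (pure (γ w w₀ • A u) f) i from rfl, row_pure,
      sub_left hh, hh.smul (((γ w w₀) • A u) i), hff', mul_one, Pi.smul_apply, smul_eq_mul] at e2
    show γ (c⁻¹ • ((Units.val b) *ᵥ TensorMax.row ((Units.val g) *ᵥ pure u w) i) - TensorMax.row ((Units.val g) *ᵥ pure u w) i) f' = _
    rw [sub_left hh, ← e2]
    ring
  choose φ hφ using hq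
  -- the functionals separate
  have hsep : ∀ z, γ z f = 0 → (∀ w₀ hw₀, φ w₀ hw₀ z = 0) → z ∈ Submodule.span F {f} := by
    intro z hz hzero
    by_contra hzs
    obtain ⟨i₀⟩ : Nonempty (Fin k) := ⟨⟨0, by have := hO.hk; omega⟩⟩
    set y := (Units.val g⁻¹) *ᵥ pure (Pi.single i₀ 1) z with hy
    have hy0 : eta hP f y = 0 := hginv _ (by rw [eta_pure, hz, zero_smul])
    -- all contractions of the preimage vanish
    have hyz : ∀ w₀, γ w₀ f = 0 → eta hP w₀ y = 0 := by
      intro w₀ hw₀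
      have hsum : A (eta hP w₀ y) = 0 := by
        funext i
        have h1 : ∑ j, φ w₀ hw₀ (TensorMax.row ((Units.val g) *ᵥ pure (Pi.single j 1) (TensorMax.row y j)) i) =
            φ w₀ hw₀ (TensorMax.row (pure (Pi.single i₀ 1) z) i) := by
          rw [← map_sum, ← row_sum, ← mulVec_sum, ← sum_rows, hy, mulVec_inv_cancel]
        rw [row_pure, map_smul, hzero w₀ hw₀, smul_zero] at h1
        rw [pi_eq_sum_univ' (eta hP w₀ y), map_sum, Finset.sum_apply, Pi.zero_apply, ← h1.trans rfl]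
        calc _ = -∑ j, φ w₀ hw₀ (TensorMax.row ((Units.val g) *ᵥ pure (Pi.single j 1) (TensorMax.row y j)) i) := by
              rw [← Finset.sum_neg_distrib]
              refine Finset.sum_congr rfl fun j _ => ?_
              rw [hφ w₀ hw₀ _ _ ((eta_zero_iff hP).1 hy0 j), map_smul, Pi.smul_apply, smul_eq_mul, neg_mul, neg_neg]
              rfl
          _ = _ := by rw [h1, neg_zero]
      exact hAinj (hsum.trans (map_zero A).symm)
    obtain ⟨u, hu⟩ := exists_of_perp hP hyz
    have h2 : pure (Pi.single i₀ 1) z = pure (A u) f := by rw [← hA, ← hu, hy, mulVec_inv_cancel]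
    have h3 := congrArg (fun x => TensorMax.row x i₀) h2
    simp only [row_pure, Pi.single_eq_same, one_smul] at h3
    exact hzs (h3 ▸ Submodule.smul_mem _ _ (Submodule.mem_span_singleton_self f))
  -- the action on the quotient
  obtain ⟨u₁, hu₁⟩ := hAsurj (Pi.single (⟨0, by have := hO.hk; omega⟩ : Fin k) 1)
  let B : Wv →ₗ[F] Wv :=
    (comb (Pi.single (⟨0, by have := hO.hk; omega⟩ : Fin k) 1)).comp
      ((Matrix.toLin' (Units.val g)).comp (pureL u₁))
  have hBrow : ∀ w, B w = TensorMax.row ((Units.val g) *ᵥ pure u₁ w) ⟨0, by have := hO.hk; omega⟩ := fun w => by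
    show ∑ i, _ • TensorMax.row _ i = _
    rw [Finset.sum_eq_single (⟨0, by have := hO.hk; omega⟩ : Fin k)]
    · rw [Pi.single_eq_same, one_smul, LinearMap.comp_apply, Matrix.toLin'_apply, pureL_apply]
    · intro j _ hj; rw [Pi.single_eq_of_ne hj, zero_smul]
    · simp
  have hBf : ∀ w, γ w f = 0 → γ (B w) f = 0 := fun w hw => by
    rw [hBrow]
    exact (eta_zero_iff hP).1 (hstab _ (by rw [eta_pure, hw, zero_smul])) _
  have hBphi : ∀ w, γ w f = 0 → ∀ w₀ hw₀, φ w₀ hw₀ (B w) = -γ w w₀ := fun w hw w₀ hw₀ => by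
    rw [hBrow, hφ w₀ hw₀ u₁ w hw, hu₁, Pi.single_eq_same, mul_one]
  have hmod : ∀ u w, γ w f = 0 → ∃ x, (Units.val g) *ᵥ pure u w = pure (A u) (B w) + pure x f := by
    intro u w hw
    set y := (Units.val g) *ᵥ pure u w - pure (A u) (B w) with hy
    have hy' : ∀ i, TensorMax.row y i ∈ Submodule.span F {f} := fun i => by
      have e : TensorMax.row y i = TensorMax.row ((Units.val g) *ᵥ pure u w) i - A u i • B w := rfl
      refine hsep _ ?_ fun w₀ hw₀ => ?_
      · rw [e, sub_left hh, hh.smul, hBf w hw, mul_zero, sub_zero]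
        exact (eta_zero_iff hP).1 (hstab _ (by rw [eta_pure, hw, zero_smul])) i
      · rw [e, map_sub, map_smul, hφ w₀ hw₀ u w hw, hBphi w hw w₀ hw₀, smul_eq_mul]
        ring
    obtain ⟨x, hx⟩ := exists_pure_of_row hy'
    exact ⟨x, by rw [← hx, hy, add_sub_cancel]⟩
  -- similitudes
  have hform : ∀ u u' w w', γ w f = 0 → γ w' f = 0 →
      β (A u) (A u') * γ (B w) (B w') = β u u' * γ w w' := by
    intro u u' w w' hw hw'
    obtain ⟨x, hx⟩ := hmod u w hw
    obtain ⟨x', hx'⟩ := hmod u' w' hw'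
    have h1 := iso_M hO.toCore hg (pure u w) (pure u' w')
    rw [hP.mul, hx, hx', hP.whole.add, add_right hP.whole, add_right hP.whole, hP.mul, hP.mul, hP.mul, hP.mul,
      hBf w hw, comm_zero hh (hBf w' hw'), hff] at h1
    linear_combination h1
  obtain ⟨w₁, hw₁, hw₁₁⟩ : ∃ w, γ w f = 0 ∧ γ w w ≠ 0 := by
    by_contra hc
    push Not at hc
    set S := LinearMap.ker (UnitaryInLinear.form hh f) with hS
    have hdim : n ≤ Module.finrank F S + 1 := by
      have h1 := LinearMap.finrank_range_add_finrank_ker (UnitaryInLinear.form hh f)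
      have h2 := Submodule.finrank_le (LinearMap.range (UnitaryInLinear.form hh f))
      rw [Module.finrank_self] at h2
      rw [Module.finrank_fintype_fun_eq_card, Fintype.card_fin, ← hS] at h1
      omega
    have hle : S ≤ Submodule.span F {f} := fun z hz => by
      by_contra hzf
      obtain ⟨x, hxf, hxz⟩ := exists_perp_value hh hzf
      have := polar_zero hh (S := S) (fun y hy => hc y hy) (x := x) (y := z) hxf hz
      rw [this] at hxz
      exact zero_ne_one hxz
    have h3 := Submodule.finrank_mono hle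
    rw [finrank_span_singleton hf0] at h3
    have := hO.hn
    omega
  obtain ⟨u₂, hu₂⟩ : ∃ u, β u u ≠ 0 := by
    by_contra hc
    push Not at hc
    obtain ⟨i⟩ : Nonempty (Fin k) := ⟨⟨0, by have := hO.hk; omega⟩⟩
    have hne : (Pi.single i (1 : F) : Uv) ≠ 0 := fun e => by simpa using congrFun e i
    exact hne (hβ.nd _ fun x => polar_zero hβ (S := ⊤) (fun y _ => hc y) trivial trivial)
  have hB1 : γ (B w₁) (B w₁) ≠ 0 := fun e => by
    have := hform u₂ u₂ w₁ w₁ hw₁ hw₁
    rw [e, mul_zero] at this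
    exact mul_ne_zero hu₂ hw₁₁ this.symm
  set μ := γ w₁ w₁ / γ (B w₁) (B w₁) with hμ
  have hμ0 : μ ≠ 0 := div_ne_zero hw₁₁ hB1
  have hμs : σ μ = μ := by rw [hμ, map_div₀, self_fixed hh, self_fixed hh]
  have hAβ : ∀ u u', β (A u) (A u') = μ * β u u' := fun u u' => by
    rw [hμ, div_mul_eq_mul_div, eq_div_iff hB1, hform u u' w₁ w₁ hw₁ hw₁]; ring
  have hBγ : ∀ w w', γ w f = 0 → γ w' f = 0 → γ (B w) (B w') = μ⁻¹ * γ w w' := fun w w' hw hw' => by
    refine mul_left_cancel₀ (mul_ne_zero hμ0 hu₂) ?_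
    have := hform u₂ u₂ w w' hw hw'
    rw [hAβ] at this
    rw [this]
    field_simp
  -- the Kronecker part
  let pr : Wv →ₗ[F] Wv :=
    LinearMap.id - (UnitaryInLinear.form hh f').smulRight f - (UnitaryInLinear.form hh f).smulRight f'
  have hpr : ∀ x, pr x = x - γ x f' • f - γ x f • f' := fun x => rfl
  let bl : Wv →ₗ[F] Wv :=
    (UnitaryInLinear.form hh f').smulRight f + μ⁻¹ • (UnitaryInLinear.form hh f).smulRight f' +
      (LinearMap.id - (UnitaryInLinear.form hh f').smulRight f).comp (B.comp pr)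
  have hbl : ∀ x, bl x = γ x f' • f + μ⁻¹ • γ x f • f' + (B (pr x) - γ (B (pr x)) f' • f) := fun x => rfl
  have hprf : ∀ x, γ (pr x) f = 0 := fun x => by
    rw [hpr, sub_left hh, sub_left hh, hh.smul, hh.smul, hff, hf'f]; ring
  have hprf' : ∀ x, γ (pr x) f' = 0 := fun x => by
    rw [hpr, sub_left hh, sub_left hh, hh.smul, hh.smul, hff', hf'0]; ring
  have hblγ : ∀ x y, γ (bl x) (bl y) = μ⁻¹ * γ x y := by
    intro x y
    set X := B (pr x) - γ (B (pr x)) f' • f
    set Y := B (pr y) - γ (B (pr y)) f' • f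
    have hXf : ∀ x, γ (B (pr x) - γ (B (pr x)) f' • f) f = 0 := fun x => by
      rw [sub_left hh, hh.smul, hBf _ (hprf x), hff, mul_zero, sub_zero]
    have hXf' : ∀ x, γ (B (pr x) - γ (B (pr x)) f' • f) f' = 0 := fun x => by
      rw [sub_left hh, hh.smul, hff', mul_one, sub_self]
    have hXY : γ X Y = μ⁻¹ * γ (pr x) (pr y) := by
      simp only [X, Y, sub_left hh, sub_right hh, hh.smul, smul_right hh, hBf _ (hprf x),
        comm_zero hh (hBf _ (hprf y)), hff, hBγ _ _ (hprf x) (hprf y)]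
      ring
    have ex : x = pr x + γ x f' • f + γ x f • f' := by rw [hpr]; abel
    have ey : y = pr y + γ y f' • f + γ y f • f' := by rw [hpr]; abel
    rw [hbl, hbl]
    conv_rhs => rw [ex, ey]
    simp only [hh.add, add_right hh, hh.smul, smul_right hh, map_inv₀, hμs, hff, hff', hf'f, hf'0,
      hXf x, hXf' x, comm_zero hh (hXf y), comm_zero hh (hXf' y), hprf x, hprf' x, comm_zero hh (hprf y),
      comm_zero hh (hprf' y)]
    rw [show γ (B (pr x) - γ (B (pr x)) f' • f) (B (pr y) - γ (B (pr y)) f' • f) = _ from hXY]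
    ring
  have hbinj : Function.Injective bl := (injective_iff_map_eq_zero bl).2 fun x hx => hh.nd x fun y => by
    have := hblγ x y
    rw [hx, zero_left hh] at this
    exact (mul_eq_zero.1 this.symm).resolve_left (inv_ne_zero hμ0)
  have toGL : ∀ {m : ℕ} (T : (Fin m → F) →ₗ[F] (Fin m → F)), Function.Injective T →
      ∃ a : GL (Fin m) F, ∀ x, (Units.val a) *ᵥ x = T x := by
    intro m T hT
    have hu : IsUnit (LinearMap.toMatrix' T) := Matrix.mulVec_injective_iff_isUnit.1 fun x y e => hT (by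
      simpa [LinearMap.toMatrix'_mulVec] using e)
    exact ⟨hu.unit, fun x => by rw [IsUnit.unit_spec, LinearMap.toMatrix'_mulVec]⟩
  obtain ⟨a, ha⟩ := toGL A hAinj
  obtain ⟨b, hb⟩ := toGL bl hbinj
  have hkiso : ∀ x y, Φ ((Units.val (kr a b)) *ᵥ x) ((Units.val (kr a b)) *ᵥ y) = Φ x y :=
    kr_iso hP (mul_inv_cancel₀ hμ0) (fun u u' => by rw [ha, ha]; exact hAβ u u')
      (fun w w' => by rw [hb, hb]; exact hblγ w w')
  have hblf : bl f = f := by
    rw [hbl, show pr f = 0 by rw [hpr, hff', hff, one_smul, zero_smul, sub_self, sub_zero], hff', hff, map_zero,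
      zero_left hh]
    simp
  have hBff : ∃ t : F, B f = t • f := by
    have h1 := hBrow f
    rw [hA, row_pure] at h1
    exact ⟨_, h1⟩
  obtain ⟨t, ht⟩ := hBff
  set r := (kr a b)⁻¹ * g with hr
  have hrR : InR γ f r := by
    refine ⟨fun u => mulVec_inj (kr a b) ?_, fun u w hw => ?_⟩
    · rw [← mulVec_mul_GL, hr, mul_inv_cancel_left, hA, kr_pure, ha, hb, hblf]
    obtain ⟨x, hx⟩ := hmod u w hw
    have hblw : bl w = B w + (γ w f' - t * γ w f' - γ (B (pr w)) f') • f := by
      have e : pr w = w - γ w f' • f := by rw [hpr, hw, zero_smul, sub_zero]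
      rw [hbl, hw, zero_smul, smul_zero, add_zero]
      nth_rewrite 1 [e]
      rw [map_sub, map_smul, ht]
      module
    obtain ⟨x', hx'⟩ := hAsurj (x - (γ w f' - t * γ w f' - γ (B (pr w)) f') • A u)
    refine ⟨x', mulVec_inj (kr a b) ?_⟩
    rw [← mulVec_mul_GL, hr, mul_inv_cancel_left, hx, mulVec_add, kr_pure, kr_pure, ha, hb, hblw, ha, hb, hblf,
      hx', pure_add_right, pure_smul_right, sub_eq_add_neg x, pure_add_left, ← neg_smul, pure_smul_left]
    module
  -- the radical element has determinant one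
  have hrY : ∀ u, eta hP f ((Units.val r) *ᵥ pure u f' - pure u f') = 0 := fun u => eta_eq_zero hP fun v => by
    have h1 : Φ ((Units.val r) *ᵥ pure u f') ((Units.val r) *ᵥ pure v f) = Φ (pure u f') (pure v f) := by
      rw [← hkiso, ← mulVec_mul_GL, ← mulVec_mul_GL, hr, mul_inv_cancel_left]
      exact iso_M hO.toCore hg _ _
    rw [hrR.1] at h1
    rw [sub_left hP.whole, h1, sub_self]
  have hrdet : (Units.val r).det = 1 := by
    obtain ⟨p, hp⟩ := CharP.exists F
    haveI : Fact p.Prime := ⟨(CharP.char_is_prime_or_zero F p).resolve_right (CharP.char_ne_zero_of_finite F p)⟩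
    haveI : Nonempty (Fin k × Fin n) :=
      ⟨(⟨0, by have := hO.hk; omega⟩, ⟨0, by have := hO.hn; omega⟩)⟩
    set N := Units.val r - 1 with hN
    have hNx : ∀ x, N *ᵥ x = (Units.val r) *ᵥ x - x := fun x => by rw [hN, sub_mulVec, one_mulVec]
    have h3 : ∀ x, ∀ u, N *ᵥ x = pure u f → N *ᵥ (N *ᵥ x) = 0 := fun x u e => by
      rw [e, hNx, hrR.1, sub_self]
    have h2 : ∀ y, eta hP f y = 0 → ∃ u, N *ᵥ y = pure u f := fun y hy => by
      choose z hz using fun i => hrR.2 (Pi.single i 1) (TensorMax.row y i) ((eta_zero_iff hP).1 hy i)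
      refine ⟨∑ i, z i, ?_⟩
      conv_lhs => rw [sum_rows y, mulVec_sum]
      rw [← pureR_apply, map_sum]
      exact Finset.sum_congr rfl fun i _ => by rw [hNx, hz, add_sub_cancel_left, pureR_apply]
    have h1 : ∀ x, eta hP f (N *ᵥ x) = 0 := fun x => by
      conv_lhs => rw [sum_rows x, mulVec_sum, map_sum]
      refine Finset.sum_eq_zero fun i _ => ?_
      have e : TensorMax.row x i = (TensorMax.row x i - γ (TensorMax.row x i) f • f') + γ (TensorMax.row x i) f • f' := by rw [sub_add_cancel]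
      have hw : γ (TensorMax.row x i - γ (TensorMax.row x i) f • f') f = 0 := by rw [sub_left hh, hh.smul, hf'f, mul_one, sub_self]
      obtain ⟨z, hz⟩ := hrR.2 (Pi.single i 1) _ hw
      rw [e, pure_add_right, pure_smul_right, mulVec_add, mulVec_smul, map_add, map_smul, hNx, hz,
        add_sub_cancel_left, eta_pure, hff, zero_smul, zero_add, hNx, hrY, smul_zero]
    have hN3 : N ^ 3 = 0 := Matrix.ext_of_mulVec_single fun i => by
      rw [zero_mulVec, pow_succ, pow_succ, pow_one, ← mulVec_mulVec, ← mulVec_mulVec]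
      obtain ⟨u, hu⟩ := h2 _ (h1 (Pi.single i 1))
      exact h3 _ u hu
    refine det_eq_one_of_pow p (t := 2) ?_
    have h4 : N ^ p ^ 2 = 0 := pow_eq_zero_of_le (by
      have := (Fact.out : p.Prime).two_le
      nlinarith) hN3
    rw [hN, sub_pow_char_pow_of_commute _ _ (Commute.one_right _), one_pow, sub_eq_zero] at h4
    exact h4
  have hge : g = kr a b * r := by rw [hr, mul_inv_cancel_left]
  have hkM : kr a b ∈ M := hO.ge ⟨kr_mem_kron a b, hkiso, by
    have h1 := (hO.le hg).2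
    rw [hge, Units.val_mul, det_mul, hrdet, mul_one] at h1
    exact h1⟩
  have hrK := hO.toCore.kron_of_InR hex (fun u h1 h2 => hno u f h1 h2 hf0 hff) hf0 hff (mul_mem (inv_mem hkM) hg) hrR
  rw [hge]
  exact mul_mem (kr_mem_kron a b) hrK

end Cfsg.Agent.Forms.Max.TensorRes.Unitary
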