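import Cfsg.Agent.Lib.Forms.Max.Tensor.UnitaryStab

/-!
# Exchanging the factors of a unitary tensor stabiliser

For a first factor of dimension two the stabiliser of `e ⊗ W` (`e` isotropic) is treated like the stabiliser of
`U ⊗ f`.
-/

set_option autoImplicit false
set_option linter.unusedSectionVars false

namespace Cfsg.Agent.Forms.Max.TensorRes.Unitary

open Matrix Cfsg.Agent.Aschbacher Cfsg.Agent.Forms.Max.TensorMax Cfsg.Agent.Forms.Max.UnitaryInLinear
  Cfsg.Agent.Forms.Max.HermTools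

variable {F : Type*} [Field F] [Fintype F] {k n : ℕ}

/-- the exchange of the two index sets -/
def flipGL : GL (Fin k × Fin n) F ≃* GL (Fin n × Fin k) F :=
  Cfsg.Geo.glReindex (Equiv.prodComm (Fin k) (Fin n))

theorem flipGL_mulVec (g : GL (Fin k × Fin n) F) (x : Fin n × Fin k → F) :
    (Units.val (flipGL g)) *ᵥ x = ((Units.val g) *ᵥ (x ∘ Prod.swap)) ∘ Prod.swap :=
  Matrix.submatrix_mulVec_equiv (Units.val g) x _ (Equiv.prodComm (Fin k) (Fin n)).symm

theorem flipGL_det (g : GL (Fin k × Fin n) F) : (Units.val (flipGL g)).det = (Units.val g).det :=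
  Matrix.det_reindexAlgEquiv F F _ _

theorem flipGL_kr (a : GL (Fin k) F) (b : GL (Fin n) F) : flipGL (kr a b) = kr b a := by
  refine Units.ext (Matrix.ext fun i j => ?_)
  show (Units.val a) i.2 j.2 * (Units.val b) i.1 j.1 = (Units.val b) i.1 j.1 * (Units.val a) i.2 j.2
  exact mul_comm _ _

theorem pure_swap (u : Fin k → F) (w : Fin n → F) : (pure w u) ∘ Prod.swap = pure u w :=
  funext fun a => mul_comm (w a.2) (u a.1)

theorem swap_swap_comp (x : Fin k × Fin n → F) : (x ∘ Prod.swap) ∘ Prod.swap = x := rfl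

variable {σ : F →+* F} {β : (Fin k → F) → (Fin k → F) → F} {γ : (Fin n → F) → (Fin n → F) → F}
  {Φ : (Fin k × Fin n → F) → (Fin k × Fin n → F) → F} {M : Subgroup (GL (Fin k × Fin n) F)}

/-- elements fixing `e ⊗ W` pointwise are Kronecker products -/
theorem Core.kron_of_fix (hO : Core σ β γ Φ M) (hk2 : k = 2) (hn3 : 3 ≤ n) {e : Fin k → F} (he0 : e ≠ 0)
    (hee : β e e = 0) (hno : ∀ w, w ≠ 0 → γ w w = 0 → pure e w ∉ centres σ Φ M)
    {g : GL (Fin k × Fin n) F} (hg : g ∈ M) (hfix : ∀ w, (Units.val g) *ᵥ pure e w = pure e w) :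
    g ∈ Cfsg.Geo.kroneckerSubgroup k n F := by
  have hP := hO.pair
  have hw := hP.whole
  let Φ' : (Fin n × Fin k → F) → (Fin n × Fin k → F) → F := fun x y => Φ (x ∘ Prod.swap) (y ∘ Prod.swap)
  have hP' : Pair σ γ β Φ' := by
    refine ⟨hP.right, hP.left, ⟨hw.ne_id, hw.inv, fun x y v => hw.add _ _ _, fun c x v => hw.smul _ _ _,
      fun v w => hw.herm _ _, fun v hv => ?_⟩, fun w u w' u' => ?_⟩
    · have h1 := hw.nd (v ∘ Prod.swap) fun x => hv (x ∘ Prod.swap)
      funext a
      exact congrFun h1 a.swap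
    · show Φ _ _ = _
      rw [pure_swap, pure_swap, hP.mul, mul_comm]
  have hiso : ∀ {x : GL (Fin k × Fin n) F}, x ∈ isoSL Φ → flipGL x ∈ isoSL Φ' := fun {x} hx =>
    ⟨fun a b => by
      show Φ _ _ = Φ _ _
      rw [flipGL_mulVec, flipGL_mulVec]
      exact hx.1 _ _, by rw [flipGL_det]; exact hx.2⟩
  set φ : GL (Fin k × Fin n) F ≃* GL (Fin n × Fin k) F := flipGL with hφ
  have hM : ∀ {x}, φ x ∈ M.map φ.toMonoidHom ↔ x ∈ M := fun {x} =>
    ⟨fun ⟨y, hy, he⟩ => φ.injective he ▸ hy, fun h => ⟨x, h, rfl⟩⟩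
  have hO' : Core σ γ β Φ' (M.map φ.toMonoidHom) := by
    refine ⟨hP', ?_, ?_, by omega⟩
    · rintro _ ⟨x, hx, rfl⟩
      exact hiso (hO.le hx)
    · rintro y ⟨hy, hy'⟩
      obtain ⟨b, a, rfl⟩ := exists_kr hy
      have e : kr b a = φ (kr a b) := (flipGL_kr a b).symm
      rw [e] at hy' ⊢
      refine hM.2 (hO.ge ⟨kr_mem_kron a b, fun x z => ?_, by rw [← flipGL_det]; exact hy'.2⟩)
      have h1 := hy'.1 (x ∘ Prod.swap) (z ∘ Prod.swap)
      change Φ _ _ = Φ _ _ at h1
      rwa [hφ, flipGL_mulVec, flipGL_mulVec] at h1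
  have hno' : ∀ w, w ≠ 0 → γ w w = 0 → pure w e ∉ centres σ Φ' (M.map φ.toMonoidHom) := by
    intro w hw0 hww hc
    refine hno w hw0 hww ⟨by rw [hP.mul, hee, zero_mul], fun x c hc' hx => hM.1 (hc.2 (φ x) c hc' fun z => ?_)⟩
    rw [hφ, flipGL_mulVec, hx, ← pure_swap e w]
    rfl
  have hR : InR β e (φ g) := by
    refine ⟨fun w => ?_, fun w u hu => ⟨0, ?_⟩⟩
    · rw [hφ, flipGL_mulVec, pure_swap, hfix, pure_swap]
    · obtain ⟨e', -, hee', he'e⟩ := exists_partner hP.left he0 hee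
      have hu' : u = β u e' • e := by
        obtain ⟨t, ht⟩ : ∃ t : F, u = t • e := by
          let L := UnitaryInLinear.form hP.left e
          have h1 := LinearMap.finrank_range_add_finrank_ker L
          rw [LinearMap.range_eq_top.2 fun p => ⟨p • e', by
            show β _ e = p
            rw [hP.left.smul, he'e, mul_one]⟩, finrank_top, Module.finrank_self,
            Module.finrank_fintype_fun_eq_card, Fintype.card_fin] at h1
          obtain ⟨c, hc⟩ := (finrank_eq_one_iff_of_nonzero' (⟨e, hee⟩ : LinearMap.ker L)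
            (fun h => he0 (congrArg Subtype.val h))).1 (show Module.finrank F (LinearMap.ker L) = 1 by omega) ⟨u, hu⟩
          exact ⟨c, (congrArg Subtype.val hc).symm⟩
        rw [ht, hP.left.smul, hee', mul_one]
      rw [pure_zero_left, add_zero, hu', hφ, flipGL_mulVec, pure_swap, pure_smul_left, mulVec_smul, hfix,
        ← pure_smul_left, pure_swap]
  have h := hO'.kron_of_InR (Or.inr hn3) hno' he0 hee (hM.2 hg) hR
  obtain ⟨b, a, hab⟩ := exists_kr h
  rw [← flipGL_kr a b] at hab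
  rw [φ.injective hab]
  exact kr_mem_kron a b

end Cfsg.Agent.Forms.Max.TensorRes.Unitary
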