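import Cfsg.Agent.Lib.Forms.Max.Tensor.UnitaryDichotomy
import Cfsg.Agent.Lib.Forms.Max.Tensor.UnitarySwap

/-!
# Overgroups of a unitary `2 ⊗ 3` tensor stabiliser without pure centres consist of Kronecker products

The image of `e ⊗ W` for isotropic `e` contains a pure vector with two isotropic factors, hence is stable under a
transvection of the second factor.
-/

set_option autoImplicit false
set_option linter.unusedSectionVars false

namespace Cfsg.Agent.Forms.Max.TensorRes.Unitary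

open Matrix Cfsg.Agent.Aschbacher Cfsg.Agent.Forms.Max.TensorMax Cfsg.Agent.Forms.Max.UnitaryInLinear
  Cfsg.Agent.Forms.Max.HermTools

variable {F : Type*} [Field F] [Fintype F]

section Space

variable {ι : Type} [Fintype ι] [DecidableEq ι] {σ : F →+* F} {h : (ι → F) → (ι → F) → F}
  (hh : Herm σ h) (hι : Fintype.card ι = 3)
include hh hι

/-- orthogonal isotropic vectors in dimension three are dependent -/
theorem iso_perp_line {s b : ι → F} (hs0 : s ≠ 0) (hss : h s s = 0) (hbb : h b b = 0) (hbs : h b s = 0) :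
    b ∈ Submodule.span F {s} := by
  obtain ⟨s', hs'0, hss', hs's⟩ := exists_partner hh hs0 hss
  obtain ⟨e, hes, hes', hee, hdec⟩ := exists_third hh hι hss hs'0 hss' hs's
  obtain ⟨c, hc⟩ := hdec b
  rw [hbs, zero_smul, add_zero] at hc
  have h1 : σ c * c = 0 := by
    rw [hc] at hbb
    simp only [hh.add, add_right hh, hh.smul, smul_right hh, hss, hes, comm_zero hh hes, mul_zero, zero_add] at hbb
    refine (mul_eq_zero.1 (show σ c * c * h e e = 0 by linear_combination hbb)).resolve_right hee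
  have hc0 : c = 0 := by
    rcases mul_eq_zero.1 h1 with h' | h'
    · simpa using h'
    · exact h'
  rw [hc, hc0, zero_smul, add_zero]
  exact Submodule.smul_mem _ _ (Submodule.mem_span_singleton_self s)

/-- pairwise dependent or orthogonal anisotropic vectors fit into an orthogonal basis -/
theorem exists_frame (S : Set (ι → F)) (hS0 : ∀ b ∈ S, h b b ≠ 0)
    (hS : ∀ b ∈ S, ∀ b' ∈ S, b' ∈ Submodule.span F {b} ∨ h b' b = 0) :
    ∃ b₁ b₂ b₃ : ι → F, h b₁ b₁ ≠ 0 ∧ h b₂ b₂ ≠ 0 ∧ h b₃ b₃ ≠ 0 ∧ h b₁ b₂ = 0 ∧ h b₁ b₃ = 0 ∧ h b₂ b₃ = 0 ∧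
      ∀ b ∈ S, b ∈ Submodule.span F {b₁} ∨ b ∈ Submodule.span F {b₂} ∨ b ∈ Submodule.span F {b₃} := by
  obtain ⟨b₁, hb₁, hb₁S⟩ : ∃ b, h b b ≠ 0 ∧ ∀ b' ∈ S, b' ∈ Submodule.span F {b} ∨ h b' b = 0 := by
    by_cases hne : S.Nonempty
    · obtain ⟨b, hb⟩ := hne
      exact ⟨b, hS0 b hb, hS b hb⟩
    obtain ⟨b, hb⟩ : ∃ b, h b b ≠ 0 := by
      by_contra hc
      push Not at hc
      obtain ⟨i⟩ : Nonempty ι := Fintype.card_pos_iff.1 (by omega)
      have hne' : (Pi.single i (1 : F) : ι → F) ≠ 0 := fun e => by simpa using congrFun e i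
      exact hne' (hh.nd _ fun x => polar_zero hh (S := ⊤) (fun y _ => hc y) trivial trivial)
    exact ⟨b, hb, fun b' hb' => absurd ⟨b', hb'⟩ hne⟩
  obtain ⟨b₂, hb₂, hb₂₁, hb₂S⟩ : ∃ b, h b b ≠ 0 ∧ h b b₁ = 0 ∧
      ∀ b' ∈ S, b' ∈ Submodule.span F {b₁} ∨ b' ∈ Submodule.span F {b} ∨ h b' b = 0 := by
    by_cases hne : ∃ b ∈ S, b ∉ Submodule.span F {b₁}
    · obtain ⟨b, hbS, hb⟩ := hne
      exact ⟨b, hS0 b hbS, (hb₁S b hbS).resolve_left hb, fun b' hb' => Or.inr (hS b hbS b' hb')⟩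
    push Not at hne
    obtain ⟨b, hb, hb'⟩ : ∃ b, h b b₁ = 0 ∧ h b b ≠ 0 := by
      by_contra hc
      push Not at hc
      set S' := LinearMap.ker (UnitaryInLinear.form hh b₁)
      have h1 : Module.finrank F (LinearMap.range (UnitaryInLinear.form hh b₁)) + Module.finrank F S' =
          Module.finrank F (ι → F) := LinearMap.finrank_range_add_finrank_ker (UnitaryInLinear.form hh b₁)
      have h2 := Submodule.finrank_le (LinearMap.range (UnitaryInLinear.form hh b₁))
      rw [Module.finrank_self] at h2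
      rw [Module.finrank_fintype_fun_eq_card, hι] at h1
      obtain ⟨e, he, he0, -⟩ := exists_iso hh (S := S') (by omega)
      refine he0 (hh.nd e fun x => ?_)
      have hx : x = (x - (h x b₁ / h b₁ b₁) • b₁) + (h x b₁ / h b₁ b₁) • b₁ := by abel
      have hxS : x - (h x b₁ / h b₁ b₁) • b₁ ∈ S' := by
        show h _ _ = 0
        rw [sub_left hh, hh.smul, div_mul_cancel₀ _ hb₁, sub_self]
      rw [hx, add_right hh, smul_right hh, polar_zero hh (S := S') (fun y hy => hc y hy) he hxS,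
        show h e b₁ = 0 from he]
      ring
    exact ⟨b, hb', hb, fun b' hb'' => Or.inl (hne b' hb'')⟩
  let L := (UnitaryInLinear.form hh b₁).prod (UnitaryInLinear.form hh b₂)
  have hb₁₂ := comm_zero hh hb₂₁
  have hsurj : Function.Surjective L := fun p => ⟨(p.1 / h b₁ b₁) • b₁ + (p.2 / h b₂ b₂) • b₂, by
    show (h _ b₁, h _ b₂) = p
    simp [hh.add, hh.smul, hb₁₂, hb₂₁, hb₁, hb₂]⟩
  have h1 := LinearMap.finrank_range_add_finrank_ker L
  rw [LinearMap.range_eq_top.2 hsurj, finrank_top, Module.finrank_prod, Module.finrank_self,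
    Module.finrank_fintype_fun_eq_card, hι] at h1
  obtain ⟨⟨b₃, hb₃⟩, hb₃0, hgen⟩ :=
    finrank_eq_one_iff'.1 (show Module.finrank F (LinearMap.ker L) = 1 by omega)
  have h31 : h b₃ b₁ = 0 := congrArg Prod.fst (show L b₃ = 0 from hb₃)
  have h32 : h b₃ b₂ = 0 := congrArg Prod.snd (show L b₃ = 0 from hb₃)
  refine ⟨b₁, b₂, b₃, hb₁, hb₂, fun h33 => hb₃0 (Subtype.ext (hh.nd b₃ fun x => ?_)), hb₁₂, comm_zero hh h31,
    comm_zero hh h32, fun b hb => ?_⟩
  · obtain ⟨c, hc⟩ := hgen ⟨x - (h x b₁ / h b₁ b₁) • b₁ - (h x b₂ / h b₂ b₂) • b₂, by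
      show (h _ b₁, h _ b₂) = (0, 0)
      simp [sub_left hh, hh.smul, hb₁₂, hb₂₁, hb₁, hb₂]⟩
    have hx : x = c • b₃ + (h x b₁ / h b₁ b₁) • b₁ + (h x b₂ / h b₂ b₂) • b₂ := by
      have hc' : c • b₃ = x - (h x b₁ / h b₁ b₁) • b₁ - (h x b₂ / h b₂ b₂) • b₂ := congrArg Subtype.val hc
      rw [hc']
      abel
    rw [hx, add_right hh, add_right hh, smul_right hh, smul_right hh, smul_right hh, h31, h32, h33]
    ring
  · by_cases hs1 : b ∈ Submodule.span F {b₁}
    · exact Or.inl hs1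
    rcases (hb₂S b hb).resolve_left hs1 with hs2 | hs2
    · exact Or.inr (Or.inl hs2)
    obtain ⟨c, hc⟩ := hgen ⟨b, by
      show (h b b₁, h b b₂) = (0, 0)
      rw [(hb₁S b hb).resolve_left hs1, hs2]⟩
    exact Or.inr (Or.inr (Submodule.mem_span_singleton.2 ⟨c, congrArg Subtype.val hc⟩))

omit hι in
/-- three isotropic points off the sides of an orthogonal frame -/
theorem exists_off_frame {c : F} (hc : σ c = c) (hc0 : c ≠ 0) (hc1 : c ≠ 1) {b₁ b₂ b₃ : ι → F}
    (h11 : h b₁ b₁ ≠ 0) (h22 : h b₂ b₂ ≠ 0) (h33 : h b₃ b₃ ≠ 0) (h12 : h b₁ b₂ = 0) (h13 : h b₁ b₃ = 0)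
    (h23 : h b₂ b₃ = 0) :
    ∃ s : Fin 3 → ι → F, ∀ i, s i ≠ 0 ∧ h (s i) (s i) = 0 ∧ h b₁ (s i) ≠ 0 ∧ h b₂ (s i) ≠ 0 ∧
      h b₃ (s i) ≠ 0 ∧ ∀ j, j ≠ i → s j ∉ Submodule.span F {s i} := by
  have h21 := comm_zero hh h12
  have h31 := comm_zero hh h13
  have h32 := comm_zero hh h23
  have hfix : ∀ (r : F) (b : ι → F), σ r = r → σ (r / h b b) = r / h b b := fun r b hr => by
    rw [map_div₀, hr, self_fixed hh]
  obtain ⟨x, hx⟩ := Bases.exists_norm_eq σ hh.ne_id hh.inv _ (hfix 1 b₁ (map_one σ))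
  obtain ⟨y, hy⟩ := Bases.exists_norm_eq σ hh.ne_id hh.inv _ (hfix (c - 1) b₂ (by rw [map_sub, hc, map_one]))
  obtain ⟨z, hz⟩ := Bases.exists_norm_eq σ hh.ne_id hh.inv _ (hfix (-c) b₃ (by rw [map_neg, hc]))
  have hy0 : y ≠ 0 := fun e => by
    rw [e, mul_zero] at hy
    exact (div_ne_zero (sub_ne_zero.2 hc1) h22) hy.symm
  have hz0 : z ≠ 0 := fun e => by
    rw [e, mul_zero] at hz
    exact (div_ne_zero (neg_ne_zero.2 hc0) h33) hz.symm
  have hx0 : x ≠ 0 := fun e => by
    rw [e, mul_zero] at hx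
    exact (div_ne_zero one_ne_zero h11) hx.symm
  obtain ⟨l, hl⟩ : ∃ l : F, σ l ≠ l := by
    by_contra hc
    push Not at hc
    exact hh.ne_id (RingHom.ext hc)
  have hl0 : l ≠ 0 := fun e => hl (by rw [e, map_zero])
  have hl1 : l + 1 ≠ 0 := fun e => hl (by rw [show l = -1 by linear_combination e, map_neg, map_one])
  have hs0 : σ l ≠ 0 := by simpa using hl0
  have hs1 : σ l + 1 ≠ 0 := fun e => hl1 (by
    have := congrArg σ e
    rwa [map_add, map_one, map_zero, hh.inv] at this)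
  let ph : Fin 3 → F := ![1, l / σ l, (l + 1) / (σ l + 1)]
  have hph : ∀ i, σ (ph i) * ph i = 1 := by
    intro i
    fin_cases i
    · simp [ph]
    · simp [ph, hh.inv, hl0, hs0]
    · simp [ph, hh.inv]; field_simp
  have hinj : Function.Injective ph := by
    have e1 : l / σ l ≠ 1 := fun e => hl ((div_eq_one_iff_eq hs0).1 e).symm
    have e2 : (l + 1) / (σ l + 1) ≠ 1 := fun e =>
      hl (add_right_cancel ((div_eq_one_iff_eq hs1).1 e)).symm
    have e3 : l / σ l ≠ (l + 1) / (σ l + 1) := fun e => hl (by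
      rw [div_eq_div_iff hs0 hs1] at e
      linear_combination -e)
    intro i j hij
    fin_cases i <;> fin_cases j <;> simp [ph, e1, e2, e3, Ne.symm e1, Ne.symm e2, Ne.symm e3] at hij ⊢
  refine ⟨fun i => (ph i * x) • b₁ + y • b₂ + z • b₃, fun i => ?_⟩
  have hp0 : ph i ≠ 0 := right_ne_zero_of_mul_eq_one (hph i)
  have v1 : ∀ j, h b₁ ((ph j * x) • b₁ + y • b₂ + z • b₃) = σ (ph j * x) * h b₁ b₁ := fun j => by
    simp [add_right hh, smul_right hh, h12, h13]
  have v2 : ∀ j, h b₂ ((ph j * x) • b₁ + y • b₂ + z • b₃) = σ y * h b₂ b₂ := fun j => by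
    simp [add_right hh, smul_right hh, h21, h23]
  have v3 : ∀ j, h b₃ ((ph j * x) • b₁ + y • b₂ + z • b₃) = σ z * h b₃ b₃ := fun j => by
    simp [add_right hh, smul_right hh, h31, h32]
  have hσ : ∀ a : F, a ≠ 0 → σ a ≠ 0 := fun a ha => by simpa using ha
  refine ⟨fun e => ?_, ?_, by rw [v1]; exact mul_ne_zero (hσ _ (mul_ne_zero hp0 hx0)) h11,
    by rw [v2]; exact mul_ne_zero (hσ _ hy0) h22, by rw [v3]; exact mul_ne_zero (hσ _ hz0) h33, fun j hji hj => ?_⟩
  · have := v2 i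
    rw [show (ph i * x) • b₁ + y • b₂ + z • b₃ = 0 from e, zero_right hh] at this
    exact mul_ne_zero (hσ _ hy0) h22 this.symm
  · simp only [hh.add, add_right hh, hh.smul, smul_right hh, h12, h13, h21, h23, h31, h32, map_mul]
    field_simp at hx hy hz
    linear_combination (h b₁ b₁ * σ x * x) * (hph i) + hx + hy + hz
  · obtain ⟨t, ht⟩ := Submodule.mem_span_singleton.1 hj
    have e2 := congrArg (h b₂) ht
    rw [smul_right hh, v2, v2] at e2
    have ht1 : σ t = 1 := mul_right_cancel₀ (mul_ne_zero (hσ _ hy0) h22) (e2.trans (one_mul _).symm)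
    have e1 := congrArg (h b₁) ht
    rw [smul_right hh, v1, v1, ht1, one_mul] at e1
    have e3 := congrArg σ (mul_right_cancel₀ h11 e1)
    rw [hh.inv, hh.inv] at e3
    exact hji (hinj (mul_right_cancel₀ hx0 e3)).symm

end Space

variable {k n : ℕ}
variable {σ : F →+* F} {β : (Fin k → F) → (Fin k → F) → F} {γ : (Fin n → F) → (Fin n → F) → F}
  {Φ : (Fin k × Fin n → F) → (Fin k × Fin n → F) → F}

local notation "Uv" => (Fin k → F)
local notation "Wv" => (Fin n → F)

variable {M : Subgroup (GL (Fin k × Fin n) F)} (hO : Over σ β γ Φ M)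
  (hno : ∀ u f, u ≠ 0 → β u u = 0 → f ≠ 0 → γ f f = 0 → pure u f ∉ centres σ Φ M)
  (hk2 : k = 2) (hn3 : n = 3)
include hO hno hk2 hn3

/-- elements stabilising `e ⊗ W` are Kronecker products -/
theorem kron_of_line {e : Uv} (he0 : e ≠ 0) (hee : β e e = 0) {g : GL (Fin k × Fin n) F} (hg : g ∈ M)
    (hline : ∀ w, ∃ v, (Units.val g) *ᵥ pure e w = pure e v) : g ∈ Cfsg.Geo.kroneckerSubgroup k n F := by
  have hP := hO.pair
  have hβ := hP.left
  have hh := hP.right
  have hfix : ∀ {x}, x ∈ M → (∀ w, (Units.val x) *ᵥ pure e w = pure e w) →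
      x ∈ Cfsg.Geo.kroneckerSubgroup k n F := fun {x} hx hxe =>
    hO.toCore.kron_of_fix hk2 hO.hn he0 hee (fun w hw0 hww => hno e w he0 hee hw0 hww) hx hxe
  obtain ⟨e', he'0, hee', he'e⟩ := exists_partner hβ he0 hee
  obtain ⟨ρ, -, hρ⟩ := exists_row_of_not_mem (S := (⊥ : Submodule F Uv)) (v := e) (by simpa using he0)
  let B : Wv →ₗ[F] Wv := (comb ρ).comp ((Matrix.toLin' (Units.val g)).comp (pureL e))
  have hB : ∀ w, (Units.val g) *ᵥ pure e w = pure e (B w) := fun w => by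
    obtain ⟨v, hv⟩ := hline w
    rw [hv]
    show _ = pure e (comb ρ ((Units.val g) *ᵥ pure e w))
    rw [hv, comb_pure, hρ, one_smul]
  have hBinj : Function.Injective B := (injective_iff_map_eq_zero B).2 fun w hw => by
    by_contra hw0
    have h1 := hB w
    rw [hw, pure_zero_right] at h1
    exact mulVec_ne_zero g (pure_ne_zero he0 hw0) h1
  have hBsurj := LinearMap.injective_iff_surjective.1 hBinj
  -- the conjugate of a transvection of the first factor
  obtain ⟨c, hc0, hc⟩ := exists_skew hβ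
  obtain ⟨a, ha, hax⟩ := exists_tv hβ hee (trace_zero_of hβ hc)
  have hae : (Units.val a) *ᵥ e = e := by rw [hax, hee, mul_zero, zero_smul, add_zero]
  have haM := kr_mem_M hO.toCore ha (one_mem (isoSL γ))
  set C := g * kr a 1 * g⁻¹ with hC
  have hCe : ∀ w, (Units.val C) *ᵥ pure e w = pure e w := fun w => by
    obtain ⟨v, rfl⟩ := hBsurj w
    rw [← hB, hC, mulVec_mul_GL, inv_mulVec_cancel, mulVec_mul_GL, kr_pure, hae, Units.val_one, one_mulVec]
  obtain ⟨a₁, b₁, hab⟩ := exists_kr (hfix (mul_mem (mul_mem hg haM) (inv_mem hg)) hCe)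
  have hs : ∀ w, (ρ ⬝ᵥ ((Units.val a₁) *ᵥ e)) • ((Units.val b₁) *ᵥ w) = w := fun w => by
    have h1 := congrArg (comb ρ) (hCe w)
    rwa [hC, hab, kr_pure, comb_pure, comb_pure, hρ, one_smul] at h1
  set s := ρ ⬝ᵥ ((Units.val a₁) *ᵥ e) with hsdef
  obtain ⟨i₀⟩ : Nonempty (Fin n) := ⟨⟨0, by omega⟩⟩
  have hs0 : s ≠ 0 := fun h0 => by
    have h1 := congrFun (hs (Pi.single i₀ 1)) i₀
    rw [h0, zero_smul, Pi.zero_apply, Pi.single_eq_same] at h1
    exact zero_ne_one h1
  have hCpure : ∀ u w, (Units.val C) *ᵥ pure u w = pure (s⁻¹ • ((Units.val a₁) *ᵥ u)) w := fun u w => by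
    conv_rhs => rw [← hs w, pure_smul_left, pure_smul_right, inv_smul_smul₀ hs0]
    rw [hC, hab, kr_pure]
  have ha₁e : s⁻¹ • ((Units.val a₁) *ᵥ e) = e := by
    funext i
    have h1 := congrFun ((hCpure e (Pi.single i₀ 1)).symm.trans (hCe _)) (i, i₀)
    simpa [TensorMax.pure] using h1
  -- the image of the other line
  set z := s⁻¹ • ((Units.val a₁) *ᵥ e') - e' with hz
  have hdecU := fun u : Uv => decomp_two hβ (by rw [Fintype.card_fin, hk2]) hee he'0 hee' he'e u
  have hdec : ∀ x : Fin k × Fin n → F, ∃ p r, x = pure e p + pure e' r := fun x => by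
    refine ⟨∑ i, β (Pi.single i 1) e' • TensorMax.row x i, ∑ i, β (Pi.single i 1) e • TensorMax.row x i, ?_⟩
    conv_lhs => rw [sum_rows x]
    rw [← pureL_apply e, ← pureL_apply e', map_sum, map_sum, ← Finset.sum_add_distrib]
    refine Finset.sum_congr rfl fun i _ => ?_
    rw [pureL_apply, pureL_apply, pure_smul_right, pure_smul_right, ← pure_smul_left, ← pure_smul_left,
      ← pure_add_left, ← hdecU]
  choose p r hpr using fun w => hdec ((Units.val g) *ᵥ pure e' w)
  have hzr : ∀ w, pure z (r w) = pure e (c • B w) := by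
    intro w
    have h1 : (Units.val C) *ᵥ ((Units.val g) *ᵥ pure e' w) =
        (Units.val g) *ᵥ pure e' w + pure e (c • B w) := by
      rw [hC, mulVec_mul_GL, inv_mulVec_cancel, mulVec_mul_GL, kr_pure, hax, he'e, mul_one, Units.val_one,
        one_mulVec, pure_add_left, pure_smul_left, mulVec_add, mulVec_smul, hB, pure_smul_right]
    rw [hpr w, mulVec_add, hCe, hCpure, show s⁻¹ • ((Units.val a₁) *ᵥ e') = e' + z by rw [hz, add_sub_cancel],
      pure_add_left, ← add_assoc] at h1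
    exact add_left_cancel h1
  have hzr' : ∀ w, (ρ ⬝ᵥ z) • r w = c • B w := fun w => by
    have h1 := congrArg (comb ρ) (hzr w)
    rwa [comb_pure, comb_pure, hρ, one_smul] at h1
  have hρz : ρ ⬝ᵥ z ≠ 0 := fun h0 => by
    obtain ⟨w, hw⟩ := hBsurj (Pi.single i₀ 1)
    have h1 := congrFun (hzr' w) i₀
    rw [h0, zero_smul, hw, Pi.zero_apply, Pi.smul_apply, Pi.single_eq_same, smul_eq_mul, mul_one] at h1
    exact hc0 h1.symm
  set ν := c / (ρ ⬝ᵥ z) with hν
  have hr : ∀ w, r w = ν • B w := fun w => by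
    rw [hν, div_eq_inv_mul, mul_smul, ← hzr', inv_smul_smul₀ hρz]
  have hν0 : ν ≠ 0 := div_ne_zero hc0 hρz
  have hge' : ∀ w, (Units.val g) *ᵥ pure e' w = pure e (p w) + pure e' (ν • B w) := fun w => by rw [hpr w, hr]
  have hBγ₁ : ∀ w w', σ ν * γ (B w) (B w') = γ w w' := fun w w' => by
    have h1 := iso_M hO.toCore hg (pure e w) (pure e' w')
    rw [hB, hge', add_right hP.whole, hP.mul, hP.mul, hee, hee', hP.mul, hee', smul_right hh] at h1
    linear_combination h1
  obtain ⟨w₁, hw₁⟩ : ∃ w, γ w w ≠ 0 := by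
    by_contra hc'
    push Not at hc'
    have hne' : (Pi.single i₀ (1 : F) : Wv) ≠ 0 := fun h0 => by simpa using congrFun h0 i₀
    exact hne' (hh.nd _ fun x => polar_zero hh (S := ⊤) (fun y _ => hc' y) trivial trivial)
  have hνs : σ ν = ν := by
    have h1 := hBγ₁ w₁ w₁
    have h2 := congrArg σ h1
    rw [map_mul, hh.inv, self_fixed hh, self_fixed hh] at h2
    refine mul_right_cancel₀ (b := γ (B w₁) (B w₁)) (fun h0 => hw₁ ?_) (h1.trans h2.symm)
    rw [← h1, h0, mul_zero]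
  have hBγ : ∀ w w', γ (B w) (B w') = ν⁻¹ * γ w w' := fun w w' => by
    rw [← hBγ₁ w w', hνs, inv_mul_cancel_left₀ hν0]
  -- the Kronecker part
  let A : Uv →ₗ[F] Uv :=
    (UnitaryInLinear.form hβ e').smulRight e + ν • (UnitaryInLinear.form hβ e).smulRight e'
  have hA : ∀ u, A u = β u e' • e + ν • β u e • e' := fun u => rfl
  have hAβ : ∀ u u', β (A u) (A u') = ν * β u u' := fun u u' => by
    conv_rhs => rw [hdecU u, hdecU u']
    simp only [hA, hβ.add, add_right hβ, hβ.smul, smul_right hβ, hνs, hee, he'0, hee', he'e]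
    ring
  have hAinj : Function.Injective A := (injective_iff_map_eq_zero A).2 fun u hu => hβ.nd u fun x => by
    have := hAβ u x
    rw [hu, zero_left hβ] at this
    exact (mul_eq_zero.1 this.symm).resolve_left hν0
  have toGL : ∀ {m : ℕ} (T : (Fin m → F) →ₗ[F] (Fin m → F)), Function.Injective T →
      ∃ a : GL (Fin m) F, ∀ x, (Units.val a) *ᵥ x = T x := by
    intro m T hT
    have hu : IsUnit (LinearMap.toMatrix' T) := Matrix.mulVec_injective_iff_isUnit.1 fun x y e => hT (by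
      simpa [LinearMap.toMatrix'_mulVec] using e)
    exact ⟨hu.unit, fun x => by rw [IsUnit.unit_spec, LinearMap.toMatrix'_mulVec]⟩
  obtain ⟨a₀, ha₀⟩ := toGL A hAinj
  obtain ⟨b₀, hb₀⟩ := toGL B hBinj
  have hkiso : ∀ x y, Φ ((Units.val (kr a₀ b₀)) *ᵥ x) ((Units.val (kr a₀ b₀)) *ᵥ y) = Φ x y :=
    kr_iso hP (mul_inv_cancel₀ hν0) (fun u u' => by rw [ha₀, ha₀]; exact hAβ u u')
      (fun w w' => by rw [hb₀, hb₀]; exact hBγ w w')
  have hAe : A e = e := by rw [hA, hee, hee', one_smul, zero_smul, smul_zero, add_zero]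
  have hAe' : A e' = ν • e' := by rw [hA, he'0, he'e, one_smul, zero_smul, zero_add]
  set x₀ := (kr a₀ b₀)⁻¹ * g with hx₀
  have hxe : ∀ w, (Units.val x₀) *ᵥ pure e w = pure e w := fun w => by
    refine mulVec_inj (kr a₀ b₀) ?_
    rw [← mulVec_mul_GL, hx₀, mul_inv_cancel_left, hB, kr_pure, ha₀, hb₀, hAe]
  have hxe' : ∀ w, ∃ q, (Units.val x₀) *ᵥ pure e' w = pure e' w + pure e q := fun w => by
    obtain ⟨q, hq⟩ := hBsurj (p w)
    refine ⟨q, mulVec_inj (kr a₀ b₀) ?_⟩
    rw [← mulVec_mul_GL, hx₀, mul_inv_cancel_left, hge', mulVec_add, kr_pure, kr_pure, ha₀, ha₀, hb₀, hb₀, hAe,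
      hAe', hq, pure_smul_left, pure_smul_right, add_comm]
  have hxdet : (Units.val x₀).det = 1 := by
    obtain ⟨ch, hch⟩ := CharP.exists F
    haveI : Fact ch.Prime := ⟨(CharP.char_is_prime_or_zero F ch).resolve_right (CharP.char_ne_zero_of_finite F ch)⟩
    haveI : Nonempty (Fin k × Fin n) := ⟨(⟨0, by omega⟩, i₀)⟩
    set N := Units.val x₀ - 1 with hN
    have hNx : ∀ x, N *ᵥ x = (Units.val x₀) *ᵥ x - x := fun x => by rw [hN, sub_mulVec, one_mulVec]
    have hN2 : N ^ 2 = 0 := Matrix.ext_of_mulVec_single fun i => by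
      rw [zero_mulVec, pow_two, ← mulVec_mulVec]
      obtain ⟨p', r', hpr'⟩ := hdec (Pi.single i 1)
      obtain ⟨q, hq⟩ := hxe' r'
      rw [hNx, hNx, hpr', mulVec_add, hxe, hq]
      rw [show pure e p' + (pure e' r' + pure e q) - (pure e p' + pure e' r') = pure e q by abel, hxe, sub_self]
    refine det_eq_one_of_pow ch (t := 1) ?_
    have h4 : N ^ ch ^ 1 = 0 := pow_eq_zero_of_le (by
      rw [pow_one]; exact (Fact.out : ch.Prime).two_le) hN2
    rw [hN, sub_pow_char_pow_of_commute _ _ (Commute.one_right _), one_pow, sub_eq_zero] at h4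
    exact h4
  have hgx : g = kr a₀ b₀ * x₀ := by rw [hx₀, mul_inv_cancel_left]
  have hkM : kr a₀ b₀ ∈ M := hO.ge ⟨kr_mem_kron a₀ b₀, hkiso, by
    have h1 := (hO.le hg).2
    rw [hgx, Units.val_mul, det_mul, hxdet, mul_one] at h1
    exact h1⟩
  rw [hgx]
  exact mul_mem (kr_mem_kron _ _) (hfix (mul_mem (inv_mem hkM) hg) hxe)

variable (hex : (∃ c : F, σ c = c ∧ c ≠ 0 ∧ c ≠ 1) ∨ 3 ≤ k)
include hex

/-- some pure image of `e ⊗ W` has two isotropic factors -/
theorem exists_pure_iso {e : Uv} (he0 : e ≠ 0) (hee : β e e = 0) {g : GL (Fin k × Fin n) F} (hg : g ∈ M) :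
    ∃ w a r, (Units.val g) *ᵥ pure e w = pure a r ∧ a ≠ 0 ∧ β a a = 0 ∧ r ≠ 0 ∧ γ r r = 0 := by
  have hP := hO.pair
  have hβ := hP.left
  have hh := hP.right
  have h3 : Fintype.card (Fin n) = 3 := by rw [Fintype.card_fin, hn3]
  by_contra hcon
  push Not at hcon
  set img' : Wv →ₗ[F] (Fin k × Fin n → F) := (Matrix.toLin' (Units.val g)).comp (pureL e) with himg'
  have himg : ∀ w, img' w = (Units.val g) *ᵥ pure e w := fun w => rfl
  let P : Uv → Wv → Prop := fun a b => a ≠ 0 ∧ b ≠ 0 ∧ ∃ w, (Units.val g) *ᵥ pure e w = pure a b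
  have horth : ∀ {a a' b b'}, P a b → P a' b' → β a a' * γ b b' = 0 := by
    rintro a a' b b' ⟨-, -, w, hw⟩ ⟨-, -, w', hw'⟩
    rw [← hP.mul, ← hw, ← hw', iso_M hO.toCore hg, hP.mul, hee, zero_mul]
  have hnot : ∀ {a b}, P a b → β a a = 0 → γ b b ≠ 0 := fun {a b} ⟨ha, hb, w, hw⟩ haa =>
    hcon w a b hw ha haa hb
  -- the second entries with isotropic first entry
  let S : Set Wv := {b | ∃ a, P a b ∧ β a a = 0}
  have hS0 : ∀ b ∈ S, γ b b ≠ 0 := fun b ⟨a, ha, haa⟩ => hnot ha haa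
  have hS : ∀ b ∈ S, ∀ b' ∈ S, b' ∈ Submodule.span F {b} ∨ γ b' b = 0 := by
    rintro b ⟨a, ha, haa⟩ b' ⟨a', ha', haa'⟩
    by_cases haa'' : β a' a = 0
    swap
    · exact Or.inr ((mul_eq_zero.1 (horth ha' ha)).resolve_left haa'')
    refine Or.inl (by_contra fun hb' => ?_)
    obtain ⟨d, hd0, had, hda⟩ := exists_partner hβ ha.1 haa
    obtain ⟨t, ht⟩ : ∃ t : F, a' = t • a := ⟨β a' d, by
      conv_lhs => rw [decomp_two hβ (by rw [Fintype.card_fin, hk2]) haa hd0 had hda a', haa'', zero_smul,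
        add_zero]⟩
    have ht0 : t ≠ 0 := fun h0 => ha'.1 (by rw [ht, h0, zero_smul])
    obtain ⟨r, hr, hr0, hrr⟩ := exists_iso hh (S := Submodule.span F {b, b'}) (by
      have hind : LinearIndependent F ![b, b'] := LinearIndependent.pair_iff.2 fun x y hxy => by
        have hy : y = 0 := by
          by_contra hy
          refine hb' (Submodule.mem_span_singleton.2 ⟨-x / y, ?_⟩)
          rw [div_eq_inv_mul, ← smul_smul, neg_smul, eq_neg_of_add_eq_zero_left hxy, neg_neg, inv_smul_smul₀ hy]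
        refine ⟨?_, hy⟩
        rw [hy, zero_smul, add_zero] at hxy
        exact (smul_eq_zero.1 hxy).resolve_right ha.2.1
      have e1 := finrank_span_eq_card hind
      rw [Matrix.range_cons, Matrix.range_cons, Matrix.range_empty, Set.union_empty, Set.singleton_union,
        Fintype.card_fin] at e1
      omega)
    obtain ⟨x, y, hxy⟩ := Submodule.mem_span_pair.1 hr
    obtain ⟨w, hw⟩ := ha.2.2
    obtain ⟨w', hw'⟩ := ha'.2.2
    refine hcon (x • w + (y / t) • w') a r ?_ ha.1 haa hr0 hrr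
    rw [pure_add_right, pure_smul_right, pure_smul_right, mulVec_add, mulVec_smul, mulVec_smul, hw, hw', ht,
      pure_smul_left, smul_smul, div_mul_cancel₀ _ ht0, ← pure_smul_right, ← pure_smul_right, ← pure_add_right,
      hxy]
  obtain ⟨b₁, b₂, b₃, h11, h22, h33, h12, h13, h23, hcov⟩ := exists_frame hh h3 S hS0 hS
  obtain ⟨c, hc, hc0, hc1⟩ := hex.resolve_right (by omega)
  obtain ⟨s, hs⟩ := exists_off_frame hh hc hc0 hc1 h11 h22 h33 h12 h13 h23
  -- each of the three points carries an anisotropic first entry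
  have hB : ∀ i, ∃ (a : Uv) (t : F), t ≠ 0 ∧ P a (t • s i) ∧ β a a ≠ 0 := by
    intro i
    obtain ⟨hs0, hss, hb1, hb2, hb3, -⟩ := hs i
    obtain ⟨w, hw, hw0⟩ := Submodule.exists_mem_ne_zero_of_ne_bot
      (p := LinearMap.ker ((eta hP (s i)).comp img')) fun h0 => by
        have h1 := LinearMap.finrank_range_of_inj (LinearMap.ker_eq_bot.1 h0)
        have h2 := Submodule.finrank_le (LinearMap.range ((eta hP (s i)).comp img'))
        rw [h1, Module.finrank_fintype_fun_eq_card, Module.finrank_fintype_fun_eq_card, Fintype.card_fin,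
          Fintype.card_fin] at h2
        omega
    obtain ⟨a, b, hab⟩ := pure_image hO hex hno hg hs0 hss hw
    have hne : pure a b ≠ (0 : Fin k × Fin n → F) := fun h0 =>
      mulVec_ne_zero g (pure_ne_zero he0 hw0) (hab.trans h0)
    have ha0 : a ≠ 0 := fun h0 => hne (by rw [h0, pure_zero_left])
    have hb0 : b ≠ 0 := fun h0 => hne (by rw [h0, pure_zero_right])
    have hbs : γ b (s i) = 0 := by
      have h1 : eta hP (s i) ((Units.val g) *ᵥ pure e w) = 0 := hw
      rw [hab, eta_pure] at h1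
      exact (smul_eq_zero.1 h1).resolve_right ha0
    have haa : β a a ≠ 0 := fun haa => by
      rcases hcov b ⟨a, ⟨ha0, hb0, w, hab⟩, haa⟩ with h | h | h <;>
        obtain ⟨t, rfl⟩ := Submodule.mem_span_singleton.1 h <;>
        rw [hh.smul] at hbs
      · exact hb1 ((mul_eq_zero.1 hbs).resolve_left fun h0 => hb0 (by rw [h0, zero_smul]))
      · exact hb2 ((mul_eq_zero.1 hbs).resolve_left fun h0 => hb0 (by rw [h0, zero_smul]))
      · exact hb3 ((mul_eq_zero.1 hbs).resolve_left fun h0 => hb0 (by rw [h0, zero_smul]))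
    have hbb : γ b b = 0 := (mul_eq_zero.1 (horth ⟨ha0, hb0, w, hab⟩ ⟨ha0, hb0, w, hab⟩)).resolve_left haa
    obtain ⟨t, rfl⟩ := Submodule.mem_span_singleton.1 (iso_perp_line hh h3 hs0 hss hbb hbs)
    exact ⟨a, t, fun h0 => hb0 (by rw [h0, zero_smul]), ⟨ha0, hb0, w, hab⟩, haa⟩
  choose a t ht hPa haa using hB
  have hperp : ∀ i j, i ≠ j → β (a i) (a j) = 0 := fun i j hij => by
    refine (mul_eq_zero.1 (horth (hPa i) (hPa j))).resolve_right ?_
    rw [hh.smul, smul_right hh]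
    refine mul_ne_zero (ht i) (mul_ne_zero (by simpa using ht j) fun h0 => ?_)
    exact (hs j).2.2.2.2.2 i hij (iso_perp_line hh h3 (hs j).1 (hs j).2.1 (hs i).2.1 h0)
  -- two of them are orthogonal to the third
  let L := UnitaryInLinear.form hβ (a 0)
  have h1 := LinearMap.finrank_range_add_finrank_ker L
  rw [LinearMap.range_eq_top.2 fun p => ⟨(p / β (a 0) (a 0)) • a 0, by
    show β _ (a 0) = p
    rw [hβ.smul, div_mul_cancel₀ _ (haa 0)]⟩, finrank_top, Module.finrank_self,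
    Module.finrank_fintype_fun_eq_card, Fintype.card_fin] at h1
  obtain ⟨r, hr⟩ := (finrank_eq_one_iff_of_nonzero' (⟨a 1, hperp 1 0 (by decide)⟩ : LinearMap.ker L)
    (fun h => haa 1 (by rw [show a 1 = 0 from congrArg Subtype.val h, zero_left hβ]))).1
    (show Module.finrank F (LinearMap.ker L) = 1 by omega) ⟨a 2, hperp 2 0 (by decide)⟩
  have h2 := hperp 1 2 (by decide)
  rw [← show r • a 1 = a 2 from congrArg Subtype.val hr, smul_right hβ] at h2
  rcases mul_eq_zero.1 h2 with h' | h'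
  · have hr0 : r = 0 := by simpa using h'
    refine haa 2 ?_
    rw [← show r • a 1 = a 2 from congrArg Subtype.val hr, hr0, zero_smul, zero_left hβ]
  · exact haa 1 h'

/-- overgroups without pure centres consist of Kronecker products -/
theorem le_kron_three : M ≤ Cfsg.Geo.kroneckerSubgroup k n F := by
  intro g hg
  have hP := hO.pair
  have hβ := hP.left
  have hh := hP.right
  obtain ⟨e, he0, hee⟩ := exists_iso_top hβ (by rw [Fintype.card_fin]; omega)
  obtain ⟨w₀, a, r, hw₀, ha0, haa, hr0, hrr⟩ := exists_pure_iso hO hno hk2 hn3 hex he0 hee hg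
  obtain ⟨d, hd0, had, hda⟩ := exists_partner hβ ha0 haa
  obtain ⟨c, hc0, hc⟩ := exists_skew hh
  obtain ⟨t, ht, htx⟩ := exists_tv hh hrr (trace_zero_of hh hc)
  have htT : t ∈ roots σ γ := ⟨ht, r, hr0, hrr, c, hc0, trace_zero_of hh hc, htx⟩
  have hfix : ∀ x, (Units.val (kr (1 : GL (Fin k) F) t)) *ᵥ x = x + c • pure (eta hP r x) r := fun x =>
    TensorMax.ext_row fun i => by
      rw [kr_coe, Units.val_one, row_one_kron, htx]
      show _ = TensorMax.row x i + c • (γ (TensorMax.row x i) r • r)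
      rw [smul_smul]
  set g₀ := g⁻¹ * kr 1 t * g with hg₀
  have hg₀M : g₀ ∈ M := mul_mem (mul_mem (inv_mem hg) (kr_mem_M hO.toCore (one_mem (isoSL β)) ht)) hg
  have hg₀K : g₀ ∈ Cfsg.Geo.kroneckerSubgroup k n F := by
    refine kron_of_line hO hno hk2 hn3 he0 hee hg₀M fun w => ?_
    set x := (Units.val g) *ᵥ pure e w with hx
    obtain ⟨l, hl⟩ : ∃ l : F, eta hP r x = l • a := by
      refine ⟨β (eta hP r x) d, ?_⟩
      have h1 : β (eta hP r x) a = 0 := by
        rw [← form_pure hP, ← hw₀, hx, iso_M hO.toCore hg, hP.mul, hee, zero_mul]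
      conv_lhs => rw [decomp_two hβ (by rw [Fintype.card_fin, hk2]) haa hd0 had hda (eta hP r x), h1, zero_smul,
        add_zero]
    refine ⟨w + (c * l) • w₀, mulVec_inj g ?_⟩
    rw [hg₀, mulVec_mul_GL, mulVec_mul_GL, mulVec_inv_cancel, hfix, ← hx, hl, pure_smul_left, ← hw₀,
      pure_add_right, pure_smul_right, mulVec_add, mulVec_smul, smul_smul, ← hx]
  obtain ⟨p, hp⟩ := CharP.exists F
  haveI : Fact p.Prime := ⟨(CharP.char_is_prime_or_zero F p).resolve_right (CharP.char_ne_zero_of_finite F p)⟩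
  have h3 := kron_of_conj (by omega) hO.hkn (roots_spec hO hex hno p) (inv_mem hg) htT
    (by rw [inv_inv]; exact hg₀K)
  simpa using inv_mem h3

end Cfsg.Agent.Forms.Max.TensorRes.Unitary
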